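import Cfsg.Agent.Lib.CMax.SpFourRes.Setup
import Cfsg.Agent.Lib.Perm.Trans.ThreeRes.Tv.PairField

/-!
# A transvection centre with two multiples

Then the multiples form one subfield at every centre and contain all form values; if this subfield is everything,
every nonzero vector is a centre.
-/

set_option autoImplicit false
set_option linter.all false

namespace CfsgLib.CMax.SpFourRes

open Matrix Cfsg.Lie
open CfsgLib.Perm.Dickson (upS loS SL2F)

variable {F : Type*} [Field F] [CharP F 2]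

local notation "V" => Fin 4 → F
local notation "M4" => Matrix (Fin 4) (Fin 4) F
local notation "G4" => GL (Fin 4) F
local notation:100 g:100 " ⬝ₐ " v:101 => (Units.val g : Matrix (Fin 4) (Fin 4) F) *ᵥ v

variable {P : Subgroup (GL (Fin 4) F)}

/-- The transvections generate. -/
theorem Base.induction (hb : Base P) (hA : (A P).Nonempty) {p : G4 → Prop} (h1 : p 1)
    (hm : ∀ g h, g ∈ P → h ∈ P → p g → p h → p (g * h)) (ht : ∀ a ∈ A P, p (tv a)) {g : G4} (hg : g ∈ P) : p g := by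
  haveI := hb.simple
  let N : Subgroup P := Subgroup.closure {x : P | ∃ a ∈ A P, (x : G4) = tv a}
  have hN : N.Normal := ⟨fun n hn x => by
    induction hn using Subgroup.closure_induction with
    | mem n hn =>
      obtain ⟨a, ha, e⟩ := hn
      refine Subgroup.subset_closure ⟨_, hb.A_map x.2 ha, ?_⟩
      rw [Subgroup.coe_mul, Subgroup.coe_mul, e, Subgroup.coe_inv, tv_conj (hb.le x.2)]
    | one => rw [mul_one, mul_inv_cancel]; exact N.one_mem
    | mul m n _ _ h1 h2 =>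
      have : x * (m * n) * x⁻¹ = x * m * x⁻¹ * (x * n * x⁻¹) := by group
      rw [this]; exact N.mul_mem h1 h2
    | inv m _ h1 =>
      have : x * m⁻¹ * x⁻¹ = (x * m * x⁻¹)⁻¹ := by group
      rw [this]; exact N.inv_mem h1⟩
  obtain ⟨a, ha⟩ := hA
  have htop : N = ⊤ := hN.eq_bot_or_eq_top.resolve_left fun e => by
    have h : (⟨tv a, ha.2⟩ : P) ∈ N := Subgroup.subset_closure ⟨a, ha, rfl⟩
    rw [e, Subgroup.mem_bot] at h
    exact tv_ne_one ha.1 (congrArg Subtype.val h)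
  have key : ∀ x : P, x ∈ N → p (x : G4) ∧ p ((x⁻¹ : P) : G4) := by
    intro x hx
    induction hx using Subgroup.closure_induction with
    | mem n hn =>
      obtain ⟨a, ha, e⟩ := hn
      exact ⟨e ▸ ht a ha, by rw [Subgroup.coe_inv, e, tv_inv]; exact ht a ha⟩
    | one => exact ⟨h1, by simpa using h1⟩
    | mul m n _ _ e1 e2 => exact ⟨hm _ _ m.2 n.2 e1.1 e2.1, by
        rw [_root_.mul_inv_rev]; exact hm _ _ (n⁻¹).2 (m⁻¹).2 e2.2 e1.2⟩
    | inv m _ e1 => exact ⟨e1.2, by rw [inv_inv]; exact e1.1⟩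
  exact (key ⟨g, hg⟩ (htop ▸ Subgroup.mem_top _)).1

/-- The scalars of the centres on the line of `a`. -/
def T (P : Subgroup G4) (a : V) (s : F) : Prop := tv (s • a) ∈ P

theorem T_map (hb : Base P) {g : G4} (hg : g ∈ P) {a : V} {s : F} (h : T P a s) : T P (g ⬝ₐ a) s := by
  have := P.mul_mem (P.mul_mem hg h) (P.inv_mem hg)
  rwa [tv_conj (hb.le hg), Matrix.mulVec_smul] at this

theorem T_map_iff (hb : Base P) {g : G4} (hg : g ∈ P) (a : V) (s : F) : T P (g ⬝ₐ a) s ↔ T P a s :=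
  ⟨fun h => by simpa only [inv_mulVec] using T_map hb (P.inv_mem hg) h, T_map hb hg⟩

variable [Fintype F]

theorem subfield_sqrt (K : Subfield F) {s : F} (h : s ^ 2 ∈ K) : s ∈ K := by
  haveI : Finite K := Subtype.finite
  obtain ⟨y, hy⟩ := Finite.injective_iff_surjective.1 (fun x y (e : x ^ 2 = y ^ 2) =>
    Subtype.ext (sq_inj (congrArg Subtype.val e)) : Function.Injective (fun x : K => x ^ 2)) ⟨_, h⟩
  exact sq_inj (congrArg Subtype.val hy) ▸ y.2

/-- A pair of nonperpendicular centres, one with two multiples. -/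
theorem pair (hb : Base P) {a b : V} (ha : a ∈ A P) (hbig : ∃ μ : F, μ ≠ 0 ∧ μ ≠ 1 ∧ μ • a ∈ A P) (hb' : b ∈ A P)
    (hab : altForm4 a b ≠ 0) : ∃ K : Subfield F, altForm4 a b ∈ K ∧ ∀ s, T P a s ↔ s ∈ K := by
  classical
  obtain ⟨b₁, hb₁⟩ : ∃ b₁, b₁ = (altForm4 a b)⁻¹ • b := ⟨_, rfl⟩
  have h1 : altForm4 a b₁ = 1 := by rw [hb₁, f_smul_r, inv_mul_cancel₀ hab]
  let m : SL2F F → M4 := fun M => LinearMap.toMatrix' (LinearMap.id +
    ((M.1 0 0 - 1) • fL b₁ + M.1 0 1 • fL a).smulRight a + (M.1 1 0 • fL b₁ + (M.1 1 1 - 1) • fL a).smulRight b₁)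
  have hm : ∀ M (x : V), m M *ᵥ x = x + ((M.1 0 0 - 1) * altForm4 x b₁ + M.1 0 1 * altForm4 x a) • a +
      (M.1 1 0 * altForm4 x b₁ + (M.1 1 1 - 1) * altForm4 x a) • b₁ := fun M x => by
    rw [← Matrix.toLin'_apply]
    simp only [m, Matrix.toLin'_toMatrix']
    rfl
  let f : SL2F F →* M4 :=
    { toFun := m
      map_one' := Matrix.ext_iff_mulVec.2 fun x => by rw [hm, one_mulVec]; simp
      map_mul' := fun M N => Matrix.ext_iff_mulVec.2 fun x => by
        rw [← mulVec_mulVec, hm, hm N, hm]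
        simp only [Matrix.SpecialLinearGroup.coe_mul, Matrix.mul_apply, Fin.sum_univ_two, f_add_l, f_smul_l,
          f_self, h1, f_comm b₁ a, mul_zero, add_zero, zero_add, mul_one]
        module }
  let Φ : SL2F F →* G4 := f.toHomUnits
  have hΦ : ∀ M (x : V), Φ M ⬝ₐ x = m M *ᵥ x := fun _ _ => rfl
  have hup : ∀ t : F, Φ (upS t) = tv (sr t • a) := fun t => gl_ext fun x => by
    rw [hΦ, hm, tv_apply, f_smul_r, smul_smul, mul_comm (sr t), mul_assoc, ← pow_two, sr_sq]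
    simp [upS, mul_comm t]
  have hlo : ∀ t : F, Φ (loS t) = tv (sr t • b₁) := fun t => gl_ext fun x => by
    rw [hΦ, hm, tv_apply, f_smul_r, smul_smul, mul_comm (sr t), mul_assoc, ← pow_two, sr_sq]
    simp [loS, mul_comm t]
  have hG : ∀ {t : F}, upS t ∈ P.comap Φ ↔ T P a (sr t) := fun {t} => by
    rw [Subgroup.mem_comap, hup]; rfl
  have hupa : upS 1 ∈ P.comap Φ := hG.2 (by
    show tv (sr 1 • a) ∈ P
    rw [sr_of_sq (one_pow 2), one_smul]; exact ha.2)
  have hloe : loS (altForm4 a b ^ 2) ∈ P.comap Φ := by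
    rw [Subgroup.mem_comap, hlo, sr_of_sq rfl, hb₁, smul_smul, mul_inv_cancel₀ hab, one_smul]; exact hb'.2
  obtain ⟨μ, hμ0, hμ1, hμ⟩ := hbig
  haveI : Fact (Nat.Prime 2) := ⟨Nat.prime_two⟩
  rcases CfsgLib.Perm.Trans.ThreeRes.Tv.pair_field 2 hupa (pow_ne_zero 2 hab) hloe (fun _ => ⟨μ ^ 2, hG.2 (by
      show tv (sr (μ ^ 2) • a) ∈ P
      rw [sr_of_sq rfl]; exact hμ.2), pow_ne_zero 2 hμ0, fun e => hμ1 (sq_eq_one e)⟩) with
    ⟨K, he, hK⟩ | ⟨h3, -, -⟩
  · refine ⟨K, subfield_sqrt K he, fun s => ?_⟩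
    have h := hK (s ^ 2)
    rw [hG, sr_of_sq rfl] at h
    exact ⟨fun hs => subfield_sqrt K (h.1 hs), fun hs => h.2 (pow_mem hs 2)⟩
  · omega

theorem swap_mem (hb : Base P) {a b : V} (ha : a ∈ A P) (hb' : b ∈ A P) (h : altForm4 a b = 1) :
    ∃ g ∈ P, g ⬝ₐ a = b := by
  refine ⟨tv a * tv b * tv a, P.mul_mem (P.mul_mem ha.2 hb'.2) ha.2, ?_⟩
  simp only [Units.val_mul, ← Matrix.mulVec_mulVec, tv_apply, f_self, zero_smul, add_zero, h, one_smul, f_add_l,
    f_comm b a, zero_add]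
  rw [add_comm a b, add_assoc, v_add_self, add_zero]

/-- The common subfield. -/
theorem exists_field (hb : Base P) {a₀ : V} (ha₀ : a₀ ∈ A P) (hbig : ∃ μ : F, μ ≠ 0 ∧ μ ≠ 1 ∧ μ • a₀ ∈ A P) :
    ∃ K : Subfield F, ∀ a ∈ A P, (∀ s, T P a s ↔ s ∈ K) ∧ ∀ b ∈ A P, altForm4 a b ∈ K := by
  have hsA := hb.span_inv (fun g hg s hs => hb.A_map hg hs) ha₀ ha₀.1
  obtain ⟨b₀, hb₀, h0⟩ := exists_nonperp hsA ha₀.1
  obtain ⟨K, -, hK⟩ := pair hb ha₀ hbig hb₀ h0
  let S : Set V := {a | a ∈ A P ∧ ∀ s, T P a s ↔ s ∈ K}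
  obtain ⟨μ, hμ0, hμ1, hμ⟩ := hbig
  have hμK : μ ∈ K := (hK μ).1 hμ.2
  have hstep : ∀ a ∈ S, ∀ b ∈ A P, altForm4 a b ≠ 0 → altForm4 a b ∈ K ∧ b ∈ S := by
    rintro a ⟨ha, haK⟩ b hb' hab
    obtain ⟨K', hl, hK'⟩ := pair hb ha ⟨μ, hμ0, hμ1, smul_ne_zero hμ0 ha.1, (haK μ).2 hμK⟩ hb' hab
    have hlK : altForm4 a b ∈ K := (haK _).1 ((hK' _).2 hl)
    refine ⟨hlK, hb', fun s => ?_⟩
    have ha' : (altForm4 a b)⁻¹ • a ∈ A P := ⟨smul_ne_zero (inv_ne_zero hab) ha.1, (haK _).2 (K.inv_mem hlK)⟩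
    obtain ⟨g, hg, hge⟩ := swap_mem hb ha' hb' (by rw [f_smul_l, inv_mul_cancel₀ hab])
    rw [← hge, T_map_iff hb hg, T, smul_smul]
    refine (haK _).trans ⟨fun h => ?_, fun h => K.mul_mem h (K.inv_mem hlK)⟩
    have := K.mul_mem h hlK
    rwa [mul_assoc, inv_mul_cancel₀ hab, mul_one] at this
  have hsS : Submodule.span F S = ⊤ := by
    refine hb.span_inv (fun g hg s hs => ⟨hb.A_map hg hs.1, fun t => ?_⟩) (⟨ha₀, hK⟩ : a₀ ∈ S) ha₀.1
    rw [T_map_iff hb hg]; exact hs.2 t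
  have hall : ∀ a ∈ A P, a ∈ S := fun a ha => by
    obtain ⟨s, hs, h⟩ := exists_nonperp hsS ha.1
    exact (hstep s hs a ha (by rwa [f_comm])).2
  refine ⟨K, fun a ha => ⟨(hall a ha).2, fun b hb' => ?_⟩⟩
  by_cases h : altForm4 a b = 0
  · rw [h]; exact K.zero_mem
  · exact (hstep a (hall a ha) b hb' h).1

/-- Full centres give all nonzero vectors. -/
theorem all_of_full (hb : Base P) {a₀ : V} (ha₀ : a₀ ∈ A P) (hF : ∃ μ : F, μ ≠ 0 ∧ μ ≠ 1)
    (hfull : ∀ a ∈ A P, ∀ s : F, s ≠ 0 → s • a ∈ A P) : ∀ v : V, v ≠ 0 → v ∈ A P := by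
  classical
  obtain ⟨μ, hμ0, hμ1⟩ := hF
  have hsA := hb.span_inv (fun g hg s hs => hb.A_map hg hs) ha₀ ha₀.1
  have hyp : ∀ {a b : V}, a ∈ A P → b ∈ A P → altForm4 a b ≠ 0 → a + b ∈ A P := by
    intro a b ha hb' hab
    have hs : sr (altForm4 b a)⁻¹ ≠ 0 := fun e => by
      have := sr_sq (altForm4 b a)⁻¹
      rw [e, zero_pow two_ne_zero, eq_comm, inv_eq_zero, f_comm] at this
      exact hab this
    have h := hb.A_refl (hfull a ha _ hs) hb'
    rwa [f_smul_r, smul_smul, mul_comm (sr _) (altForm4 b a), mul_assoc, ← pow_two, sr_sq,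
      mul_inv_cancel₀ (by rwa [f_comm]), one_smul, add_comm] at h
  have hadd : ∀ {a b : V}, a ∈ A P → b ∈ A P → a + b ≠ 0 → a + b ∈ A P := by
    intro a b ha hb' hne
    by_cases hab : altForm4 a b = 0
    swap
    · exact hyp ha hb' hab
    obtain ⟨u, hu, hu'⟩ := exists_nonperp hsA hne
    rw [f_add_l] at hu'
    have hudiff : altForm4 a u ≠ altForm4 b u := fun e => hu' (by rw [e, CharTwo.add_self_eq_zero])
    obtain ⟨c₀, hc₀, hca, hcb⟩ : ∃ c ∈ A P, altForm4 c a ≠ 0 ∧ altForm4 c b ≠ 0 := by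
      obtain ⟨x, hx, hxa⟩ := exists_nonperp hsA ha.1
      rw [f_comm] at hxa
      by_cases hxb : altForm4 x b = 0
      swap
      · exact ⟨x, hx, hxa, hxb⟩
      obtain ⟨y, hy, hyb⟩ := exists_nonperp hsA hb'.1
      rw [f_comm] at hyb
      by_cases hya : altForm4 y a = 0
      swap
      · exact ⟨y, hy, hya, hyb⟩
      by_cases hxy : altForm4 x y = 0
      swap
      · exact ⟨x + y, hyp hx hy hxy, by rwa [f_add_l, hya, add_zero], by rwa [f_add_l, hxb, zero_add]⟩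
      obtain ⟨z, hz, hz1, hz2⟩ : ∃ z ∈ A P, ¬ (altForm4 z a = 0 ∧ altForm4 z x = 0) ∧
          ¬ (altForm4 z b = 0 ∧ altForm4 z y = 0) := by
        by_contra hcon
        push Not at hcon
        let S : Set V := {v | v ∈ A P ∧ altForm4 v b = 0 ∧ altForm4 v y = 0}
        have hgen : ∀ {g : G4}, g ∈ P → ∀ v ∈ S, g ⬝ₐ v ∈ S := fun {g} hg => by
          refine hb.induction (p := fun g => ∀ v ∈ S, g ⬝ₐ v ∈ S) ⟨a₀, ha₀⟩ (fun v hv => by simpa using hv)
            (fun g h _ _ hg' hh v hv => by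
              rw [Units.val_mul, ← Matrix.mulVec_mulVec]; exact hg' _ (hh v hv)) (fun w hw v hv => ?_) hg
          rw [tv_apply]
          by_cases hw' : altForm4 w a = 0 ∧ altForm4 w x = 0
          · have hvw : altForm4 v w = 0 := by
              have hax : altForm4 a x ≠ 0 := by rwa [f_comm]
              have e0 : rest a x v = 0 := by
                refine li_frame hax (show altForm4 b y ≠ 0 by rwa [f_comm]) hab (by rwa [f_comm]) hxb hxy
                  ⟨f_rest_left hax v, f_rest_right hax v, ?_, ?_⟩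
                · rw [rest, f_add_l, pr, f_smul_l, f_add_l, f_smul_l, f_smul_l, hv.2.1, hab, hxb]; ring
                · rw [rest, f_add_l, pr, f_smul_l, f_add_l, f_smul_l, f_smul_l, hv.2.2, f_comm a y, hya, hxy]; ring
              rw [← pr_add_rest a x v, e0, add_zero, pr, f_smul_l, f_add_l, f_smul_l, f_smul_l, f_comm a w, hw'.1,
                f_comm x w, hw'.2]
              ring
            rw [hvw, zero_smul, add_zero]; exact hv
          · obtain ⟨h1, h2⟩ := hcon w hw (fun e e' => hw' ⟨e, e'⟩)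
            exact ⟨by rw [← tv_apply]; exact hb.A_map hw.2 hv.1,
              by rw [f_add_l, f_smul_l, hv.2.1, h1, mul_zero, add_zero],
              by rw [f_add_l, f_smul_l, hv.2.2, h2, mul_zero, add_zero]⟩
        have haS : a ∈ S := ⟨ha, hab, by rwa [f_comm]⟩
        obtain ⟨s, hs, h⟩ := exists_nonperp (hb.span_inv (fun g hg => hgen hg) haS ha.1) hb'.1
        exact h (by rw [f_comm]; exact hs.2.1)
      obtain ⟨z', hz', hz'a, hz'b⟩ : ∃ z' ∈ A P, altForm4 z' a ≠ 0 ∧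
          (altForm4 z' b = 0 → altForm4 z' y ≠ 0) := by
        by_cases h : altForm4 z a = 0
        · refine ⟨z + x, hyp hz hx (fun e => hz1 ⟨h, e⟩), by rwa [f_add_l, h, zero_add], ?_⟩
          rw [f_add_l, f_add_l, hxb, hxy, add_zero, add_zero]
          exact fun e e' => hz2 ⟨e, e'⟩
        · exact ⟨z, hz, h, fun e e' => hz2 ⟨e, e'⟩⟩
      by_cases h : altForm4 z' b = 0
      · exact ⟨z' + y, hyp hz' hy (hz'b h), by rwa [f_add_l, hya, add_zero], by rwa [f_add_l, h, zero_add]⟩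
      · exact ⟨z', hz', hz'a, h⟩
    obtain ⟨c₁, hc₁, hca₁, hcb₁, hcu⟩ : ∃ c ∈ A P, altForm4 c a ≠ 0 ∧ altForm4 c b ≠ 0 ∧ altForm4 c u ≠ 0 := by
      by_cases h : altForm4 c₀ u = 0
      swap
      · exact ⟨c₀, hc₀, hca, hcb, h⟩
      by_cases h' : altForm4 a u = 0
      · refine ⟨c₀ + b, hyp hc₀ hb' hcb, ?_, ?_, ?_⟩
        · rwa [f_add_l, f_comm b a, hab, add_zero]
        · rwa [f_add_l, f_self, add_zero]
        · rw [f_add_l, h, zero_add]; exact fun e => hudiff (by rw [h', e])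
      · refine ⟨c₀ + a, hyp hc₀ ha hca, ?_, ?_, ?_⟩
        · rwa [f_add_l, f_self, add_zero]
        · rwa [f_add_l, hab, add_zero]
        · rwa [f_add_l, h, zero_add]
    have key : ∀ c ∈ A P, altForm4 c a ≠ 0 → altForm4 c b ≠ 0 → altForm4 c a ≠ altForm4 c b → a + b ∈ A P := by
      intro c hc h1 h2 h3
      have hac : a + c ∈ A P := hyp ha hc (by rwa [f_comm])
      have habc : a + c + b ∈ A P := hyp hac hb' (by rwa [f_add_l, hab, zero_add])
      have h4 := hyp habc hc (by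
        rw [f_add_l, f_add_l, f_self, add_zero, f_comm a c, f_comm b c]
        exact fun e => h3 (CharTwo.add_eq_zero.1 e))
      rwa [add_right_comm a c b, add_assoc, v_add_self, add_zero] at h4
    by_cases he : altForm4 c₁ a = altForm4 c₁ b
    swap
    · exact key c₁ hc₁ hca₁ hcb₁ he
    obtain ⟨s, hs0, hs1, hs2⟩ : ∃ s : F, s ≠ 0 ∧ altForm4 c₁ a + s * altForm4 u a ≠ 0 ∧
        altForm4 c₁ b + s * altForm4 u b ≠ 0 := by
      have one_bad : ∀ {p q s t : F}, p ≠ 0 → p + s * q = 0 → p + t * q = 0 → s = t := fun {p q s t} hp e1 e2 => by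
        have hq : q ≠ 0 := fun hq => hp (by rw [hq, mul_zero, add_zero] at e1; exact e1)
        exact mul_right_cancel₀ hq (by linear_combination e1 - e2)
      have hm : (1 + μ) ≠ 0 := fun e => hμ1 (CharTwo.add_eq_zero.1 e).symm
      by_contra hcon
      push Not at hcon
      have hμμ : (1 : F) + μ ≠ μ := fun e => one_ne_zero (α := F) (by linear_combination e)
      have hμm : (1 : F) + μ ≠ 1 := fun e => hμ0 (by linear_combination e)
      by_cases e1 : altForm4 c₁ a + 1 * altForm4 u a = 0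
      · by_cases e2 : altForm4 c₁ a + μ * altForm4 u a = 0
        · exact hμ1 (one_bad hca₁ e2 e1)
        · by_cases e3 : altForm4 c₁ a + (1 + μ) * altForm4 u a = 0
          · exact hμm (one_bad hca₁ e3 e1)
          · exact hμμ (one_bad hcb₁ (hcon _ hm e3) (hcon _ hμ0 e2))
      · have f1 := hcon 1 one_ne_zero e1
        by_cases e2 : altForm4 c₁ a + μ * altForm4 u a = 0
        · by_cases e3 : altForm4 c₁ a + (1 + μ) * altForm4 u a = 0
          · exact hμμ (one_bad hca₁ e3 e2)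
          · exact hμm (one_bad hcb₁ (hcon _ hm e3) f1)
        · exact hμ1 (one_bad hcb₁ (hcon _ hμ0 e2) f1)
    refine key (c₁ + s • u) (hyp hc₁ (hfull u hu s hs0) (by rw [f_smul_r]; exact mul_ne_zero hs0 hcu))
      (by rwa [f_add_l, f_smul_l]) (by rwa [f_add_l, f_smul_l]) ?_
    rw [f_add_l, f_add_l, f_smul_l, f_smul_l, he]
    exact fun e => hudiff (by rw [f_comm a u, f_comm b u]; exact mul_left_cancel₀ hs0 (add_left_cancel e))
  intro v hv
  have : ∀ w : V, w ∈ Submodule.span F (A P) → w = 0 ∨ w ∈ A P := by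
    intro w hw
    induction hw using Submodule.span_induction with
    | mem x hx => exact Or.inr hx
    | zero => exact Or.inl rfl
    | add x y _ _ h1 h2 =>
      rcases h1 with rfl | h1
      · rwa [zero_add]
      rcases h2 with rfl | h2
      · rw [add_zero]; exact Or.inr h1
      exact (em (x + y = 0)).imp id fun h => hadd h1 h2 h
    | smul c x _ h1 =>
      rcases h1 with rfl | h1
      · exact Or.inl (smul_zero c)
      exact (em (c = 0)).imp (fun h => by rw [h, zero_smul]) fun h => hfull x h1 c h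
  exact (this v (hsA ▸ Submodule.mem_top)).resolve_left hv

/-- A centre with two multiples. -/
theorem big_cases (hb : Base P) {a₀ : V} (ha₀ : a₀ ∈ A P) (hbig : ∃ μ : F, μ ≠ 0 ∧ μ ≠ 1 ∧ μ • a₀ ∈ A P) :
    (∀ v : V, v ≠ 0 → v ∈ A P) ∨ RatSp P := by
  obtain ⟨K, hK⟩ := exists_field hb ha₀ hbig
  by_cases hKtop : K = ⊤
  · obtain ⟨μ, hμ0, hμ1, -⟩ := hbig
    exact Or.inl (all_of_full hb ha₀ ⟨μ, hμ0, hμ1⟩ fun a ha s hs =>
      ⟨smul_ne_zero hs ha.1, ((hK a ha).1 s).2 (hKtop ▸ trivial)⟩)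
  · exact Or.inr ⟨K, hKtop, rat_of_values hb (fun g hg s hs => hb.A_map hg hs) ha₀ ha₀.1 fun s hs t ht =>
      (hK s hs).2 t ht⟩

end CfsgLib.CMax.SpFourRes
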