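import Cfsg.Agent.Lib.CMax.SpFourRes.L2Frame

/-!
# `SL(2, 2^k)` in dimension four: the invariant quadratic form and the traces
-/

set_option autoImplicit false
set_option linter.all false

namespace CfsgLib.CMax.SpFourRes.L2

open Matrix Cfsg.Lie

variable {K : Type*} [Field K] [CharP K 2] {L : Type} [Field L] [CharP L 2]
  {ρ : Matrix.SpecialLinearGroup (Fin 2) L →* GL (Fin 4) K}

local notation:100 g:100 " ⬝ₐ " v:101 => (Units.val g : Matrix (Fin 4) (Fin 4) K) *ᵥ v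

namespace Fr

variable (r : Fr ρ)

/-- Exchanging the two vectors of the middle plane. -/
def flipMid (hd : ∀ s, ∃ c : K, ρ (u s) ⬝ₐ r.q' = r.q' + c • r.p) : Fr ρ where
  p := r.p
  q := r.q'
  q' := r.q
  p' := r.p'
  pq := r.pq'
  pq' := r.pq
  pp' := r.pp'
  qq' := by rw [f_comm]; exact r.qq'
  qp' := r.q'p'
  q'p' := r.qp'
  al := r.al
  be := fun k => (r.be k)⁻¹
  tp := r.tp
  tq := r.tq'
  tq' := fun k => by rw [_root_.inv_inv]; exact r.tq k
  tp' := r.tp'
  ep := r.ep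
  eq := hd

/-- Exchanging the two vectors of the isotropic plane. -/
def flipPlane (hfix : ∀ s, ρ (u s) ⬝ₐ r.q = r.q) : Fr ρ where
  p := r.q
  q := r.p
  q' := r.p'
  p' := r.q'
  pq := by rw [f_comm]; exact r.pq
  pq' := r.qp'
  pp' := r.qq'
  qq' := r.pp'
  qp' := r.pq'
  q'p' := by rw [f_comm]; exact r.q'p'
  al := r.be
  be := r.al
  tp := r.tq
  tq := r.tp
  tq' := r.tp'
  tp' := r.tq'
  ep := hfix
  eq := fun s => ⟨0, by rw [r.ep, zero_smul, add_zero]⟩

/-- Another basis of the middle plane. -/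
def turnMid (A B : K) (hA : A ≠ 0) (hbe : ∀ k, r.be k = 1)
    (hq : ∀ s, ρ (u s) ⬝ₐ (B • r.q + A • r.q') = B • r.q + A • r.q') : Fr ρ where
  p := r.p
  q := B • r.q + A • r.q'
  q' := A⁻¹ • r.q
  p' := r.p'
  pq := by rw [f_add_r, f_smul_r, f_smul_r, r.pq, r.pq']; ring
  pq' := by rw [f_smul_r, r.pq, mul_zero]
  pp' := r.pp'
  qq' := by
    rw [f_add_l, f_smul_l, f_smul_l, f_smul_r, f_smul_r, f_self, f_comm r.q' r.q, r.qq']
    field_simp
    ring
  qp' := by rw [f_add_l, f_smul_l, f_smul_l, r.qp', r.q'p']; ring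
  q'p' := by rw [f_smul_l, r.qp', mul_zero]
  al := r.al
  be := fun _ => 1
  tp := r.tp
  tq := fun k => by
    rw [Matrix.mulVec_add, Matrix.mulVec_smul, Matrix.mulVec_smul, r.tq, r.tq', hbe, _root_.inv_one, one_smul,
      one_smul, one_smul]
  tq' := fun k => by rw [Matrix.mulVec_smul, r.tq, hbe, _root_.inv_one, one_smul, one_smul]
  tp' := r.tp'
  ep := r.ep
  eq := fun s => ⟨0, by rw [hq s, zero_smul, add_zero]⟩

end Fr

variable [Finite L] [IsAlgClosed K] [PerfectRing K 2]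

/-- The only possible shape. -/
theorem normal (h : Hyp ρ) (hL : ∃ x : L, x ≠ 0 ∧ x ≠ 1) :
    ∃ (r : Fr ρ) (φ ψ : L →+* K), φ ≠ ψ ∧ (∀ s, r.d s = 0) ∧ r.a 1 ≠ 0 ∧ r.b 1 ≠ 0 ∧
      (∀ s, r.a s = r.a 1 * φ s) ∧ (∀ s, r.b s = r.b 1 * ψ s) ∧ ∀ s, r.c s = r.a s * r.b s := by
  classical
  obtain ⟨r⟩ := exists_fr h
  obtain ⟨k₁, hk₁⟩ := exists_sq_ne_one hL
  have fa : ∀ r' : Fr ρ, ∀ x y, r'.a (x + y) = r'.a x + r'.a y := fun r' x y => (r'.prod_coords h x y).1
  rcases r.a_or_d h with ha | hd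
  · -- the line is fixed
    exfalso
    by_cases hd0 : ∀ s, r.d s = 0
    · exact r.no_one h hL ha hd0
    push Not at hd0
    have hfix : ∀ s, ρ (u s) ⬝ₐ r.q = r.q := fun s => by rw [r.e_q, ha, zero_smul, add_zero]
    by_cases hc0 : ∀ s, r.c s = 0
    · refine (r.flipPlane hfix).no_one h hL (fun s => ?_) (fun s => ?_)
      · show altForm4 (ρ (u s) ⬝ₐ r.p) r.q' = 0
        rw [r.ep, r.pq']
      · show altForm4 (ρ (u s) ⬝ₐ r.p') r.p' = 0
        rw [r.e_p' h, ha, hc0]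
        simp only [f_add_l, f_smul_l, f_self, r.qp', zero_smul, mul_zero, add_zero, zero_mul]
    push Not at hc0
    obtain ⟨hC, φc, hφc⟩ := coord (f := r.c) (fun x y => by rw [(r.prod_coords h x y).2.2.2, ha, ha]; ring)
      (fun k => ⟨_, fun s => (r.bdc_t h k s).2.2⟩) hc0
    obtain ⟨hD, φd, hφd⟩ := coord (f := r.d) (fun x y => (r.prod_coords h x y).2.1)
      (fun k => ⟨_, fun s => (r.bdc_t h k s).1⟩) hd0
    have wt : ∀ k : Lˣ, φc ((k : L) * k) = r.al k * r.al k ∧ φd ((k : L) * k) = r.be k * r.be k := fun k => by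
      have e1 := (r.bdc_t h k 1).2.2
      have e2 := (r.bdc_t h k 1).1
      rw [mul_one, hφc ((k : L) * k)] at e1
      rw [mul_one, hφd ((k : L) * k)] at e2
      exact ⟨mul_left_cancel₀ hC (by linear_combination e1), mul_left_cancel₀ hD (by linear_combination e2)⟩
    have finish : φc = φd → (∀ s, r.b s = φc s * r.b 1) → False := by
      intro e hb
      have hk : r.al k₁ ≠ 1 := fun e1 => hk₁ (φc.injective (by rw [(wt k₁).1, e1, map_one, one_mul]))
      refine r.no_scalar h (k₀ := k₁) (sq_inj ?_) hk ha ⟨φc, fun s =>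
        ⟨hb s, by rw [hφc s]; ring, by rw [hφd s, e]; ring⟩⟩
      rw [pow_two, pow_two, ← (wt k₁).1, ← (wt k₁).2, e]
    have hsq : ∀ x : L, x ≠ 0 → ∃ k : Lˣ, (k : L) * k = x := fun x hx =>
      ⟨Units.mk0 (sr x) (fun e => hx (by rw [← sr_sq x, e, zero_pow two_ne_zero])), by
        rw [Units.val_mk0, ← pow_two, sr_sq]⟩
    by_cases hb0 : ∀ s, r.b s = 0
    · by_cases hab : ∀ k : Lˣ, r.al k = r.be k
      · refine finish (RingHom.ext fun x => ?_) fun s => by rw [hb0, hb0, mul_zero]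
        by_cases hx : x = 0
        · rw [hx, map_zero, map_zero]
        obtain ⟨k, rfl⟩ := hsq x hx
        rw [(wt k).1, (wt k).2, hab]
      push Not at hab
      obtain ⟨k, hk⟩ := hab
      refine r.plane h fun s => ⟨altForm4 (ρ w ⬝ₐ r.p) r.p * r.c s, ?_⟩
      have h0 : altForm4 (ρ w ⬝ₐ r.p) r.q = 0 := Fr.wperp h (r.tp k) (r.tq k) hk (r.al_ne h k)
      conv_lhs => rw [r.expand (ρ w ⬝ₐ r.p), h0, zero_smul, add_zero]
      conv_rhs => arg 1; rw [r.expand (ρ w ⬝ₐ r.p), h0, zero_smul, add_zero]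
      simp only [Matrix.mulVec_add, Matrix.mulVec_smul, r.ep, r.e_q, r.e_p' h, ha, hb0, zero_smul, mul_zero,
        add_zero, zero_mul, smul_add, smul_smul]
      abel
    push Not at hb0
    obtain ⟨hB, φb, hφb⟩ := coord (f := r.b)
      (fun x y => by rw [(r.prod_coords h x y).2.2.1, ha, mul_zero, add_zero])
      (fun k => ⟨_, fun s => (r.bdc_t h k s).2.1⟩) hb0
    obtain ⟨e1, e2⟩ := hom_eq_of_mul_sq φc φd φb fun x => by
      by_cases hx : x = 0
      · rw [hx, map_zero, map_zero, map_zero]; ring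
      obtain ⟨k, rfl⟩ := hsq x hx
      have e := (r.bdc_t h k 1).2.1
      rw [mul_one, hφb ((k : L) * k)] at e
      have e' : φb ((k : L) * k) = r.al k * r.be k := mul_left_cancel₀ hB (by linear_combination e)
      rw [(wt k).1, (wt k).2, e']; ring
    exact finish e1 fun s => by rw [e2, hφb s]; ring
  -- the point only
  by_cases ha0 : ∀ s, r.a s = 0
  · exact (r.no_one h hL ha0 hd).elim
  push Not at ha0
  by_cases hb0 : ∀ s, r.b s = 0
  · exfalso
    refine (r.flipMid fun s => ⟨0, by rw [r.e_q' h, hd, hb0, zero_smul, zero_smul, add_zero, add_zero]⟩).no_one h hL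
      hb0 fun s => ?_
    show altForm4 (ρ (u s) ⬝ₐ r.q) r.q = 0
    rw [r.e_q, f_add_l, f_smul_l, f_self, r.pq, mul_zero, add_zero]
  push Not at hb0
  obtain ⟨hA, φ, hφ⟩ := coord (f := r.a) (fa r)
    (fun k => ⟨_, fun s => r.a_t h k s⟩) ha0
  obtain ⟨hB, ψ, hψ⟩ := coord (f := r.b)
    (fun x y => by rw [(r.prod_coords h x y).2.2.1, hd, zero_mul, add_zero])
    (fun k => ⟨_, fun s => (r.bdc_t h k s).2.1⟩) hb0
  have wt : ∀ k : Lˣ, φ ((k : L) * k) = r.al k / r.be k ∧ ψ ((k : L) * k) = r.al k * r.be k := fun k => by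
    have e1 := r.a_t h k 1
    have e2 := (r.bdc_t h k 1).2.1
    rw [mul_one, hφ ((k : L) * k)] at e1
    rw [mul_one, hψ ((k : L) * k)] at e2
    exact ⟨mul_left_cancel₀ hA (by linear_combination e1), mul_left_cancel₀ hB (by linear_combination e2)⟩
  by_cases hφψ : φ = ψ
  · exfalso
    have hbe : ∀ k, r.be k = 1 := fun k => sq_eq_one (by
      have e := (wt k).2
      rw [← hφψ, (wt k).1] at e
      have := r.al_ne h k
      have := r.be_ne h k
      field_simp at e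
      linear_combination -e)
    refine (r.turnMid (r.a 1) (r.b 1) hA hbe fun s => ?_).no_one h hL (fun s => ?_) (fun s => ?_)
    · rw [Matrix.mulVec_add, Matrix.mulVec_smul, Matrix.mulVec_smul, r.e_q, r.e_q' h, hd, zero_smul, add_zero,
        smul_add, smul_add, smul_smul, smul_smul]
      have : r.b 1 * r.a s = r.a 1 * r.b s := by rw [hφ s, hψ s, hφψ]; ring
      rw [this]
      rw [add_add_add_comm, ← add_smul, CharTwo.add_self_eq_zero, zero_smul, add_zero]
    · show altForm4 (ρ (u s) ⬝ₐ (r.b 1 • r.q + r.a 1 • r.q')) r.p' = 0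
      rw [Matrix.mulVec_add, Matrix.mulVec_smul, Matrix.mulVec_smul, f_add_l, f_smul_l, f_smul_l]
      show r.b 1 * r.a s + r.a 1 * r.b s = 0
      rw [hφ s, hψ s, hφψ]
      linear_combination (r.a 1 * r.b 1 * ψ s) * (CharTwo.two_eq_zero : (2 : K) = 0)
    · show altForm4 (ρ (u s) ⬝ₐ ((r.a 1)⁻¹ • r.q)) ((r.a 1)⁻¹ • r.q) = 0
      rw [Matrix.mulVec_smul, r.e_q, f_smul_l, f_smul_r, f_add_l, f_smul_l, f_self, r.pq]; ring
  refine ⟨r, φ, ψ, hφψ, hd, hA, hB, hφ, hψ, ?_⟩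
  by_contra hc
  push Not at hc
  obtain ⟨s₀, hs₀⟩ := hc
  obtain ⟨hC, χ, hχ⟩ := coord (f := fun s => r.c s + r.a s * r.b s)
    (fun x y => by
      obtain ⟨e1, e2, e3, e4⟩ := r.prod_coords h x y
      rw [e4, e1, e3, hd]
      linear_combination (r.a x * r.b y + r.a y * r.b x) * (CharTwo.two_eq_zero : (2 : K) = 0) -
        (r.a x * r.b y + r.a y * r.b x) * 0)
    (fun k => ⟨r.al k * r.al k, fun s => by
      show r.c _ + r.a _ * r.b _ = _
      rw [(r.bdc_t h k s).2.2, (r.bdc_t h k s).2.1, r.a_t h k s]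
      have := r.be_ne h k
      field_simp⟩)
    ⟨s₀, fun e => hs₀ (CharTwo.add_eq_zero.1 e)⟩
  refine hφψ (hom_eq_of_mul φ ψ χ fun x => ?_)
  by_cases hx : x = 0
  · rw [hx, map_zero, map_zero, map_zero, zero_mul]
  have hk : sr x ≠ 0 := fun e => hx (by rw [← sr_sq x, e, zero_pow two_ne_zero])
  obtain ⟨k, rfl⟩ : ∃ k : Lˣ, (k : L) * k = x := ⟨Units.mk0 (sr x) hk, by rw [Units.val_mk0, ← pow_two, sr_sq]⟩
  have e := hχ ((k : L) * k)
  have b1 := (r.bdc_t h k 1).2.2
  have b2 := (r.bdc_t h k 1).2.1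
  have b3 := r.a_t h k 1
  rw [mul_one] at b1 b2 b3
  rw [b1, b2, b3] at e
  rw [(wt k).1, (wt k).2]
  have := r.be_ne h k
  refine mul_left_cancel₀ hC ?_
  field_simp at e ⊢
  linear_combination e

/-- The quadratic form. -/
theorem quadFix (h : Hyp ρ) (hL : ∃ x : L, x ≠ 0 ∧ x ≠ 1) : QuadFix ρ.range := by
  classical
  letI := Fintype.ofFinite L
  obtain ⟨r, φ, ψ, -, hd, -, -, -, -, hc⟩ := normal h hL
  haveI : Finite ρ.range := Finite.of_surjective ρ.rangeRestrict ρ.rangeRestrict_surjective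
  have hu : ∀ b : Multiplicative L, CfsgLib.CIT.upHom L b = u b.toAdd := fun _ => rfl
  refine quadFix_of_odd_index (S := (CfsgLib.CIT.upHom L).range.map ρ) (fun g hg => by
      obtain ⟨x, rfl⟩ := hg; exact h.sp x)
    (fun g hg => by obtain ⟨x, -, rfl⟩ := hg; exact ⟨x, rfl⟩) ?_
    (fun v => altForm4 v r.p' * altForm4 v r.p + altForm4 v r.q' * altForm4 v r.q) (fun x y => ?_) (fun c v => ?_) ?_
  · have e : ((CfsgLib.CIT.upHom L).range.map ρ).subgroupOf ρ.range =
        (CfsgLib.CIT.upHom L).range.map ρ.rangeRestrict := by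
      ext ⟨g, hg⟩
      simp only [Subgroup.mem_subgroupOf, Subgroup.mem_map, Subtype.ext_iff, MonoidHom.coe_rangeRestrict]
    show Odd (((CfsgLib.CIT.upHom L).range.map ρ).subgroupOf ρ.range).index
    rw [e]
    refine Odd.of_dvd_nat ?_ (Subgroup.index_map_dvd _ ρ.rangeRestrict_surjective)
    have hq : Nat.card (CfsgLib.CIT.upHom L).range = Fintype.card L := by
      rw [← Nat.card_congr (MonoidHom.ofInjective CfsgLib.CIT.upHom_injective).toEquiv,
        Nat.card_congr Multiplicative.toAdd, Nat.card_eq_fintype_card]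
    have hi := (CfsgLib.CIT.upHom L).range.card_mul_index
    rw [hq, CfsgLib.Classical.card_sl2] at hi
    obtain ⟨n, -, hn⟩ := FiniteField.card L 2
    have h2 : 2 ∣ Fintype.card L := by rw [hn]; exact dvd_pow_self 2 n.pos.ne'
    have hpos : 0 < Fintype.card L := Fintype.card_pos
    have hi' : (CfsgLib.CIT.upHom L).range.index = (Fintype.card L - 1) * (Fintype.card L + 1) :=
      Nat.eq_of_mul_eq_mul_left hpos (by rw [hi])
    rw [hi', Nat.odd_mul, Nat.odd_iff, Nat.odd_iff]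
    omega
  · have e : altForm4 x y = altForm4 x r.p' * altForm4 y r.p + altForm4 x r.q' * altForm4 y r.q +
        altForm4 x r.q * altForm4 y r.q' + altForm4 x r.p * altForm4 y r.p' := by
      conv_lhs => rw [r.expand x]
      simp only [f_add_l, f_smul_l]
      rw [f_comm r.p y, f_comm r.q y, f_comm r.q' y, f_comm r.p' y]
    simp only [f_add_l]
    rw [e]; ring
  · simp only [f_smul_l]; ring
  · rintro _ ⟨_, ⟨b, rfl⟩, rfl⟩ v
    rw [hu]
    have hinv : ∀ x, altForm4 (ρ (u b.toAdd) ⬝ₐ v) x = altForm4 v (ρ (u b.toAdd) ⬝ₐ x) := fun x => by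
      have e := sp_f (h.sp (u b.toAdd)) v (ρ (u b.toAdd) ⬝ₐ x)
      rw [← mul_v, u_add, CharTwo.add_self_eq_zero, u_zero, one_v] at e
      exact e
    rw [hinv, hinv, hinv, hinv, r.ep, r.e_q, r.e_q' h, r.e_p' h, hd, hc]
    simp only [f_add_r, f_smul_r, mul_zero, add_zero, zero_smul]
    linear_combination (r.a b.toAdd * r.b b.toAdd * altForm4 v r.p ^ 2 + r.a b.toAdd * altForm4 v r.q' * altForm4 v r.p +
      r.b b.toAdd * altForm4 v r.q * altForm4 v r.p) * (CharTwo.two_eq_zero : (2 : K) = 0)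

theorem trace_frame (r : Fr ρ) (g : Matrix (Fin 4) (Fin 4) K) :
    g.trace = altForm4 (g *ᵥ r.p) r.p' + altForm4 (g *ᵥ r.q) r.q' + altForm4 (g *ᵥ r.q') r.q +
      altForm4 (g *ᵥ r.p') r.p := by
  let col : Fin 4 → Fin 4 → K := ![r.p, r.q, r.q', r.p']
  let M : Matrix (Fin 4) (Fin 4) K := Matrix.of fun i j => col j i
  let N : Matrix (Fin 4) (Fin 4) K := Matrix.of fun i j => col (3 - i) (3 - j)
  have hNM : N * M = 1 := by
    have e : ∀ i j, (N * M) i j = altForm4 (col j) (col (3 - i)) := fun i j => by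
      simp only [N, M, Matrix.mul_apply, Matrix.of_apply, Fin.sum_univ_four, altForm4,
        show (3 : Fin 4) - 0 = 3 from rfl, show (3 : Fin 4) - 1 = 2 from rfl, show (3 : Fin 4) - 2 = 1 from rfl,
        show (3 : Fin 4) - 3 = 0 from rfl]
      ring
    ext i j
    rw [e]
    fin_cases i <;> fin_cases j <;>
      simp [col, f_self, r.pq, r.pq', r.pp', r.qq', r.qp', r.q'p', f_comm r.q r.p, f_comm r.q' r.p, f_comm r.p' r.p,
        f_comm r.q' r.q, f_comm r.p' r.q, f_comm r.p' r.q', Matrix.one_apply]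
  have hMN : M * N = 1 := mul_eq_one_comm.1 hNM
  have : g.trace = (N * g * M).trace := by rw [Matrix.trace_mul_cycle, hMN, one_mul]
  rw [this]
  simp only [Matrix.trace, Matrix.diag_apply, Matrix.mul_apply, Fin.sum_univ_four, N, M, col, Matrix.of_apply,
    altForm4, Matrix.mulVec, dotProduct, show (3 : Fin 4) - 0 = 3 from rfl, show (3 : Fin 4) - 1 = 2 from rfl,
    show (3 : Fin 4) - 2 = 1 from rfl, show (3 : Fin 4) - 3 = 0 from rfl]
  simp
  ring

/-- Over four elements the elements `u(s) w` have one trace. -/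
theorem trace_uw (h : Hyp ρ) (hL : Nat.card L = 4) {s : L} (hs : s ≠ 0) :
    (Units.val (ρ (u s * w)) : Matrix (Fin 4) (Fin 4) K).trace =
      (Units.val (ρ (u 1 * w)) : Matrix (Fin 4) (Fin 4) K).trace := by
  classical
  letI := Fintype.ofFinite L
  rw [Nat.card_eq_fintype_card] at hL
  have hL' : ∃ x : L, x ≠ 0 ∧ x ≠ 1 := by
    by_contra hc
    push Not at hc
    have : (Finset.univ : Finset L) ⊆ {0, 1} := fun x _ => by
      by_cases hx : x = 0
      · simp [hx]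
      · simp [hc x hx]
    have := (Finset.card_le_card this).trans Finset.card_le_two
    rw [Finset.card_univ, hL] at this
    omega
  obtain ⟨r, φ, ψ, hne, hd, hA, hB, ha, hb, hc⟩ := normal h hL'
  obtain ⟨x, hx⟩ : ∃ x, φ x ≠ ψ x := by
    by_contra hcon; push Not at hcon; exact hne (RingHom.ext hcon)
  have hx0 : x ≠ 0 := fun e => hx (by rw [e, map_zero, map_zero])
  have hx1 : x ≠ 1 := fun e => hx (by rw [e, map_one, map_one])
  obtain ⟨k, hk⟩ : ∃ k : Lˣ, (k : L) * k = x :=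
    ⟨Units.mk0 (sr x) (fun e => hx0 (by rw [← sr_sq x, e, zero_pow two_ne_zero])), by
      rw [Units.val_mk0, ← pow_two, sr_sq]⟩
  have wa := r.a_t h k 1
  have wb := (r.bdc_t h k 1).2.1
  rw [mul_one, hk, ha x] at wa
  rw [mul_one, hk, hb x] at wb
  have hα0 := r.al_ne h k
  have hβ0 := r.be_ne h k
  have eφ : φ x = r.al k / r.be k := mul_left_cancel₀ hA (by linear_combination wa)
  have eψ : ψ x = r.al k * r.be k := mul_left_cancel₀ hB (by linear_combination wb)
  have n1 : r.al k ≠ r.be k := fun e => hx1 (φ.injective (by rw [eφ, e, div_self hβ0, map_one]))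
  have n2 : r.al k ≠ (r.be k)⁻¹ := fun e => hx1 (ψ.injective (by rw [eψ, e, inv_mul_cancel₀ hβ0, map_one]))
  have n3 : r.be k ≠ (r.be k)⁻¹ := fun e => hx (by
    rw [eφ, eψ, div_eq_mul_inv]
    rw [← e])
  have z1 : altForm4 (ρ w ⬝ₐ r.p) r.q' = 0 := Fr.wperp h (r.tp k) (r.tq' k) n2 hα0
  have z2 : altForm4 (ρ w ⬝ₐ r.p) r.q = 0 := Fr.wperp h (r.tp k) (r.tq k) n1 hα0
  have z3 : altForm4 (ρ w ⬝ₐ r.q) r.p = 0 := Fr.wperp h (r.tq k) (r.tp k) n1.symm hβ0
  have z4 : altForm4 (ρ w ⬝ₐ r.q) r.q' = 0 := Fr.wperp h (r.tq k) (r.tq' k) n3 hβ0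
  have z5 : altForm4 (ρ w ⬝ₐ r.q') r.q = 0 := Fr.wperp h (r.tq' k) (r.tq k) n3.symm (inv_ne_zero hβ0)
  have z6 : altForm4 (ρ w ⬝ₐ r.q') r.p = 0 := Fr.wperp h (r.tq' k) (r.tp k) n2.symm (inv_ne_zero hβ0)
  have tr : ∀ s, (Units.val (ρ (u s * w)) : Matrix (Fin 4) (Fin 4) K).trace =
      altForm4 (ρ w ⬝ₐ r.p) r.p' + altForm4 (ρ w ⬝ₐ r.p') r.p +
        r.a 1 * r.b 1 * (φ s * ψ s) * altForm4 (ρ w ⬝ₐ r.p) r.p := by
    intro s
    have hinv : ∀ v x, altForm4 (ρ (u s * w) ⬝ₐ v) x = altForm4 (ρ w ⬝ₐ v) (ρ (u s) ⬝ₐ x) := fun v x => by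
      conv_lhs => rw [mul_v, ← one_v (ρ := ρ) x, ← u_zero, ← CharTwo.add_self_eq_zero s, ← u_add, mul_v, sp_f (h.sp _)]
    rw [trace_frame r, hinv, hinv, hinv, hinv, r.ep, r.e_q, r.e_q' h, r.e_p' h, hd, hc, ha s, hb s]
    simp only [f_add_r, f_smul_r, z1, z2, z3, z4, z5, z6, mul_zero, zero_smul, add_zero, zero_add]
    ring
  suffices φ s * ψ s = 1 by rw [tr s, tr 1, this, map_one, map_one, one_mul]
  have hs3 : s ^ 3 = 1 := by
    have := FiniteField.pow_card_sub_one_eq_one s hs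
    rwa [hL] at this
  by_cases hs1 : s = 1
  · rw [hs1, map_one, map_one, one_mul]
  have hq : s ^ 2 + s + 1 = 0 := by
    have : (s - 1) * (s ^ 2 + s + 1) = 0 := by linear_combination hs3
    exact (mul_eq_zero.1 this).resolve_left (sub_ne_zero.2 hs1)
  have hne' : φ s ≠ ψ s := fun e => hne (RingHom.ext fun y => by
    have hcov : y = 0 ∨ y = 1 ∨ y = s ∨ y = s + 1 := by
      by_cases hy : y = 0
      · exact Or.inl hy
      have hy3 : y ^ 3 = 1 := by
        have := FiniteField.pow_card_sub_one_eq_one y hy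
        rwa [hL] at this
      have : (y - 1) * ((y - s) * (y - (s + 1))) = 0 := by
        linear_combination hy3 + (y - 1) * hq + (1 - y - (y - 1) * y * (s + 1)) * (CharTwo.two_eq_zero : (2 : L) = 0)
      rcases mul_eq_zero.1 this with e0 | e0
      · exact Or.inr (Or.inl (sub_eq_zero.1 e0))
      rcases mul_eq_zero.1 e0 with e1 | e1
      · exact Or.inr (Or.inr (Or.inl (sub_eq_zero.1 e1)))
      · exact Or.inr (Or.inr (Or.inr (sub_eq_zero.1 e1)))
    rcases hcov with rfl | rfl | rfl | rfl <;> simp [e])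
  have h1 : φ s ^ 2 + φ s + 1 = 0 := by rw [← map_pow, ← map_add, ← map_one φ, ← map_add, hq, map_zero]
  have h2 : ψ s ^ 2 + ψ s + 1 = 0 := by rw [← map_pow, ← map_add, ← map_one ψ, ← map_add, hq, map_zero]
  have h3 : φ s + ψ s + 1 = 0 := (mul_eq_zero.1 (show (φ s + ψ s) * (φ s + ψ s + 1) = 0 by
    linear_combination h1 + h2 + (φ s * ψ s - 1) * (CharTwo.two_eq_zero : (2 : K) = 0))).resolve_left
      fun e => hne' (CharTwo.add_eq_zero.1 e)
  linear_combination φ s * h3 - h1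

end CfsgLib.CMax.SpFourRes.L2
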