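import Cfsg.Prelude.Def_Sz
import Cfsg.Prelude.Def_GeometricClasses
import Mathlib

/-!
# Four-dimensional symplectic groups in characteristic two: transvections and bases

Transvections of `Cfsg.Lie.Sp4` correspond to nonzero vectors. A spanning invariant set of vectors with all form
values in a subfield gives a symplectic basis realising the group over that subfield.
-/

set_option autoImplicit false
set_option linter.all false

namespace CfsgLib.CMax.SpFourRes

open Matrix Cfsg.Lie
open Cfsg.Geo (matrixSet)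

variable {F : Type*} [Field F]

local notation "V" => Fin 4 → F
local notation "M4" => Matrix (Fin 4) (Fin 4) F
local notation "G4" => GL (Fin 4) F
local notation:100 g:100 " ⬝ₐ " v:101 => (Units.val g : Matrix (Fin 4) (Fin 4) F) *ᵥ v

theorem f_add_l (u u' v : V) : altForm4 (u + u') v = altForm4 u v + altForm4 u' v := by
  simp only [altForm4, Pi.add_apply]; ring

theorem f_add_r (u v v' : V) : altForm4 u (v + v') = altForm4 u v + altForm4 u v' := by
  simp only [altForm4, Pi.add_apply]; ring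

theorem f_smul_l (c : F) (u v : V) : altForm4 (c • u) v = c * altForm4 u v := by
  simp only [altForm4, Pi.smul_apply, smul_eq_mul]; ring

theorem f_smul_r (c : F) (u v : V) : altForm4 u (c • v) = c * altForm4 u v := by
  simp only [altForm4, Pi.smul_apply, smul_eq_mul]; ring

theorem f_zero_l (v : V) : altForm4 0 v = 0 := by simp [altForm4]

theorem f_zero_r (v : V) : altForm4 v 0 = 0 := by simp [altForm4]

theorem f_comm (u v : V) : altForm4 u v = altForm4 v u := by simp only [altForm4]; ring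

/-- The functional of a vector. -/
def fL (v : V) : V →ₗ[F] F where
  toFun u := altForm4 u v
  map_add' u u' := f_add_l u u' v
  map_smul' c u := f_smul_l c u v

theorem fL_apply (u v : V) : fL v u = altForm4 u v := rfl

theorem f_single (u : V) (i : Fin 4) : altForm4 u (Pi.single i 1) = u (3 - i) := by
  fin_cases i <;> simp [altForm4, Pi.single_apply]

theorem eq_zero_of_f {u : V} (h : ∀ v, altForm4 u v = 0) : u = 0 := by
  funext i
  have := h (Pi.single (3 - i) 1)
  rw [f_single] at this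
  simpa using this

theorem sp_f {g : G4} (hg : g ∈ Sp4 F) (u v : V) : altForm4 (g ⬝ₐ u) (g ⬝ₐ v) = altForm4 u v := hg u v

theorem mulVec_inv (g : G4) (v : V) : g ⬝ₐ (g⁻¹ ⬝ₐ v) = v := by
  rw [Matrix.mulVec_mulVec, ← Units.val_mul, mul_inv_cancel, Units.val_one, Matrix.one_mulVec]

theorem inv_mulVec (g : G4) (v : V) : g⁻¹ ⬝ₐ (g ⬝ₐ v) = v := by
  rw [Matrix.mulVec_mulVec, ← Units.val_mul, inv_mul_cancel, Units.val_one, Matrix.one_mulVec]

theorem mulVec_ne {g : G4} {v : V} (hv : v ≠ 0) : g ⬝ₐ v ≠ 0 := fun h => hv (by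
  rw [← inv_mulVec g v, h, Matrix.mulVec_zero])

theorem gl_ext {g h : G4} (e : ∀ v : V, g ⬝ₐ v = h ⬝ₐ v) : g = h :=
  Units.ext (Matrix.ext_iff_mulVec.2 e)

variable [CharP F 2]

theorem f_self (u : V) : altForm4 u u = 0 := by
  simp only [altForm4]
  linear_combination (u 0 * u 3 + u 1 * u 2) * (CharTwo.two_eq_zero : (2 : F) = 0)

theorem v_add_self (u : V) : u + u = 0 := funext fun i => CharTwo.add_self_eq_zero (u i)

theorem v_eq_of_add {u v : V} (h : u + v = 0) : u = v := funext fun i => CharTwo.add_eq_zero.1 (congrFun h i)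

/-- The transvection of a vector. -/
def tv (a : V) : G4 :=
  have key : ∀ x : V, x + altForm4 x a • a + altForm4 (x + altForm4 x a • a) a • a = x := fun x => by
    rw [f_add_l, f_smul_l, f_self, mul_zero, add_zero, add_assoc, v_add_self, add_zero]
  have sq : (1 + vecMulVec a ![a 3, a 2, a 1, a 0] : M4) * (1 + vecMulVec a ![a 3, a 2, a 1, a 0]) = 1 :=
    Matrix.ext_iff_mulVec.2 fun x => by
      have h : ∀ y : V, (1 + vecMulVec a ![a 3, a 2, a 1, a 0] : M4) *ᵥ y = y + altForm4 y a • a := fun y => by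
        rw [Matrix.add_mulVec, Matrix.one_mulVec, vecMulVec_mulVec, op_smul_eq_smul]
        congr 2
        simp [altForm4, dotProduct, Fin.sum_univ_four]; ring
      rw [← Matrix.mulVec_mulVec, h, h, Matrix.one_mulVec]
      exact key x
  ⟨_, _, sq, sq⟩

theorem tv_apply (a x : V) : tv a ⬝ₐ x = x + altForm4 x a • a := by
  show (1 + vecMulVec a ![a 3, a 2, a 1, a 0] : M4) *ᵥ x = _
  rw [Matrix.add_mulVec, Matrix.one_mulVec, vecMulVec_mulVec, op_smul_eq_smul]
  congr 2
  simp [altForm4, dotProduct, Fin.sum_univ_four]; ring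

theorem tv_mem_sp (a : V) : tv a ∈ Sp4 F := fun u v => by
  show altForm4 (tv a ⬝ₐ u) (tv a ⬝ₐ v) = _
  simp only [tv_apply, f_add_l, f_add_r, f_smul_l, f_smul_r, f_self, mul_zero, add_zero, f_comm a v]
  linear_combination (altForm4 u a * altForm4 v a) * (CharTwo.two_eq_zero : (2 : F) = 0)

theorem tv_sq (a : V) : tv a * tv a = 1 := gl_ext fun x => by
  rw [Units.val_mul, ← Matrix.mulVec_mulVec, tv_apply, tv_apply, Units.val_one, Matrix.one_mulVec, f_add_l,
    f_smul_l, f_self, mul_zero, add_zero, add_assoc, v_add_self, add_zero]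

theorem tv_inv (a : V) : (tv a)⁻¹ = tv a := inv_eq_of_mul_eq_one_right (tv_sq a)

theorem tv_conj {g : G4} (hg : g ∈ Sp4 F) (a : V) : g * tv a * g⁻¹ = tv (g ⬝ₐ a) := gl_ext fun x => by
  rw [Units.val_mul, Units.val_mul, ← Matrix.mulVec_mulVec, ← Matrix.mulVec_mulVec, tv_apply, Matrix.mulVec_add,
    Matrix.mulVec_smul, mulVec_inv, tv_apply]
  congr 2
  rw [← sp_f hg, mulVec_inv]

theorem tv_ne_one {a : V} (ha : a ≠ 0) : tv a ≠ 1 := fun h => by
  obtain ⟨y, hy⟩ : ∃ y, altForm4 a y ≠ 0 := by
    by_contra hc; push Not at hc; exact ha (eq_zero_of_f hc)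
  have := tv_apply a y
  rw [h, Units.val_one, Matrix.one_mulVec, left_eq_add, smul_eq_zero, f_comm] at this
  exact this.elim hy ha

/-- Two multiples of a vector. -/
theorem tv_mul_smul (a : V) (s t : F) : tv (s • a) * tv (t • a) = tv ((s + t) • a) := gl_ext fun x => by
  simp only [Units.val_mul, ← Matrix.mulVec_mulVec, tv_apply, f_add_l, f_smul_r, f_smul_l, f_self, mul_zero,
    add_zero, smul_smul, add_assoc, ← add_smul]
  congr 2
  linear_combination -(altForm4 x a) * s * t * (CharTwo.two_eq_zero : (2 : F) = 0)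

/-- A quadratic form with the given form as polar form, fixed by the group. -/
def QuadFix (P : Subgroup G4) : Prop :=
  ∃ Q : V → F, (∀ u v, Q (u + v) = Q u + Q v + altForm4 u v) ∧ (∀ (c : F) v, Q (c • v) = c ^ 2 * Q v) ∧
    ∀ g ∈ P, ∀ v, Q (g ⬝ₐ v) = Q v

/-- Realisable over a proper subfield by a symplectic change of basis. -/
def RatSp (P : Subgroup G4) : Prop :=
  ∃ K : Subfield F, K ≠ ⊤ ∧ ∃ B ∈ Sp4 F, ∀ g ∈ P, ∀ i j, ((B⁻¹ * g * B : G4) : M4) i j ∈ K

/-- A simple irreducible subgroup of the symplectic group. -/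
structure Base (P : Subgroup G4) : Prop where
  le : P ≤ Sp4 F
  simple : IsSimpleGroup P
  nonab : ∃ x ∈ P, ∃ y ∈ P, x * y ≠ y * x
  irred : ∀ W : Submodule F V, (∀ g ∈ P, ∀ w ∈ W, g ⬝ₐ w ∈ W) → W = ⊥ ∨ W = ⊤

/-- The vectors of the transvections of the group. -/
def A (P : Subgroup G4) : Set V := {a | a ≠ 0 ∧ tv a ∈ P}

variable {P : Subgroup (GL (Fin 4) F)}

theorem Base.A_map (hb : Base P) {g : G4} (hg : g ∈ P) {a : V} (ha : a ∈ A P) : g ⬝ₐ a ∈ A P :=
  ⟨mulVec_ne ha.1, tv_conj (hb.le hg) a ▸ P.mul_mem (P.mul_mem hg ha.2) (P.inv_mem hg)⟩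

theorem Base.A_refl (hb : Base P) {a b : V} (ha : a ∈ A P) (hb' : b ∈ A P) :
    b + altForm4 b a • a ∈ A P := tv_apply a b ▸ hb.A_map ha.2 hb'

theorem Base.span_inv (hb : Base P) {S : Set V} (hS : ∀ g ∈ P, ∀ s ∈ S, g ⬝ₐ s ∈ S) {a : V} (ha : a ∈ S)
    (ha0 : a ≠ 0) : Submodule.span F S = ⊤ := by
  refine (hb.irred _ fun g hg w hw => ?_).resolve_left fun h => ha0 ?_
  · have : (Submodule.span F S).map (Matrix.toLin' (g : M4)) ≤ Submodule.span F S := by
      rw [Submodule.map_span, Submodule.span_le]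
      rintro _ ⟨s, hs, rfl⟩
      rw [Matrix.toLin'_apply]
      exact Submodule.subset_span (hS g hg s hs)
    exact this ⟨w, hw, Matrix.toLin'_apply _ _⟩
  · have := Submodule.subset_span (R := F) ha
    rwa [h, SetLike.mem_coe, Submodule.mem_bot] at this

theorem eq_zero_of_f_span {S : Set V} (hS : Submodule.span F S = ⊤) {u : V} (h : ∀ s ∈ S, altForm4 u s = 0) :
    u = 0 := eq_zero_of_f fun v => by
  have hv : v ∈ Submodule.span F S := hS ▸ Submodule.mem_top
  induction hv using Submodule.span_induction with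
  | mem x hx => exact h x hx
  | zero => exact f_zero_r u
  | add x y _ _ h1 h2 => rw [f_add_r, h1, h2, add_zero]
  | smul c x _ h1 => rw [f_smul_r, h1, mul_zero]

theorem exists_nonperp {S : Set V} (hS : Submodule.span F S = ⊤) {u : V} (hu : u ≠ 0) :
    ∃ s ∈ S, altForm4 u s ≠ 0 := by
  by_contra hc
  push Not at hc
  exact hu (eq_zero_of_f_span hS hc)

/-- The component in the plane of `b`, `c`. -/
def pr (b c x : V) : V := (altForm4 b c)⁻¹ • (altForm4 x c • b + altForm4 x b • c)

/-- The component perpendicular to the plane of `b`, `c`. -/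
def rest (b c x : V) : V := x + pr b c x

theorem pr_add_rest (b c x : V) : pr b c x + rest b c x = x := by
  rw [rest, add_left_comm, v_add_self, add_zero]

theorem f_pr_left {b c : V} (h : altForm4 b c ≠ 0) (x : V) : altForm4 (pr b c x) b = altForm4 x b := by
  rw [pr, f_smul_l, f_add_l, f_smul_l, f_smul_l, f_self, f_comm c b]
  field_simp; ring

theorem f_pr_right {b c : V} (h : altForm4 b c ≠ 0) (x : V) : altForm4 (pr b c x) c = altForm4 x c := by
  rw [pr, f_smul_l, f_add_l, f_smul_l, f_smul_l, f_self]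
  field_simp; ring

theorem f_rest_left {b c : V} (h : altForm4 b c ≠ 0) (x : V) : altForm4 (rest b c x) b = 0 := by
  rw [rest, f_add_l, f_pr_left h, CharTwo.add_self_eq_zero]

theorem f_rest_right {b c : V} (h : altForm4 b c ≠ 0) (x : V) : altForm4 (rest b c x) c = 0 := by
  rw [rest, f_add_l, f_pr_right h, CharTwo.add_self_eq_zero]

theorem f_rest_pr {b c : V} (h : altForm4 b c ≠ 0) (x y : V) : altForm4 (rest b c x) (pr b c y) = 0 := by
  rw [pr, f_smul_r, f_add_r, f_smul_r, f_smul_r, f_rest_left h, f_rest_right h]; ring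

theorem f_pr_pr {b c : V} (h : altForm4 b c ≠ 0) (x y : V) :
    altForm4 x y = altForm4 (pr b c x) (pr b c y) + altForm4 (rest b c x) (rest b c y) := by
  conv_lhs => rw [← pr_add_rest b c x, ← pr_add_rest b c y]
  rw [f_add_l, f_add_r, f_add_r, f_rest_pr h, f_comm (pr b c x) (rest b c y), f_rest_pr h]
  ring

theorem li_frame {a b c d : V} (hab : altForm4 a b ≠ 0) (hcd : altForm4 c d ≠ 0) (hac : altForm4 a c = 0)
    (had : altForm4 a d = 0) (hbc : altForm4 b c = 0) (hbd : altForm4 b d = 0) {u : V}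
    (h : altForm4 u a = 0 ∧ altForm4 u b = 0 ∧ altForm4 u c = 0 ∧ altForm4 u d = 0) : u = 0 := by
  have hli : LinearIndependent F ![a, b, c, d] := by
    rw [Fintype.linearIndependent_iff]
    intro g hg
    have hf : ∀ v : V, g 0 * altForm4 a v + g 1 * altForm4 b v + g 2 * altForm4 c v + g 3 * altForm4 d v = 0 := by
      intro v
      have := congrArg (fun w => altForm4 w v) hg
      simp only [Fin.sum_univ_four, f_add_l, f_smul_l, f_zero_l] at this
      simpa using this
    have h0 := hf b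
    have h1 := hf a
    have h2 := hf d
    have h3 := hf c
    simp only [f_self, hac, had, hbc, hbd, f_comm b a, f_comm c a, f_comm d a, f_comm c b, f_comm d b,
      f_comm d c, mul_zero, add_zero, zero_add] at h0 h1 h2 h3
    intro i
    fin_cases i
    · exact (mul_eq_zero.1 h0).resolve_right hab
    · exact (mul_eq_zero.1 h1).resolve_right hab
    · exact (mul_eq_zero.1 h2).resolve_right hcd
    · exact (mul_eq_zero.1 h3).resolve_right hcd
  refine eq_zero_of_f_span (hli.span_eq_top_of_card_eq_finrank (by simp)) ?_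
  rintro _ ⟨i, rfl⟩
  fin_cases i
  exacts [h.1, h.2.1, h.2.2.1, h.2.2.2]

theorem rat_of_values (hb : Base P) {S : Set V} (hS : ∀ g ∈ P, ∀ s ∈ S, g ⬝ₐ s ∈ S) {a : V} (ha : a ∈ S)
    (ha0 : a ≠ 0) {K : Subfield F} (hK : ∀ s ∈ S, ∀ t ∈ S, altForm4 s t ∈ K) :
    ∃ B ∈ Sp4 F, ∀ g ∈ P, ∀ i j, ((B⁻¹ * g * B : G4) : M4) i j ∈ K := by
  classical
  have hspan := hb.span_inv hS ha ha0
  let L : Submodule K V := Submodule.span K S
  have hL : ∀ u ∈ L, ∀ v ∈ L, altForm4 u v ∈ K := by
    have h1 : ∀ s ∈ S, ∀ v ∈ L, altForm4 s v ∈ K := by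
      intro s hs v hv
      induction hv using Submodule.span_induction with
      | mem x hx => exact hK s hs x hx
      | zero => rw [f_zero_r]; exact K.zero_mem
      | add x y _ _ h1 h2 => rw [f_add_r]; exact K.add_mem h1 h2
      | smul c x _ h1 => rw [show c • x = (c : F) • x from rfl, f_smul_r]; exact K.mul_mem c.2 h1
    intro u hu v hv
    induction hu using Submodule.span_induction with
    | mem x hx => exact h1 x hx v hv
    | zero => rw [f_zero_l]; exact K.zero_mem
    | add x y _ _ h1 h2 => rw [f_add_l]; exact K.add_mem h1 h2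
    | smul c x _ h1 => rw [show c • x = (c : F) • x from rfl, f_smul_l]; exact K.mul_mem c.2 h1
  have hLg : ∀ g ∈ P, ∀ v ∈ L, g ⬝ₐ v ∈ L := by
    intro g hg v hv
    induction hv using Submodule.span_induction with
    | mem x hx => exact Submodule.subset_span (hS g hg x hx)
    | zero => rw [Matrix.mulVec_zero]; exact L.zero_mem
    | add x y _ _ h1 h2 => rw [Matrix.mulVec_add]; exact L.add_mem h1 h2
    | smul c x _ h1 =>
      rw [show c • x = (c : F) • x from rfl, Matrix.mulVec_smul]; exact L.smul_mem c h1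
  have hsc : ∀ {c : F}, c ∈ K → ∀ {v : V}, v ∈ L → c • v ∈ L := fun hc _ hv => L.smul_mem ⟨_, hc⟩ hv
  obtain ⟨b, hbS, hab⟩ := exists_nonperp hspan ha0
  have haL : a ∈ L := Submodule.subset_span ha
  have hbL : b ∈ L := Submodule.subset_span hbS
  obtain ⟨c, hcS, hc⟩ : ∃ c ∈ S, rest a b c ≠ 0 := by
    by_contra hcon
    push Not at hcon
    have hle : Submodule.span F S ≤ Submodule.span F ((Finset.univ.image ![a, b] : Finset V) : Set V) := by
      rw [Submodule.span_le]
      intro x hx
      rw [← pr_add_rest a b x, hcon x hx, add_zero]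
      refine Submodule.smul_mem _ _ (Submodule.add_mem _ (Submodule.smul_mem _ _ (Submodule.subset_span ?_))
        (Submodule.smul_mem _ _ (Submodule.subset_span ?_)))
      · simpa using Or.inl rfl
      · simpa using Or.inr rfl
    have h4 := Submodule.finrank_mono hle
    rw [hspan, finrank_top, Module.finrank_fin_fun] at h4
    have h2 : Module.finrank F (Submodule.span F ((Finset.univ.image ![a, b] : Finset V) : Set V)) ≤ 2 :=
      (finrank_span_finset_le_card _).trans (Finset.card_image_le.trans (by simp))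
    omega
  have hrL : ∀ x ∈ L, rest a b x ∈ L := fun x hx => L.add_mem hx (hsc (K.inv_mem (hL _ haL _ hbL))
    (L.add_mem (hsc (hL _ hx _ hbL) haL) (hsc (hL _ hx _ haL) hbL)))
  obtain ⟨d, hdS, hcd⟩ := exists_nonperp hspan hc
  have hcd' : altForm4 (rest a b c) (rest a b d) ≠ 0 := by
    rw [show rest a b d = d + pr a b d from rfl, f_add_r, f_rest_pr hab, add_zero]; exact hcd
  have hcL := hrL c (Submodule.subset_span hcS)
  have hdL := hrL d (Submodule.subset_span hdS)
  let e3 : V := (altForm4 a b)⁻¹ • b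
  let e2 : V := (altForm4 (rest a b c) (rest a b d))⁻¹ • rest a b d
  let col : Fin 4 → V := ![a, rest a b c, e2, e3]
  have hcolL : ∀ i, col i ∈ L := by
    intro i
    fin_cases i
    exacts [haL, hcL, hsc (K.inv_mem (hL _ hcL _ hdL)) hdL, hsc (K.inv_mem (hL _ haL _ hbL)) hbL]
  let M : M4 := Matrix.of fun i j => col j i
  have hMv : ∀ v : V, M *ᵥ v = v 0 • a + v 1 • rest a b c + v 2 • e2 + v 3 • e3 := fun v => by
    funext i
    simp [M, col, Matrix.mulVec, dotProduct, Fin.sum_univ_four, mul_comm]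
  have hf : ∀ u v : V, altForm4 (M *ᵥ u) (M *ᵥ v) = altForm4 u v := by
    intro u v
    rw [hMv, hMv]
    simp only [e2, e3, f_add_l, f_add_r, f_smul_l, f_smul_r, f_self, f_rest_left hab, f_rest_right hab,
      f_comm a (rest a b c), f_comm a (rest a b d), f_comm b (rest a b c), f_comm b (rest a b d), f_comm b a,
      f_comm (rest a b d) (rest a b c), mul_zero, add_zero, zero_add]
    show _ = u 0 * v 3 + u 1 * v 2 + u 2 * v 1 + u 3 * v 0
    field_simp
    ring
  have hMu : IsUnit M := by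
    rw [Matrix.isUnit_iff_isUnit_det, isUnit_iff_ne_zero]
    intro h0
    obtain ⟨v, hv, hv0⟩ := Matrix.exists_mulVec_eq_zero_iff.2 h0
    exact hv (eq_zero_of_f fun w => by rw [← hf, hv0, f_zero_l])
  obtain ⟨B, hB⟩ := hMu
  have hBsp : B ∈ Sp4 F := fun u v => by
    show altForm4 (B ⬝ₐ u) (B ⬝ₐ v) = _
    rw [hB]; exact hf u v
  refine ⟨B, hBsp, fun g hg i j => ?_⟩
  have hcol : ∀ i, B ⬝ₐ (Pi.single i 1) = col i := fun i => by
    rw [hB, Matrix.mulVec_single_one]; rfl
  have e : ((B⁻¹ * g * B : G4) : M4) i j = altForm4 (g ⬝ₐ (col j)) (col (3 - i)) := by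
    rw [← hcol j, Matrix.mulVec_mulVec, ← hcol (3 - i), ← sp_f (inv_mem hBsp), inv_mulVec, Matrix.mulVec_mulVec,
      ← Units.val_mul, ← Units.val_mul, ← mul_assoc, f_single, Matrix.mulVec_single_one]
    simp
  rw [e]
  exact hL _ (hLg g hg _ (hcolL j)) _ (hcolL _)

theorem mem_span_singleton_bot {K : Subfield F} {x : F} (h : x = 0 ∨ x = 1) : x ∈ K := by
  rcases h with rfl | rfl
  exacts [K.zero_mem, K.one_mem]

variable [PerfectRing F 2]

/-- The square root. -/
noncomputable def sr (x : F) : F := (frobeniusEquiv F 2).symm x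

theorem sr_sq (x : F) : sr x ^ 2 = x := frobeniusEquiv_symm_pow_p F 2 x

theorem sq_inj {a b : F} (h : a ^ 2 = b ^ 2) : a = b := frobenius_inj F 2 h

theorem sr_of_sq {x y : F} (h : y ^ 2 = x) : sr x = y := sq_inj (by rw [sr_sq, h])

theorem sq_eq_one {a : F} (h : a ^ 2 = 1) : a = 1 := sq_inj (by rw [h, one_pow])

end CfsgLib.CMax.SpFourRes
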