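import Cfsg.Agent.Lib.CMax.SpFourRes.Ext
import Cfsg.Agent.Lib.CMax.SpFourRes.Setup
import Cfsg.Agent.Lib.CMax.SpFourRes.L2Main
import Cfsg.Agent.Lib.CIT.TI
import Cfsg.Agent.S0252

/-!
# The alternating group of degree five in the four-dimensional symplectic group

Without fixed vectors, the elements of order five have trace zero or one.
-/

set_option autoImplicit false
set_option linter.all false

namespace CfsgLib.CMax.SpFourRes

open Matrix Cfsg.Lie

variable {K : Type*} [Field K] [CharP K 2]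

local notation "V" => Fin 4 → K
local notation "M4" => Matrix (Fin 4) (Fin 4) K
local notation:100 g:100 " ⬝ₐ " v:101 => (Units.val g : Matrix (Fin 4) (Fin 4) K) *ᵥ v

/-- An element of order five without fixed vectors. -/
theorem trace_five {g : GL (Fin 4) K} (hg : g ∈ Sp4 K) (h5 : g ^ 5 = 1) (hfix : ∀ v : V, g ⬝ₐ v = v → v = 0) :
    (Units.val g : M4).trace = 0 ∨ (Units.val g : M4).trace = 1 := by
  have hinv := CfsgLib.Char.SuzukiGraph.inv_eq_adjJ hg
  set s := g.1 0 0 + g.1 1 1 + g.1 2 2 + g.1 3 3 with hs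
  set c := (g.1 0 0 + g.1 3 3) * (g.1 1 1 + g.1 2 2) + (g.1 0 1 + g.1 2 3) * (g.1 1 0 + g.1 3 2) +
    (g.1 0 2 + g.1 1 3) * (g.1 2 0 + g.1 3 1) with hc
  set h := g.1 + (g⁻¹).1 with hh
  have hquad : h * h + s • h + c • 1 = 0 := by
    rw [hh, hinv, hs, hc]
    generalize g.1 = A
    have h2 : (2 : K) = 0 := CharTwo.two_eq_zero
    ext i j
    simp only [Matrix.add_apply, Matrix.mul_apply, Fin.sum_univ_four, Matrix.smul_apply, Matrix.one_apply,
      Matrix.zero_apply, CfsgLib.Char.SuzukiGraph.adjJ, Matrix.of_apply, smul_eq_mul]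
    fin_cases i <;> fin_cases j <;> simp <;> grobner
  have htr : (Units.val g : M4).trace = s := by
    simp only [Matrix.trace, Matrix.diag_apply, Fin.sum_univ_four, hs]
  rw [htr]
  -- the sum of the five powers vanishes
  have hsum : (1 : M4) + g.1 + g.1 ^ 2 + g.1 ^ 3 + g.1 ^ 4 = 0 := by
    refine Matrix.ext_iff_mulVec.2 fun v => ?_
    rw [Matrix.zero_mulVec]
    refine hfix _ ?_
    rw [Matrix.mulVec_mulVec]
    congr 1
    have e : g.1 ^ 5 = 1 := by rw [← Units.val_pow_eq_pow_val, h5, Units.val_one]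
    simp only [mul_add, mul_one, ← pow_succ']
    rw [← pow_two, e]
    abel
  have hh2 : h * h + h + 1 = 0 := by
    have e : (g⁻¹).1 = g.1 ^ 4 := by
      rw [← Units.val_pow_eq_pow_val]
      congr 1
      exact inv_eq_of_mul_eq_one_right (by rw [← pow_succ', h5])
    have e5 : g.1 ^ 5 = 1 := by rw [← Units.val_pow_eq_pow_val, h5, Units.val_one]
    have two : (1 : M4) + 1 = 0 := by ext i j; simp [CharTwo.add_self_eq_zero]
    rw [hh, e, ← hsum]
    have : (g.1 + g.1 ^ 4) * (g.1 + g.1 ^ 4) = g.1 ^ 2 + g.1 ^ 3 + (g.1 ^ 5 + g.1 ^ 5) := by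
      calc (g.1 + g.1 ^ 4) * (g.1 + g.1 ^ 4) = g.1 ^ 2 + g.1 ^ 8 + (g.1 ^ 5 + g.1 ^ 5) := by noncomm_ring
        _ = _ := by rw [show g.1 ^ 8 = g.1 ^ 3 * g.1 ^ 5 from (pow_add g.1 3 5), e5, mul_one]
    rw [this, e5, two]
    abel
  by_cases hs1 : s = 1
  · exact Or.inr hs1
  left
  obtain ⟨l, hl⟩ : ∃ l : K, h = l • 1 := by
    refine ⟨(s + 1)⁻¹ * (c + 1), ?_⟩
    have e : (s + 1) • h = (c + 1) • (1 : M4) := by
      ext i j
      have q1 := congrFun (congrFun hquad i) j
      have q2 := congrFun (congrFun hh2 i) j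
      simp only [Matrix.add_apply, Matrix.smul_apply, smul_eq_mul, Matrix.zero_apply] at q1 q2 ⊢
      linear_combination q1 - q2 + (h i j - c * (1 : M4) i j) * (CharTwo.two_eq_zero : (2 : K) = 0)
    have hne : s + 1 ≠ 0 := fun e => hs1 (CharTwo.add_eq_zero.1 e)
    rw [mul_smul, ← e, smul_smul, inv_mul_cancel₀ hne, one_smul]
  have e0 := congrFun (congrFun hl 0) 0
  have e1 := congrFun (congrFun hl 1) 1
  rw [hh, hinv] at e0 e1
  simp [CfsgLib.Char.SuzukiGraph.adjJ] at e0 e1
  rw [hs]
  linear_combination e0 + e1 + l * (CharTwo.two_eq_zero : (2 : K) = 0)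

/-- The perpendicular subspace. -/
def perp4 (W : Submodule K (Fin 4 → K)) : Submodule K (Fin 4 → K) where
  carrier := {x | ∀ w ∈ W, altForm4 x w = 0}
  zero_mem' := fun w _ => f_zero_l w
  add_mem' := fun {a b} ha hb w hw => by rw [f_add_l, ha w hw, hb w hw, add_zero]
  smul_mem' := fun c a ha w hw => by rw [f_smul_l, ha w hw, mul_zero]

theorem finrank_perp (W : Submodule K (Fin 4 → K)) :
    Module.finrank K W + Module.finrank K (perp4 W) = 4 := by
  let Φ : V →ₗ[K] Module.Dual K V :=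
    { toFun := fL
      map_add' := fun u v => LinearMap.ext fun x => f_add_r x u v
      map_smul' := fun c u => LinearMap.ext fun x => f_smul_r c x u }
  have hinj : Function.Injective Φ := by
    rw [← LinearMap.ker_eq_bot, Submodule.eq_bot_iff]
    intro u hu
    exact eq_zero_of_f fun v => by rw [f_comm]; exact LinearMap.congr_fun (LinearMap.mem_ker.1 hu) v
  let e : V ≃ₗ[K] Module.Dual K V := LinearEquiv.ofInjectiveOfFinrankEq Φ hinj Subspace.dual_finrank_eq.symm
  have he : perp4 W = W.dualAnnihilator.comap e.toLinearMap := by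
    ext x
    simp only [Submodule.mem_comap, Submodule.mem_dualAnnihilator]
    refine ⟨fun h w hw => ?_, fun h w hw => ?_⟩
    · show altForm4 w x = 0
      rw [f_comm]; exact h w hw
    · rw [f_comm]; exact h w hw
  rw [he, Submodule.comap_equiv_eq_map_symm, LinearEquiv.finrank_map_eq,
    Subspace.finrank_add_finrank_dualAnnihilator_eq, Module.finrank_fin_fun]

variable {G : Type*} [Group G]

/-- A character of a simple nonabelian group is trivial. -/
theorem fixed_of_char [IsSimpleGroup G] (hna : ∃ x y : G, x * y ≠ y * x) (ρ : G →* GL (Fin 4) K) {v : V} (hv : v ≠ 0)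
    (h : ∀ g, ∃ c : K, ρ g ⬝ₐ v = c • v) (g : G) : ρ g ⬝ₐ v = v := by
  choose c hc using h
  have hmul : ∀ a b, c (a * b) = c a * c b := fun a b => by
    refine smul_left_injective K hv ?_
    beta_reduce
    rw [← hc, map_mul, Units.val_mul, ← Matrix.mulVec_mulVec, hc, Matrix.mulVec_smul, hc, smul_smul, mul_comm]
  have hone : c 1 = 1 := smul_left_injective K hv (by
    beta_reduce; rw [← hc, map_one, Units.val_one, Matrix.one_mulVec, one_smul])
  let χ : G →* K := { toFun := c, map_one' := hone, map_mul' := hmul }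
  rcases (MonoidHom.normal_ker χ.toHomUnits).eq_bot_or_eq_top with e | e
  · obtain ⟨x, y, hxy⟩ := hna
    exact absurd ((MonoidHom.ker_eq_bot_iff _).1 e (by rw [map_mul, map_mul, mul_comm])) hxy
  · have : g ∈ χ.toHomUnits.ker := e ▸ Subgroup.mem_top g
    have h1 : c g = 1 := congrArg Units.val (MonoidHom.mem_ker.1 this)
    rw [hc, h1, one_smul]

/-- An invariant plane without fixed vectors of the group has none of an element of order five. -/
theorem plane_five [IsSimpleGroup G] (hna : ∃ x y : G, x * y ≠ y * x) (ρ : G →* GL (Fin 4) K)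
    (W : Submodule K (Fin 4 → K)) (hW : ∀ g, ∀ w ∈ W, ρ g ⬝ₐ w ∈ W) (hd : Module.finrank K W = 2)
    (hfix : ∀ v ∈ W, (∀ g, ρ g ⬝ₐ v = v) → v = 0) {g : G} (h5 : g ^ 5 = 1) (hg : g ≠ 1) {v : V} (hv : v ∈ W)
    (hgv : ρ g ⬝ₐ v = v) : v = 0 := by
  classical
  let b := Module.finBasisOfFinrankEq K W hd
  let T : G →* Module.End K W :=
    { toFun := fun a => ((Matrix.toLin' (ρ a).1).restrict fun w hw => by rw [Matrix.toLin'_apply]; exact hW a w hw)
      map_one' := LinearMap.ext fun w => Subtype.ext (by simp)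
      map_mul' := fun a a' => LinearMap.ext fun w => Subtype.ext (by simp [Matrix.mulVec_mulVec]) }
  let R : G →* Matrix (Fin 2) (Fin 2) K :=
    { toFun := fun a => LinearMap.toMatrix b b (T a)
      map_one' := by rw [map_one]; exact LinearMap.toMatrix_one b
      map_mul' := fun a a' => by rw [map_mul]; exact LinearMap.toMatrix_mul b _ _ }
  have hker : ∀ a, R a = 1 → a = 1 := by
    intro a ha
    rcases (MonoidHom.normal_ker R.toHomUnits).eq_bot_or_eq_top with e | e
    · have : a ∈ R.toHomUnits.ker := MonoidHom.mem_ker.2 (Units.ext ha)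
      rwa [e, Subgroup.mem_bot] at this
    · exfalso
      obtain ⟨w, hw, hw0⟩ := (Submodule.ne_bot_iff W).1 (fun e0 => by rw [e0, finrank_bot] at hd; omega)
      refine hw0 (hfix w hw fun a' => ?_)
      have h1 : R a' = 1 := congrArg Units.val (MonoidHom.mem_ker.1 (e ▸ Subgroup.mem_top a' : a' ∈ R.toHomUnits.ker))
      have h2 : T a' = 1 := (LinearMap.toMatrix b b).injective (h1.trans (LinearMap.toMatrix_one b).symm)
      have h3 := congrArg Subtype.val (LinearMap.congr_fun h2 ⟨w, hw⟩)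
      simp only [T, MonoidHom.coe_mk, OneHom.coe_mk, Module.End.one_apply] at h3
      simpa using h3
  have hdet : ∀ a, (R a).det = 1 := by
    intro a
    let δ : G →* K := Matrix.detMonoidHom.comp R
    rcases (MonoidHom.normal_ker δ.toHomUnits).eq_bot_or_eq_top with e | e
    · obtain ⟨x, y, hxy⟩ := hna
      exact absurd ((MonoidHom.ker_eq_bot_iff _).1 e (by rw [map_mul, map_mul, mul_comm])) hxy
    · exact congrArg Units.val (MonoidHom.mem_ker.1 (e ▸ Subgroup.mem_top a : a ∈ δ.toHomUnits.ker))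
  by_contra hv0
  refine hg ?_
  have hvec : R g *ᵥ (b.repr ⟨v, hv⟩ : Fin 2 → K) = b.repr ⟨v, hv⟩ := by
    show LinearMap.toMatrix b b (T g) *ᵥ _ = _
    rw [LinearMap.toMatrix_mulVec_repr]
    congr 2
    exact Subtype.ext (by simpa [T] using hgv)
  have hne : (b.repr ⟨v, hv⟩ : Fin 2 → K) ≠ 0 := fun e => hv0 (congrArg Subtype.val
    (b.repr.map_eq_zero_iff.1 (Finsupp.ext (congrFun e))))
  generalize (b.repr ⟨v, hv⟩ : Fin 2 → K) = x at hvec hne
  have hd1 := hdet g
  have hR5 : R g ^ 5 = 1 := by rw [← map_pow, h5, map_one]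
  apply hker
  generalize R g = M at hvec hd1 hR5
  have e0 := congrFun hvec 0
  have e1 := congrFun hvec 1
  simp only [Matrix.mulVec, dotProduct, Fin.sum_univ_two] at e0 e1
  rw [Matrix.det_fin_two] at hd1
  have htr : M 0 0 + M 1 1 = 0 := by
    by_contra hh
    refine hne (funext fun i => ?_)
    have k0 : (M 0 0 + M 1 1) * x 0 = 0 := by
      linear_combination (M 1 1 - 1) * e0 - M 0 1 * e1 - x 0 * hd1 + x 0 * (M 0 0 + M 1 1 - 1) * (CharTwo.two_eq_zero : (2 : K) = 0)
    have k1 : (M 0 0 + M 1 1) * x 1 = 0 := by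
      linear_combination (M 0 0 - 1) * e1 - M 1 0 * e0 - x 1 * hd1 + x 1 * (M 0 0 + M 1 1 - 1) * (CharTwo.two_eq_zero : (2 : K) = 0)
    fin_cases i
    exacts [(mul_eq_zero.1 k0).resolve_left hh, (mul_eq_zero.1 k1).resolve_left hh]
  have hM2 : M * M = 1 := by
    have h2 : (2 : K) = 0 := CharTwo.two_eq_zero
    ext i j
    fin_cases i <;> fin_cases j <;> simp [Matrix.mul_apply, Fin.sum_univ_two, Matrix.one_apply] <;> grobner
  calc M = M * (M * M) * (M * M) := by rw [hM2, mul_one, mul_one]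
    _ = M ^ 5 := by simp only [pow_succ, pow_zero, one_mul, mul_assoc]
    _ = 1 := hR5

theorem exists_five_elt {L : Type} [Field L] [CharP L 2] [Fintype L] (hL : Fintype.card L = 4) :
    ∃ s : L, s ≠ 0 ∧ orderOf (L2.u s * L2.w) = 5 := by
  classical
  obtain ⟨s, hs0, hs1⟩ : ∃ s : L, s ≠ 0 ∧ s ≠ 1 := by
    by_contra hc
    push Not at hc
    have : (Finset.univ : Finset L) ⊆ {0, 1} := fun x _ => by
      by_cases hx : x = 0
      · simp [hx]
      · simp [hc x hx]
    have := (Finset.card_le_card this).trans Finset.card_le_two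
    rw [Finset.card_univ, hL] at this
    omega
  have hq : s ^ 2 + s + 1 = 0 := by
    have h3 := FiniteField.pow_card_sub_one_eq_one s hs0
    rw [hL] at h3
    have : (s - 1) * (s ^ 2 + s + 1) = 0 := by linear_combination h3
    exact (mul_eq_zero.1 this).resolve_left (sub_ne_zero.2 hs1)
  refine ⟨s, hs0, ?_⟩
  haveI : Fact (Nat.Prime 5) := ⟨by norm_num⟩
  have h2 : (2 : L) = 0 := CharTwo.two_eq_zero
  refine orderOf_eq_prime ?_ fun e => ?_
  · apply Subtype.ext
    simp only [pow_succ, pow_zero, one_mul, Matrix.SpecialLinearGroup.coe_mul, Matrix.SpecialLinearGroup.coe_one]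
    simp only [L2.u, L2.w, Matrix.mul_fin_two, Matrix.one_fin_two]
    ext i j
    fin_cases i <;> fin_cases j <;> simp <;> grobner
  · have := congrFun (congrFun (congrArg Subtype.val e) 0) 0
    rw [Matrix.SpecialLinearGroup.coe_mul, Matrix.SpecialLinearGroup.coe_one] at this
    simp [L2.u, L2.w, Matrix.mul_fin_two] at this
    exact hs1 this

theorem alt5_nonab : ∃ x y : alternatingGroup (Fin 5), x * y ≠ y * x := by decide +kernel

/-- The traces of the elements of order five. -/
theorem alt5_trace [IsAlgClosed K] (ρ : alternatingGroup (Fin 5) →* GL (Fin 4) K) (hsp : ∀ g, ρ g ∈ Sp4 K)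
    (hfix : ∀ v : V, (∀ g, ρ g ⬝ₐ v = v) → v = 0) {g : alternatingGroup (Fin 5)} (hg : orderOf g = 5) :
    (Units.val (ρ g) : M4).trace = 0 ∨ (Units.val (ρ g) : M4).trace = 1 := by
  classical
  haveI : IsSimpleGroup (alternatingGroup (Fin 5)) := alternatingGroup.isSimpleGroup (by simp)
  have h5 : g ^ 5 = 1 := orderOf_dvd_iff_pow_eq_one.1 hg.dvd
  have hg1 : g ≠ 1 := fun e => by rw [e, orderOf_one] at hg; omega
  by_cases hirr : ∀ W : Submodule K V, (∀ a, ∀ w ∈ W, ρ a ⬝ₐ w ∈ W) → W = ⊥ ∨ W = ⊤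
  · haveI : Fintype (GaloisField 2 2) := Fintype.ofFinite _
    have hL : Fintype.card (GaloisField 2 2) = 4 := by
      rw [← Nat.card_eq_fintype_card, GaloisField.card 2 2 two_ne_zero]; norm_num
    obtain ⟨e₁⟩ := CfsgLib.CIT.sl_two_equiv_psl (K := GaloisField 2 2)
    obtain ⟨e₂⟩ := Cfsg.Agent.S0252.result (F := GaloisField 2 2) hL
    let e := e₁.trans e₂
    have hh : L2.Hyp (ρ.comp e.toMonoidHom) := ⟨fun a => hsp _, fun W hW => hirr W fun a w hw => by
      have := hW (e.symm a) w hw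
      simpa using this⟩
    obtain ⟨s, hs, hord⟩ := exists_five_elt hL
    let x := e (L2.u s * L2.w)
    have hx : orderOf x = 5 := by rw [MulEquiv.orderOf_eq, hord]
    have hx3 : (L2.u (1 : GaloisField 2 2) * L2.w) ^ 3 = 1 := by
      have h2 : (2 : GaloisField 2 2) = 0 := CharTwo.two_eq_zero
      apply Subtype.ext
      simp only [pow_succ, pow_zero, one_mul, Matrix.SpecialLinearGroup.coe_mul, Matrix.SpecialLinearGroup.coe_one]
      simp only [L2.u, L2.w, Matrix.mul_fin_two, Matrix.one_fin_two]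
      ext i j
      fin_cases i <;> fin_cases j <;> simp <;> grobner
    have htx : (Units.val (ρ x) : M4).trace = 0 ∨ (Units.val (ρ x) : M4).trace = 1 := by
      have := L2.trace_uw hh (by rw [Nat.card_eq_fintype_card, hL]) hs
      rw [show (Units.val (ρ x) : M4).trace = _ from this]
      exact trace_three (hsp _) (by rw [← map_pow, hx3, map_one])
    haveI : Fact (Nat.Prime 5) := ⟨by norm_num⟩
    have hcard : Nat.card (alternatingGroup (Fin 5)) = 60 := by
      rw [← Nat.card_congr e.toEquiv, CfsgLib.Classical.card_sl2, hL]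
    have hsyl : 5 ^ (Nat.card (alternatingGroup (Fin 5))).factorization 5 = 5 := by
      rw [hcard, show (60 : ℕ) = 12 * 5 by norm_num, Nat.factorization_mul (by norm_num) (by norm_num),
        Finsupp.add_apply, Nat.factorization_eq_zero_of_not_dvd (by norm_num), Nat.Prime.factorization_self (by norm_num)]
      norm_num
    let S₁ := Sylow.ofCard (Subgroup.zpowers x) (by rw [Nat.card_zpowers, hx, hsyl])
    let S₂ := Sylow.ofCard (Subgroup.zpowers g) (by rw [Nat.card_zpowers, hg, hsyl])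
    obtain ⟨c, hc⟩ := MulAction.exists_smul_eq (alternatingGroup (Fin 5)) S₁ S₂
    have hmem : g ∈ (c • S₁ : Sylow 5 (alternatingGroup (Fin 5))).toSubgroup := hc ▸ Subgroup.mem_zpowers g
    rw [Sylow.coe_subgroup_smul] at hmem
    obtain ⟨y, hy, hyc⟩ := Subgroup.mem_map.1 hmem
    have hy' : y ∈ Submonoid.powers x := mem_powers_iff_mem_zpowers.2 (show y ∈ Subgroup.zpowers x from hy)
    obtain ⟨n, rfl⟩ := hy'
    have hyc' : c * x ^ n * c⁻¹ = g := hyc
    rw [← hyc', map_mul, map_mul, map_inv, trace_conj, map_pow]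
    have hx5 : ρ x ^ 5 = 1 := by rw [← map_pow, orderOf_dvd_iff_pow_eq_one.1 hx.dvd, map_one]
    have hmod : ρ x ^ n = ρ x ^ (n % 5) := by
      conv_lhs => rw [← Nat.mod_add_div n 5, pow_add, pow_mul, hx5, one_pow, mul_one]
    have hn5 : n % 5 < 5 := Nat.mod_lt _ (by norm_num)
    rw [hmod]
    have h2 := trace_pow_two (ρ x) 1
    have hinv4 : ρ x ^ 4 = (ρ x)⁻¹ := (inv_eq_of_mul_eq_one_right (by rw [← pow_succ', hx5])).symm
    have hinv3 : ρ x ^ 3 = (ρ x ^ 2)⁻¹ := (inv_eq_of_mul_eq_one_right (by rw [← pow_add, hx5])).symm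
    rw [pow_one] at h2
    have hsq : (Units.val (ρ x ^ 2) : M4).trace = (Units.val (ρ x) : M4).trace := by
      rw [h2]; rcases htx with e | e <;> rw [e] <;> simp
    interval_cases (n % 5)
    · left; rw [pow_zero, Units.val_one, trace_one]
    · rwa [pow_one]
    · rwa [hsq]
    · rw [hinv3, trace_inv ((Sp4 K).pow_mem (hsp _) 2), hsq]; exact htx
    · rw [hinv4, trace_inv (hsp _)]; exact htx
  -- reducible
  push Not at hirr
  obtain ⟨W, hW, hW0, hWt⟩ := hirr
  have noline : ∀ U : Submodule K V, (∀ a, ∀ w ∈ U, ρ a ⬝ₐ w ∈ U) → Module.finrank K U ≠ 1 := by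
    intro U hU h1
    obtain ⟨u, hu, hu0⟩ := (Submodule.ne_bot_iff U).1 (fun e => by rw [e, finrank_bot] at h1; omega)
    refine hu0 (hfix u (fixed_of_char alt5_nonab ρ hu0 fun a => ?_))
    obtain ⟨c, hc⟩ := (finrank_eq_one_iff_of_nonzero' (⟨u, hu⟩ : U) (fun e => hu0 (congrArg Subtype.val e))).1 h1
      ⟨_, hU a u hu⟩
    exact ⟨c, (congrArg Subtype.val hc).symm⟩
  have hperp : ∀ U : Submodule K V, (∀ a, ∀ w ∈ U, ρ a ⬝ₐ w ∈ U) → ∀ a, ∀ w ∈ perp4 U, ρ a ⬝ₐ w ∈ perp4 U := by
    intro U hU a w hw u hu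
    rw [← mulVec_inv (ρ a) u, sp_f (hsp a), ← map_inv]
    exact hw _ (hU _ u hu)
  have hd : Module.finrank K W = 2 := by
    have h1 := noline W hW
    have h3 := noline _ (hperp W hW)
    have hs := finrank_perp W
    have h0 : Module.finrank K W ≠ 0 := fun e => hW0 (Submodule.finrank_eq_zero.1 e)
    have h4 : Module.finrank K W ≠ 4 := fun e => hWt (Submodule.eq_top_of_finrank_eq (by rw [e, Module.finrank_fin_fun]))
    omega
  have hd' : Module.finrank K (perp4 W) = 2 := by
    have := finrank_perp W; omega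
  refine trace_five (hsp g) (by rw [← map_pow, h5, map_one]) fun v hv => ?_
  -- the image of the perpendicular plane is perpendicular to a fixed vector
  let T : perp4 W →ₗ[K] perp4 W :=
    ((Matrix.toLin' ((ρ g).1 - 1))).restrict fun w hw => by
      rw [Matrix.toLin'_apply, Matrix.sub_mulVec, Matrix.one_mulVec]
      exact (perp4 W).sub_mem (hperp W hW g w hw) hw
  have hTinj : Function.Injective T := by
    rw [← LinearMap.ker_eq_bot, Submodule.eq_bot_iff]
    intro w hw
    refine Subtype.ext (plane_five alt5_nonab ρ _ (hperp W hW) hd' (fun x _ h => hfix x h) h5 hg1 w.2 ?_)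
    have := congrArg Subtype.val (LinearMap.mem_ker.1 hw)
    simpa [T, Matrix.sub_mulVec, sub_eq_zero] using this
  have hvW : v ∈ perp4 (perp4 W) := fun w hw => by
    obtain ⟨u, hu⟩ := (LinearMap.injective_iff_surjective.1 hTinj) ⟨w, hw⟩
    have e : w = ρ g ⬝ₐ u.1 - u.1 := by
      have := congrArg Subtype.val hu
      simpa [T, Matrix.sub_mulVec] using this.symm
    have e2 : altForm4 v (ρ g ⬝ₐ u.1) = altForm4 v u.1 := by
      conv_lhs => rw [← hv, sp_f (hsp g)]
    rw [e, sub_eq_add_neg, f_add_r, ← neg_one_smul K u.1, f_smul_r, e2]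
    ring
  have hWW : perp4 (perp4 W) = W := by
    symm
    refine Submodule.eq_of_le_of_finrank_le (fun w hw x hx => by rw [f_comm]; exact hx w hw) ?_
    have := finrank_perp (perp4 W)
    omega
  exact plane_five alt5_nonab ρ W hW hd (fun x _ h => hfix x h) h5 hg1 (hWW ▸ hvW) hv

end CfsgLib.CMax.SpFourRes
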