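import Cfsg.Agent.Lib.CMax.SpFourRes.Tw
import Cfsg.Agent.Lib.CMax.SpFourRes.Five
import Cfsg.Agent.Lib.Invol.SmallSimple
import Cfsg.Agent.S0253
import Cfsg.Agent.S0254

/-!
# The socle is none of the linear CIT groups
-/

set_option autoImplicit false
set_option linter.all false

namespace CfsgLib.CMax.SpFourRes

open Matrix Cfsg.Lie
open Cfsg.Geo (matrixSet ActsAbsolutelyIrreducibly RealisableOver)
open scoped MatrixGroups

variable {F : Type*} [Field F] [Fintype F] [CharP F 2]

local notation "V" => Fin 4 → F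
local notation "M4" => Matrix (Fin 4) (Fin 4) F
local notation "G4" => GL (Fin 4) F

variable {P : Subgroup (GL (Fin 4) F)}

/-- All traces in the prime field. -/
theorem not_all_traces (hc : Core P) [PerfectRing F 2] (hF : ∃ μ : F, μ ≠ 0 ∧ μ ≠ 1)
    (h : ∀ g ∈ P, (Units.val g : M4).trace = 0 ∨ (Units.val g : M4).trace = 1) : False :=
  hc.noSub (K2 F) (K2_ne_top hF) (realisable_of_traces hc.absIrr (K2 F) fun g hg => mem_K2.2 (h g hg))

theorem not_sl_two (hc : Core P) {L : Type} [Field L] [Fintype L] [CharP L 2] (hL : 4 ≤ Fintype.card L)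
    (e : SpecialLinearGroup (Fin 2) L ≃* P) : False := by
  classical
  let κ := algebraMap F (AlgebraicClosure F)
  haveI : CharP (AlgebraicClosure F) 2 := charP_of_injective_ringHom κ.injective 2
  haveI : PerfectRing (AlgebraicClosure F) 2 := PerfectField.toPerfectRing 2
  let ρ : SpecialLinearGroup (Fin 2) L →* GL (Fin 4) (AlgebraicClosure F) :=
    (ext κ).comp (P.subtype.comp e.toMonoidHom)
  have hh : L2.Hyp ρ := ⟨fun a => ext_mem_sp κ (hc.le (e a).2), fun W hW => irred_ext hc.absIrr κ W fun g hg w hw => by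
    have := hW (e.symm ⟨g, hg⟩) w hw
    simpa [ρ] using this⟩
  have hL' : ∃ x : L, x ≠ 0 ∧ x ≠ 1 := by
    by_contra hcon
    push Not at hcon
    have : (Finset.univ : Finset L) ⊆ {0, 1} := fun x _ => by
      by_cases hx : x = 0
      · simp [hx]
      · simp [hcon x hx]
    have := (Finset.card_le_card this).trans Finset.card_le_two
    rw [Finset.card_univ] at this
    omega
  obtain ⟨Q, hadd, hsmul, hfix⟩ := L2.quadFix hh hL'
  exact hc.noQuad (quad_descent κ hc.le (fun l hl => no_covector hc.absIrr κ l hl) Q hadd hsmul fun g hg v =>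
    hfix (ρ (e.symm ⟨g, hg⟩)) ⟨_, rfl⟩ v |> fun h => by simpa [ρ] using h)

theorem not_psl_two_even (hc : Core P) {L : Type} [Field L] [Fintype L] {n : ℕ} (hn : 2 ≤ n)
    (hL : Fintype.card L = 2 ^ n) (e : P ≃* ProjectiveSpecialLinearGroup (Fin 2) L) : False := by
  haveI : CharP L 2 := CfsgLib.Classical.PSL2Spectrum.char_two_of_dvd (hL ▸ dvd_pow_self 2 (by omega))
  obtain ⟨e'⟩ := CfsgLib.CIT.sl_two_equiv_psl (K := L)
  refine not_sl_two hc ?_ (e'.trans e.symm)
  rw [hL]
  calc 4 = 2 ^ 2 := rfl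
    _ ≤ 2 ^ n := Nat.pow_le_pow_right (by norm_num) hn

/-- The upper unitriangular matrices. -/
def up {L : Type} [Field L] (s : L) : SpecialLinearGroup (Fin 2) L :=
  ⟨!![1, s; 0, 1], by simp [Matrix.det_fin_two_of]⟩

theorem up_pow {L : Type} [Field L] (s : L) (n : ℕ) : up s ^ n = up ((n : L) * s) := by
  induction n with
  | zero => rw [pow_zero]; exact Subtype.ext (by simp [up, Matrix.one_fin_two])
  | succ n ih =>
    rw [pow_succ, ih]
    refine Subtype.ext ?_
    show (up ((n : L) * s)).1 * (up s).1 = (up (((n + 1 : ℕ) : L) * s)).1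
    simp [up, Matrix.mul_fin_two, add_mul, add_comm]

theorem not_psl_two_prime (hc : Core P) [PerfectRing F 2] {L : Type} [Field L] [Fintype L]
    (hp : (Fintype.card L).Prime) (h7 : 7 ≤ Fintype.card L)
    (e : P ≃* ProjectiveSpecialLinearGroup (Fin 2) L) : False := by
  classical
  haveI : Fact (Fintype.card L).Prime := ⟨hp⟩
  haveI : CharP L (Fintype.card L) := charP_of_card_eq_prime rfl
  let π := QuotientGroup.mk' (Subgroup.center (SpecialLinearGroup (Fin 2) L))
  let g : P := e.symm (π (up 1))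
  have ho : orderOf (π (up (1 : L))) = Fintype.card L := by
    refine orderOf_eq_prime ?_ fun h => ?_
    · rw [← map_pow, up_pow, CharP.cast_eq_zero, zero_mul, show up (0 : L) = 1 from
        Subtype.ext (by simp [up, Matrix.one_fin_two]), map_one]
    · have hm : up (1 : L) ∈ Subgroup.center (SpecialLinearGroup (Fin 2) L) := by
        rwa [← QuotientGroup.ker_mk' (Subgroup.center (SpecialLinearGroup (Fin 2) L)), MonoidHom.mem_ker]
      obtain ⟨r, -, hr⟩ := Matrix.SpecialLinearGroup.mem_center_iff.1 hm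
      have he : Matrix.scalar (Fin 2) r = (up (1 : L)).1 := hr
      simpa [up] using congrFun (congrFun he 0) 1
  refine no_power_conj (hc.le g.2) hp h7 (by rw [Subgroup.orderOf_coe, MulEquiv.orderOf_eq, ho]) ?_
  intro k hk2 hk5 hkp _
  have hk0 : (k : L) ≠ 0 := fun h => by
    have := (CharP.cast_eq_zero_iff L (Fintype.card L) k).1 h
    have := Nat.le_of_dvd (by omega) this
    omega
  let t : SpecialLinearGroup (Fin 2) L := ⟨!![(k : L), 0; 0, (k : L)⁻¹], by simp [Matrix.det_fin_two_of, hk0]⟩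
  have ht : t * up 1 = up ((((k ^ 2 : ℕ)) : L) * 1) * t := by
    refine Subtype.ext ?_
    show t.1 * (up 1).1 = (up ((((k ^ 2 : ℕ)) : L) * 1)).1 * t.1
    simp [up, t, Matrix.mul_fin_two, pow_two, hk0, mul_assoc]
  refine ⟨(e.symm (π t)).1, ?_⟩
  show ((e.symm (π t)) * g * (e.symm (π t))⁻¹ : P).1 = ((g ^ k ^ 2 : P)).1
  congr 1
  rw [← map_inv, ← map_mul, ← map_mul, ← map_pow, ← map_inv, ← map_mul, ← map_mul, ← map_pow, up_pow]
  congr 2
  rw [mul_inv_eq_iff_eq_mul]
  exact ht

theorem not_psl_three_four (hc : Core P) [PerfectRing F 2] {L : Type} [Field L] [Fintype L] (hL : Fintype.card L = 4)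
    (e : P ≃* ProjectiveSpecialLinearGroup (Fin 3) L) : False := by
  classical
  haveI : CharP L 2 := CfsgLib.Classical.PSL2Spectrum.char_two_of_dvd (hL ▸ (by norm_num))
  have h2 : (2 : L) = 0 := CharTwo.two_eq_zero
  let x : SpecialLinearGroup (Fin 3) L := ⟨!![0, 0, 1; 1, 0, 1; 0, 1, 0], by simp [Matrix.det_fin_three]⟩
  let c : SpecialLinearGroup (Fin 3) L := ⟨!![1, 0, 0; 0, 0, 1; 0, 1, 1], by
    simp [Matrix.det_fin_three, CharTwo.neg_eq]⟩
  have hxc : c * x = x ^ 2 * c := by
    rw [pow_two]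
    refine Subtype.ext ?_
    show c.1 * x.1 = x.1 * x.1 * c.1
    ext i j
    fin_cases i <;> fin_cases j <;> simp [x, c, Matrix.mul_apply, Fin.sum_univ_three, CharTwo.add_self_eq_zero]
  have hx7 : x ^ 7 = 1 := by
    refine Subtype.ext ?_
    simp only [pow_succ, pow_zero, one_mul, Matrix.SpecialLinearGroup.coe_mul, Matrix.SpecialLinearGroup.coe_one]
    simp only [x, Matrix.mul_fin_three, mul_zero, zero_mul, mul_one, one_mul, add_zero, zero_add]
    ext i j
    fin_cases i <;> fin_cases j <;> simp [Matrix.one_apply] <;> grobner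
  let π := QuotientGroup.mk' (Subgroup.center (SpecialLinearGroup (Fin 3) L))
  have ho : orderOf (π x) = 7 := by
    haveI : Fact (Nat.Prime 7) := ⟨by norm_num⟩
    refine orderOf_eq_prime (by rw [← map_pow, hx7, map_one]) fun h => ?_
    have hm : x ∈ Subgroup.center (SpecialLinearGroup (Fin 3) L) := by
      rwa [← QuotientGroup.ker_mk' (Subgroup.center (SpecialLinearGroup (Fin 3) L)), MonoidHom.mem_ker]
    obtain ⟨r, -, hr⟩ := Matrix.SpecialLinearGroup.mem_center_iff.1 hm
    have he : Matrix.scalar (Fin 3) r = x.1 := hr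
    simpa [x] using congrFun (congrFun he 1) 0
  let g : P := e.symm (π x)
  let C : P := e.symm (π c)
  have hg2 : C * g * C⁻¹ = g ^ 2 := by
    rw [mul_inv_eq_iff_eq_mul, ← map_mul, ← map_pow, ← map_mul, ← map_mul, ← map_pow, ← map_mul, hxc]
  have hg4 : (C * C) * g * (C * C)⁻¹ = g ^ 4 := by
    rw [show (C * C) * g * (C * C)⁻¹ = C * (C * g * C⁻¹) * C⁻¹ by group, hg2, ← conj_pow, hg2, ← pow_mul]
  have hg7 : g ^ 7 = 1 := by rw [← map_pow, ← map_pow, hx7, map_one, map_one]
  refine no_power_conj (hc.le g.2) (p := 7) (by norm_num) le_rfl (by rw [Subgroup.orderOf_coe, MulEquiv.orderOf_eq, ho]) ?_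
  intro k hk2 hk5 hk7 hk
  obtain rfl | rfl : k = 2 ∨ k = 3 := by omega
  · exact ⟨(C * C).1, congrArg Subtype.val (by rw [hg4]; rfl : (C * C) * g * (C * C)⁻¹ = g ^ 2 ^ 2)⟩
  · exact ⟨C.1, congrArg Subtype.val (by
      rw [hg2, show (3 : ℕ) ^ 2 = 7 + 2 by norm_num, pow_add, hg7, one_mul] : C * g * C⁻¹ = g ^ 3 ^ 2)⟩

theorem alt6_orders : ∀ σ : Equiv.Perm (Fin 6),
    Equiv.Perm.sign σ = 1 → σ ^ 4 = 1 ∨ σ ^ 3 = 1 ∨ σ ^ 5 = 1 := by decide +kernel

theorem alt6_two_trans : ∀ i j : Fin 6, i ≠ j →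
    ∃ σ : Equiv.Perm (Fin 6), Equiv.Perm.sign σ = 1 ∧ σ 0 = i ∧ σ 1 = j := by decide +kernel

/-- The stabiliser of a point in the alternating group of degree six. -/
def emb6 : alternatingGroup (Fin 5) →* alternatingGroup (Fin 6) where
  toFun σ := ⟨Equiv.Perm.decomposeFin.symm (0, σ.1), by
    rw [Equiv.Perm.mem_alternatingGroup, Equiv.Perm.decomposeFin.symm_sign, if_pos rfl, one_mul]
    exact σ.2⟩
  map_one' := Subtype.ext (Equiv.ext fun i => by cases i using Fin.cases <;> simp)
  map_mul' a b := Subtype.ext (Equiv.ext fun i => by cases i using Fin.cases <;> simp)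

theorem emb6_injective : Function.Injective emb6 := fun a b h =>
  Subtype.ext (Prod.mk.inj (Equiv.Perm.decomposeFin.symm.injective (congrArg Subtype.val h))).2

theorem exists_emb6 {g : alternatingGroup (Fin 6)} (hg : g.1 0 = 0) : ∃ σ, emb6 σ = g := by
  obtain ⟨⟨p, σ⟩, hσ⟩ := Equiv.Perm.decomposeFin.symm.surjective g.1
  have hp : p = 0 := by
    have h := hg
    rw [← hσ, Equiv.Perm.decomposeFin_symm_apply_zero] at h
    exact h
  subst hp
  have hs : σ ∈ alternatingGroup (Fin 5) := by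
    have h := Equiv.Perm.mem_alternatingGroup.1 g.2
    rw [← hσ, Equiv.Perm.decomposeFin.symm_sign, if_pos rfl, one_mul] at h
    exact h
  exact ⟨⟨σ, hs⟩, Subtype.ext hσ⟩

/-- In an irreducible symplectic representation of the alternating group of degree six, the traces are zero or one. -/
theorem alt6_trace {K : Type*} [Field K] [CharP K 2] [IsAlgClosed K]
    (ρ : alternatingGroup (Fin 6) →* GL (Fin 4) K) (hsp : ∀ g, ρ g ∈ Sp4 K)
    (hirr : ∀ W : Submodule K (Fin 4 → K),
      (∀ a, ∀ w ∈ W, (Units.val (ρ a) : Matrix (Fin 4) (Fin 4) K) *ᵥ w ∈ W) → W = ⊥ ∨ W = ⊤)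
    (g : alternatingGroup (Fin 6)) :
    (Units.val (ρ g) : Matrix (Fin 4) (Fin 4) K).trace = 0 ∨
      (Units.val (ρ g) : Matrix (Fin 4) (Fin 4) K).trace = 1 := by
  classical
  have hfix : ∀ v : Fin 4 → K, (∀ σ, (Units.val (ρ (emb6 σ)) : Matrix (Fin 4) (Fin 4) K) *ᵥ v = v) → v = 0 := by
    intro v hv
    by_contra hv0
    have hcov : ∀ i : Fin 6, ∃ c : alternatingGroup (Fin 6), c.1 0 = i := fun i => by
      obtain ⟨j, hj⟩ := exists_ne i
      obtain ⟨σ, hσ, h0, -⟩ := alt6_two_trans i j hj.symm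
      exact ⟨⟨σ, Equiv.Perm.mem_alternatingGroup.2 hσ⟩, h0⟩
    choose c hc using hcov
    let w : Fin 6 → (Fin 4 → K) := fun i => (Units.val (ρ (c i)) : Matrix (Fin 4) (Fin 4) K) *ᵥ v
    have hw : ∀ a : alternatingGroup (Fin 6), (Units.val (ρ a) : Matrix (Fin 4) (Fin 4) K) *ᵥ v = w (a.1 0) := by
      intro a
      obtain ⟨σ, hσ⟩ := exists_emb6 (g := (c (a.1 0))⁻¹ * a) (by
        show (c (a.1 0)).1⁻¹ (a.1 0) = 0
        exact Equiv.Perm.inv_eq_iff_eq.2 (hc _).symm)
      have := hv σ
      rw [hσ, map_mul, map_inv, Units.val_mul, ← Matrix.mulVec_mulVec] at this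
      show _ = (Units.val (ρ (c (a.1 0))) : Matrix (Fin 4) (Fin 4) K) *ᵥ v
      conv_rhs => rw [← this]
      rw [mulVec_inv]
    have hact : ∀ (a : alternatingGroup (Fin 6)) i, (Units.val (ρ a) : Matrix (Fin 4) (Fin 4) K) *ᵥ w i = w (a.1 i) := by
      intro a i
      show _ *ᵥ (_ *ᵥ v) = _
      rw [Matrix.mulVec_mulVec, ← Units.val_mul, ← map_mul, hw]
      congr 1
      show a.1 ((c i).1 0) = _
      rw [hc]
    have hinv : ∀ (S : Set (Fin 4 → K)), (∀ a : alternatingGroup (Fin 6), ∀ s ∈ S,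
        (Units.val (ρ a) : Matrix (Fin 4) (Fin 4) K) *ᵥ s ∈ S) → ∀ a : alternatingGroup (Fin 6),
        ∀ y ∈ Submodule.span K S, (Units.val (ρ a) : Matrix (Fin 4) (Fin 4) K) *ᵥ y ∈ Submodule.span K S := by
      intro S hS a y hy
      induction hy using Submodule.span_induction with
      | mem x hx => exact Submodule.subset_span (hS a x hx)
      | zero => rw [Matrix.mulVec_zero]; exact Submodule.zero_mem _
      | add x y _ _ h1 h2 => rw [Matrix.mulVec_add]; exact Submodule.add_mem _ h1 h2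
      | smul k x _ h1 => rw [Matrix.mulVec_smul]; exact Submodule.smul_mem _ k h1
    have hsum : ∑ i, w i = 0 := by
      by_contra h0
      rcases hirr _ (hinv {∑ i, w i} fun a s hs => by
        rw [Set.mem_singleton_iff] at hs ⊢
        rw [hs, Matrix.mulVec_sum]
        simp only [hact]
        exact Equiv.sum_comp a.1 w) with e | e
      · exact h0 (by simpa using (Submodule.span_singleton_eq_bot.1 e))
      · have h1 := finrank_span_singleton (K := K) h0
        rw [e, finrank_top, Module.finrank_fin_fun] at h1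
        omega
    have hpair : ∀ i j, altForm4 (w i) (w j) = if i = j then 0 else altForm4 (w 0) (w 1) := by
      intro i j
      by_cases hij : i = j
      · rw [if_pos hij, hij, f_self]
      rw [if_neg hij]
      obtain ⟨σ, hσ, h0, h1⟩ := alt6_two_trans i j hij
      have := sp_f (hsp ⟨σ, Equiv.Perm.mem_alternatingGroup.2 hσ⟩) (w 0) (w 1)
      rw [hact, hact] at this
      simpa [h0, h1] using this
    have hc0 : altForm4 (w 0) (w 1) = 0 := by
      generalize hk : altForm4 (w 0) (w 1) = k at hpair ⊢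
      have h := congrArg (fun y => altForm4 (w 0) y) hsum
      simp only [Fin.sum_univ_six, f_add_r, f_zero_r, hpair] at h
      simp at h
      linear_combination h - 2 * k * (CharTwo.two_eq_zero : (2 : K) = 0)
    have hwv : w ((1 : alternatingGroup (Fin 6)).1 0) = v := by
      rw [← hw, map_one, Units.val_one, Matrix.one_mulVec]
    rcases hirr _ (hinv (Set.range w) fun a s hs => by
      obtain ⟨i, rfl⟩ := hs; exact ⟨a.1 i, (hact a i).symm⟩) with e | e
    · have := Submodule.subset_span (R := K) (s := Set.range w) ⟨_, hwv⟩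
      rw [e, SetLike.mem_coe, Submodule.mem_bot] at this
      exact hv0 this
    · refine hv0 (eq_zero_of_f_span e ?_)
      rintro _ ⟨j, rfl⟩
      rw [← hwv, hpair]
      split <;> simp [hc0]
  haveI : Fact (Nat.Prime 5) := ⟨by norm_num⟩
  rcases alt6_orders g.1 (Equiv.Perm.mem_alternatingGroup.1 g.2) with h | h | h
  · left
    refine trace_two_elt (n := 2) ?_
    rw [← map_pow, show g ^ 2 ^ 2 = 1 from Subtype.ext h, map_one]
  · exact trace_three (hsp g) (by rw [← map_pow, show g ^ 3 = 1 from Subtype.ext h, map_one])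
  by_cases hg1 : g = 1
  · left; rw [hg1, map_one, Units.val_one, trace_one]
  have hg5 : orderOf g = 5 := orderOf_eq_prime (Subtype.ext h) hg1
  obtain ⟨x, hx⟩ : ∃ x : alternatingGroup (Fin 5), orderOf x = 5 :=
    exists_prime_orderOf_dvd_card' 5 (by
      rw [Nat.card_eq_fintype_card]; exact (by decide +kernel : 5 ∣ Fintype.card (alternatingGroup (Fin 5))))
  have hx6 : orderOf (emb6 x) = 5 := by rw [orderOf_injective emb6 emb6_injective, hx]
  have hcard : Nat.card (alternatingGroup (Fin 6)) = 360 := by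
    rw [nat_card_alternatingGroup, Nat.card_fin]; rfl
  have hsyl : 5 ^ (Nat.card (alternatingGroup (Fin 6))).factorization 5 = 5 := by
    rw [hcard, show (360 : ℕ) = 72 * 5 by norm_num, Nat.factorization_mul (by norm_num) (by norm_num),
      Finsupp.add_apply, Nat.factorization_eq_zero_of_not_dvd (by norm_num), Nat.Prime.factorization_self (by norm_num)]
    norm_num
  let S₁ := Sylow.ofCard (Subgroup.zpowers (emb6 x)) (by rw [Nat.card_zpowers, hx6, hsyl])
  let S₂ := Sylow.ofCard (Subgroup.zpowers g) (by rw [Nat.card_zpowers, hg5, hsyl])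
  obtain ⟨d, hd⟩ := MulAction.exists_smul_eq (alternatingGroup (Fin 6)) S₁ S₂
  have hmem : g ∈ (d • S₁ : Sylow 5 (alternatingGroup (Fin 6))).toSubgroup := hd ▸ Subgroup.mem_zpowers g
  rw [Sylow.coe_subgroup_smul] at hmem
  obtain ⟨y, hy, hyd⟩ := Subgroup.mem_map.1 hmem
  obtain ⟨n, rfl⟩ := mem_powers_iff_mem_zpowers.2 (show y ∈ Subgroup.zpowers (emb6 x) from hy)
  have hyd' : d * emb6 x ^ n * d⁻¹ = g := hyd
  rw [← hyd', ← map_pow, map_mul, map_mul, map_inv, trace_conj]
  have hne : x ^ n ≠ 1 := fun e => hg1 (by rw [← hyd', ← map_pow, e, map_one]; group)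
  exact alt5_trace (ρ.comp emb6) (fun a => hsp _) hfix
    (orderOf_eq_prime (by rw [← pow_mul, mul_comm, pow_mul, orderOf_dvd_iff_pow_eq_one.1 hx.dvd, one_pow]) hne)

theorem not_psl_two_nine (hc : Core P) [PerfectRing F 2] (hF : ∃ μ : F, μ ≠ 0 ∧ μ ≠ 1) {L : Type} [Field L]
    [Fintype L] (hL : Fintype.card L = 9) (e : P ≃* ProjectiveSpecialLinearGroup (Fin 2) L) : False := by
  classical
  obtain ⟨e'⟩ := Cfsg.Agent.S0254.result (F := L) hL
  let κ := algebraMap F (AlgebraicClosure F)
  haveI : CharP (AlgebraicClosure F) 2 := charP_of_injective_ringHom κ.injective 2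
  let E : P ≃* alternatingGroup (Fin 6) := e.trans e'
  refine not_all_traces hc hF fun g hg => ?_
  have := alt6_trace ((ext κ).comp (P.subtype.comp E.symm.toMonoidHom)) (fun a => ext_mem_sp κ (hc.le (E.symm a).2))
    (fun W hW => irred_ext hc.absIrr κ W fun a ha w hw => by
      have h1 := hW (E ⟨a, ha⟩) w hw
      simpa using h1) (E ⟨g, hg⟩)
  have ht : ((Units.val g : M4).map κ).trace = κ (Units.val g : M4).trace := (AddMonoidHom.map_trace κ.toAddMonoidHom _).symm
  simp only [MonoidHom.comp_apply, MulEquiv.coe_toMonoidHom, MulEquiv.symm_apply_apply, Subgroup.subtype_apply,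
    ext_val, ht] at this
  exact this.imp (fun h => κ.injective (by rw [h, map_zero])) (fun h => κ.injective (by rw [h, map_one]))

theorem not_psl_two (hc : Core P) [PerfectRing F 2] (hF : ∃ μ : F, μ ≠ 0 ∧ μ ≠ 1) {L : Type} [Field L] [Fintype L]
    (hcard : Fintype.card L = 9 ∨ (∃ n : ℕ, 2 ≤ n ∧ Fintype.card L = 2 ^ n) ∨ (Fintype.card L).Prime)
    (e : P ≃* ProjectiveSpecialLinearGroup (Fin 2) L) : False := by
  classical
  rcases hcard with h | ⟨n, hn, h⟩ | h
  · exact not_psl_two_nine hc hF h e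
  · exact not_psl_two_even hc hn h e
  by_cases h7 : 7 ≤ Fintype.card L
  · exact not_psl_two_prime hc h h7 e
  by_cases h5 : Fintype.card L = 5
  · obtain ⟨e₅⟩ := Cfsg.Agent.S0253.result (F := L) h5
    haveI : Fintype (GaloisField 2 2) := Fintype.ofFinite _
    have hL : Fintype.card (GaloisField 2 2) = 4 := by
      rw [← Nat.card_eq_fintype_card, GaloisField.card 2 2 two_ne_zero]; norm_num
    obtain ⟨e₄⟩ := Cfsg.Agent.S0252.result (F := GaloisField 2 2) hL
    exact not_psl_two_even hc (n := 2) le_rfl (by rw [hL]; norm_num) (e.trans (e₅.trans e₄.symm))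
  · haveI := hc.simple
    have hna : ¬ IsMulCommutative P := fun hcm => by
      obtain ⟨x, hx, y, hy, hxy⟩ := hc.nonab
      exact hxy (congrArg Subtype.val (hcm.is_comm.comm ⟨x, hx⟩ ⟨y, hy⟩))
    have hb : Nat.card P ≤ 30 := by
      have hk := CfsgLib.Classical.card_psl2 (F := L)
      rw [← Nat.card_congr e.toEquiv] at hk
      have h2 := h.two_le
      have hg : 0 < Nat.gcd 2 (Fintype.card L - 1) := Nat.gcd_pos_of_pos_left _ two_pos
      have hle : Nat.card P ≤ Nat.gcd 2 (Fintype.card L - 1) * Nat.card P := Nat.le_mul_of_pos_left _ hg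
      obtain h23 | h23 : Fintype.card L = 2 ∨ Fintype.card L = 3 := by
        rcases (show Fintype.card L = 2 ∨ Fintype.card L = 3 ∨ Fintype.card L = 4 ∨ Fintype.card L = 6 by omega) with
          e' | e' | e' | e'
        · exact Or.inl e'
        · exact Or.inr e'
        · rw [e'] at h; norm_num at h
        · rw [e'] at h; norm_num at h
      all_goals rw [h23] at hk hle; omega
    have := CfsgLib.Invol.card_eq_sixty_of_le_hundred (G := P) hna (by omega)
    omega

end CfsgLib.CMax.SpFourRes
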