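import Cfsg.Agent.Lib.CMax.SpFourRes.Traces
import Cfsg.Agent.Lib.CMax.SpFourRes.Setup
import Cfsg.Agent.Lib.Char.SuzukiGraph

/-!
# Field extensions, traces and eigenvalues

An absolutely irreducible group stays irreducible over every larger field. In characteristic two the trace of a
square is the square of the trace, and a symplectic matrix and its inverse have the same eigenvalues.
-/

set_option autoImplicit false
set_option linter.all false

namespace CfsgLib.CMax.SpFourRes

open Matrix Cfsg.Lie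
open Cfsg.Geo (matrixSet ActsAbsolutelyIrreducibly)
open CfsgLib.Char.SuzukiGraph (adjJ inv_eq_adjJ)

variable {F : Type*} [Field F] {K : Type*} [Field K]

local notation "M4" => Matrix (Fin 4) (Fin 4) F
local notation "V" => Fin 4 → F
local notation "G4" => GL (Fin 4) F

/-- The matrices over the larger field. -/
abbrev ext (ι : F →+* K) : GL (Fin 4) F →* GL (Fin 4) K := Matrix.GeneralLinearGroup.map ι

theorem ext_val (ι : F →+* K) (g : G4) :
    (Units.val (ext ι g) : Matrix (Fin 4) (Fin 4) K) = (Units.val g : M4).map ι := rfl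

theorem ext_injective (ι : F →+* K) : Function.Injective (ext ι) := fun g h e =>
  Units.ext (Matrix.map_injective ι.injective (congrArg Units.val e))

theorem ext_mem_sp (ι : F →+* K) {g : G4} (hg : g ∈ Sp4 F) : ext ι g ∈ Sp4 K := by
  intro u v
  have key : ∀ i j : Fin 4, altForm4 (fun a => ι (g.1 a i)) (fun a => ι (g.1 a j)) =
      if i + j = 3 then 1 else 0 := by
    intro i j
    simp only [altForm4, ← map_mul, ← map_add, CfsgLib.Char.SuzukiGraph.col_rel hg i j]
    split <;> simp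
  simp only [Units.coeHom_apply, ext_val, altForm4, Matrix.mulVec, dotProduct, Fin.sum_univ_four, Matrix.map_apply]
  have k00 := key 0 0
  have k01 := key 0 1
  have k02 := key 0 2
  have k03 := key 0 3
  have k10 := key 1 0
  have k11 := key 1 1
  have k12 := key 1 2
  have k13 := key 1 3
  have k20 := key 2 0
  have k21 := key 2 1
  have k22 := key 2 2
  have k23 := key 2 3
  have k30 := key 3 0
  have k31 := key 3 1
  have k32 := key 3 2
  have k33 := key 3 3
  simp [altForm4] at k00 k01 k02 k03 k10 k11 k12 k13 k20 k21 k22 k23 k30 k31 k32 k33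
  linear_combination u 0 * v 0 * k00 + u 0 * v 1 * k01 + u 0 * v 2 * k02 + u 0 * v 3 * k03 + u 1 * v 0 * k10 +
    u 1 * v 1 * k11 + u 1 * v 2 * k12 + u 1 * v 3 * k13 + u 2 * v 0 * k20 + u 2 * v 1 * k21 + u 2 * v 2 * k22 +
    u 2 * v 3 * k23 + u 3 * v 0 * k30 + u 3 * v 1 * k31 + u 3 * v 2 * k32 + u 3 * v 3 * k33

section abs

variable [Fintype F] {P : Subgroup (GL (Fin 4) F)}

theorem map_mulVec_mem (hP : ActsAbsolutelyIrreducibly (matrixSet P)) (ι : F →+* K) {W : Submodule K (Fin 4 → K)}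
    (hW : ∀ g ∈ P, ∀ w ∈ W, (Units.val g : M4).map ι *ᵥ w ∈ W) (X : M4) {w : Fin 4 → K} (hw : w ∈ W) :
    X.map ι *ᵥ w ∈ W := by
  have hX : X ∈ Submodule.span F (matrixSet P) := span_eq_top hP ▸ Submodule.mem_top
  induction hX using Submodule.span_induction with
  | mem x hx => obtain ⟨g, hg, rfl⟩ := hx; exact hW g hg w hw
  | zero => simp
  | add x y _ _ h1 h2 => rw [Matrix.map_add _ (map_add ι), Matrix.add_mulVec]; exact W.add_mem h1 h2
  | smul c x _ h1 => rw [show (c • x).map ι = ι c • x.map ι by ext; simp, Matrix.smul_mulVec]; exact W.smul_mem _ h1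

theorem irred_ext (hP : ActsAbsolutelyIrreducibly (matrixSet P)) (ι : F →+* K) (W : Submodule K (Fin 4 → K))
    (hW : ∀ g ∈ P, ∀ w ∈ W, (Units.val g : M4).map ι *ᵥ w ∈ W) : W = ⊥ ∨ W = ⊤ := by
  refine or_iff_not_imp_left.2 fun hne => ?_
  obtain ⟨w, hw, hw0⟩ := (Submodule.ne_bot_iff W).1 hne
  obtain ⟨k, hk⟩ := Function.ne_iff.1 hw0
  have hbasis : ∀ i, Pi.single i (1 : K) ∈ W := by
    intro i
    have h := map_mulVec_mem hP ι hW (Matrix.single i k 1) hw
    have e : (Matrix.single i k (1 : F)).map ι *ᵥ w = w k • Pi.single i (1 : K) := by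
      funext a
      simp [Matrix.mulVec, dotProduct, Matrix.single_apply, Pi.single_apply, apply_ite ι, ite_and, ite_mul,
        eq_comm]
    rw [e] at h
    simpa [smul_smul, inv_mul_cancel₀ (show w k ≠ 0 from hk)] using W.smul_mem (w k)⁻¹ h
  rw [Submodule.eq_top_iff']
  intro x
  rw [pi_eq_sum_univ' x]
  exact Submodule.sum_mem _ fun i _ => W.smul_mem _ (hbasis i)

theorem no_covector (hP : ActsAbsolutelyIrreducibly (matrixSet P)) (ι : F →+* K) (l : Fin 4 → K)
    (hl : ∀ g ∈ P, l ᵥ* (Units.val g : M4).map ι = l) : l = 0 := by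
  by_contra hne
  obtain ⟨k, hk⟩ := Function.ne_iff.1 hne
  have hmul : ∀ X : M4, ∃ c : K, l ᵥ* X.map ι = c • l := by
    intro X
    have hX : X ∈ Submodule.span F (matrixSet P) := span_eq_top hP ▸ Submodule.mem_top
    induction hX using Submodule.span_induction with
    | mem x hx => obtain ⟨g, hg, rfl⟩ := hx; exact ⟨1, by rw [one_smul]; exact hl g hg⟩
    | zero => exact ⟨0, by simp⟩
    | add x y _ _ h1 h2 =>
      obtain ⟨a, ha⟩ := h1
      obtain ⟨b, hb⟩ := h2
      exact ⟨a + b, by rw [Matrix.map_add _ (map_add ι), Matrix.vecMul_add, ha, hb, add_smul]⟩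
    | smul c x _ h1 =>
      obtain ⟨a, ha⟩ := h1
      exact ⟨ι c * a, by rw [show (c • x).map ι = ι c • x.map ι by ext; simp, Matrix.vecMul_smul, ha, smul_smul]⟩
  obtain ⟨j, hj⟩ : ∃ j, j ≠ k := exists_ne k
  obtain ⟨c, hc⟩ := hmul (Matrix.single k j 1)
  have e : ∀ a, (l ᵥ* (Matrix.single k j (1 : F)).map ι) a = if a = j then l k else 0 := fun a => by
    simp [Matrix.vecMul, dotProduct, Matrix.single_apply, apply_ite ι, ite_and, mul_ite, eq_comm]
  have hck := congrFun hc k
  have hcj := congrFun hc j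
  rw [e, if_neg hj.symm] at hck
  rw [e, if_pos rfl] at hcj
  have hk' : l k ≠ 0 := hk
  have hc0 : c = 0 := by simpa [hk'] using hck.symm
  rw [hc0, zero_smul] at hcj
  exact hk' hcj

end abs

section traces

variable [CharP F 2]

theorem trace_sq (A : M4) : (A * A).trace = A.trace ^ 2 := by
  simp only [Matrix.trace, Matrix.diag_apply, Matrix.mul_apply, Fin.sum_univ_four]
  linear_combination (A 0 1 * A 1 0 + A 0 2 * A 2 0 + A 0 3 * A 3 0 + A 1 2 * A 2 1 + A 1 3 * A 3 1 + A 2 3 * A 3 2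
    - A 0 0 * A 1 1 - A 0 0 * A 2 2 - A 0 0 * A 3 3 - A 1 1 * A 2 2 - A 1 1 * A 3 3 - A 2 2 * A 3 3) *
    (CharTwo.two_eq_zero : (2 : F) = 0)

theorem trace_pow_two (g : G4) (n : ℕ) :
    (Units.val (g ^ 2 ^ n) : M4).trace = (Units.val g : M4).trace ^ 2 ^ n := by
  induction n with
  | zero => simp
  | succ n ih => rw [pow_succ, pow_mul, sq, Units.val_mul, trace_sq, ih, ← pow_mul]

theorem trace_inv {g : G4} (hg : g ∈ Sp4 F) : (Units.val g⁻¹ : M4).trace = (Units.val g : M4).trace := by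
  rw [inv_eq_adjJ hg]
  simp only [Matrix.trace, Matrix.diag_apply, adjJ, Matrix.of_apply, Fin.sum_univ_four]
  rw [show (3 : Fin 4) - 0 = 3 by decide, show (3 : Fin 4) - 1 = 2 by decide, show (3 : Fin 4) - 2 = 1 by decide,
    show (3 : Fin 4) - 3 = 0 by decide]
  ring

theorem trace_conj (g h : G4) : (Units.val (h * g * h⁻¹) : M4).trace = (Units.val g : M4).trace := by
  rw [Units.val_mul, Units.val_mul]
  exact Matrix.trace_units_conj h _

theorem trace_one : ((1 : M4)).trace = 0 := by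
  rw [Matrix.trace_one, Fintype.card_fin]
  push_cast
  linear_combination 2 * (CharTwo.two_eq_zero : (2 : F) = 0)

theorem trace_two_elt {g : G4} {n : ℕ} (h : g ^ 2 ^ n = 1) : (Units.val g : M4).trace = 0 := by
  have := trace_pow_two g n
  rw [h, Units.val_one, trace_one] at this
  exact (pow_eq_zero_iff (by positivity)).1 this.symm

theorem trace_three {g : G4} (hg : g ∈ Sp4 F) (h : g ^ 3 = 1) :
    (Units.val g : M4).trace = 0 ∨ (Units.val g : M4).trace = 1 := by
  have h1 := trace_pow_two g 1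
  rw [pow_one, eq_inv_of_mul_eq_one_left (a := g ^ 2) (b := g) (by rw [← pow_succ, h]), trace_inv hg] at h1
  generalize (Units.val g : M4).trace = t at h1
  rcases eq_or_ne t 0 with h0 | h0
  · exact Or.inl h0
  · exact Or.inr (mul_left_cancel₀ h0 (by rw [mul_one, ← sq, ← h1]))

end traces

section eig

/-- The eigenvalues. -/
noncomputable def eigs (A : Matrix (Fin 4) (Fin 4) K) : Finset K := by
  classical exact A.charpoly.roots.toFinset

theorem mem_eigs {A : Matrix (Fin 4) (Fin 4) K} {z : K} : z ∈ eigs A ↔ ∃ v ≠ 0, A *ᵥ v = z • v := by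
  classical
  rw [eigs, Multiset.mem_toFinset, Polynomial.mem_roots (Matrix.charpoly_monic A).ne_zero, Polynomial.IsRoot,
    Matrix.eval_charpoly, ← Matrix.exists_mulVec_eq_zero_iff]
  simp only [Matrix.sub_mulVec, Matrix.scalar_apply, ← Matrix.smul_one_eq_diagonal, Matrix.smul_mulVec,
    Matrix.one_mulVec, sub_eq_zero]
  exact exists_congr fun v => and_congr Iff.rfl ⟨Eq.symm, Eq.symm⟩

theorem card_eigs (A : Matrix (Fin 4) (Fin 4) K) : (eigs A).card ≤ 4 := by
  classical
  refine (Multiset.toFinset_card_le _).trans ((Polynomial.card_roots' _).trans ?_)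
  rw [Matrix.charpoly_natDegree_eq_dim, Fintype.card_fin]

theorem eigs_conj (h : GL (Fin 4) K) (A : Matrix (Fin 4) (Fin 4) K) :
    eigs (h.1 * A * (h⁻¹).1) = eigs A := by
  classical
  rw [eigs, eigs, Matrix.coe_units_inv, Matrix.charpoly_units_conj]

theorem eigs_pow {A : Matrix (Fin 4) (Fin 4) K} {z : K} (h : z ∈ eigs A) (n : ℕ) : z ^ n ∈ eigs (A ^ n) := by
  obtain ⟨v, hv0, hv⟩ := mem_eigs.1 h
  refine mem_eigs.2 ⟨v, hv0, ?_⟩
  induction n with
  | zero => simp
  | succ n ih => rw [pow_succ, ← Matrix.mulVec_mulVec, hv, Matrix.mulVec_smul, ih, smul_smul, pow_succ']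

theorem eigs_inv_mem {g : GL (Fin 4) K} (hg : g ∈ Sp4 K) {z : K} (h : z ∈ eigs g.1) : z⁻¹ ∈ eigs g.1 := by
  classical
  have e : eigs g.1 = eigs (g⁻¹).1 := by
    have hA : adjJ g.1 = Matrix.reindex Fin.revPerm Fin.revPerm g.1.transpose := by
      ext i j
      fin_cases i <;> fin_cases j <;> rfl
    rw [eigs, eigs, inv_eq_adjJ hg, hA, Matrix.charpoly_reindex, Matrix.charpoly_transpose]
  obtain ⟨v, hv0, hv⟩ := mem_eigs.1 h
  have hz : z ≠ 0 := fun e => hv0 (by rw [← inv_mulVec g v, hv, e, zero_smul, Matrix.mulVec_zero])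
  rw [e]
  refine mem_eigs.2 ⟨v, hv0, ?_⟩
  calc (g⁻¹).1 *ᵥ v = z⁻¹ • ((g⁻¹).1 *ᵥ (z • v)) := by
        rw [Matrix.mulVec_smul, smul_smul, inv_mul_cancel₀ hz, one_smul]
    _ = z⁻¹ • v := by rw [← hv, inv_mulVec]

/-- Some eigenvalue differs from one, unless the element is unipotent. -/
theorem exists_eig_ne_one [IsAlgClosed K] [CharP K 2] {g : GL (Fin 4) K} (h : g ^ 4 ≠ 1) :
    ∃ z ∈ eigs g.1, z ≠ 1 := by
  classical
  by_contra hc
  push Not at hc
  apply h
  have hp := (IsAlgClosed.splits g.1.charpoly).eq_prod_roots_of_monic (Matrix.charpoly_monic _)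
  have hr : g.1.charpoly.roots = Multiset.replicate 4 1 := by
    rw [Multiset.eq_replicate]
    refine ⟨?_, fun z hz => hc z (by rw [eigs, Multiset.mem_toFinset]; exact hz)⟩
    have h4 := congrArg Polynomial.natDegree hp
    rw [Matrix.charpoly_natDegree_eq_dim, Fintype.card_fin, Polynomial.natDegree_multiset_prod_X_sub_C_eq_card] at h4
    exact h4.symm
  rw [hr, Multiset.map_replicate, Multiset.prod_replicate] at hp
  have hCH := Matrix.aeval_self_charpoly g.1
  rw [hp, map_pow, map_sub, Polynomial.aeval_X, Polynomial.aeval_C, map_one] at hCH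
  apply Units.ext
  rw [Units.val_pow_eq_pow_val, Units.val_one]
  haveI : CharP (Matrix (Fin 4) (Fin 4) K) 2 := inferInstance
  have h1 : (g.1 - 1) ^ (2 ^ 2) = g.1 ^ (2 ^ 2) - 1 ^ (2 ^ 2) :=
    sub_pow_char_pow_of_commute 2 2 (Commute.one_right _)
  norm_num at h1
  rw [hCH] at h1
  exact sub_eq_zero.1 h1.symm

theorem eigs_pow_order {g : GL (Fin 4) K} {n : ℕ} (h : g ^ n = 1) {z : K} (hz : z ∈ eigs g.1) : z ^ n = 1 := by
  obtain ⟨v, hv0, hv⟩ := mem_eigs.1 (eigs_pow hz n)
  rw [← Units.val_pow_eq_pow_val, h, Units.val_one, Matrix.one_mulVec] at hv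
  by_contra hne
  refine hv0 ?_
  have : (z ^ n - 1) • v = 0 := by rw [sub_smul, one_smul, ← hv, sub_self]
  exact (smul_eq_zero.1 this).resolve_left (sub_ne_zero.2 hne)

/-- No element of prime order at least seven is conjugate to its powers with square exponents. -/
theorem no_power_conj [Finite F] [CharP F 2] {g : G4} (hg : g ∈ Sp4 F) {p : ℕ} (hp : p.Prime) (h7 : 7 ≤ p)
    (ho : orderOf g = p) (hconj : ∀ k : ℕ, 2 ≤ k → k ≤ 5 → k < p → 2 * k < p → ∃ c : G4, c * g * c⁻¹ = g ^ k ^ 2) :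
    False := by
  classical
  let ι : F →+* AlgebraicClosure F := algebraMap F _
  haveI : CharP (AlgebraicClosure F) 2 := charP_of_injective_ringHom ι.injective 2
  set h := ext ι g with hh
  have hp1 : h ^ p = 1 := by rw [hh, ← map_pow, ← ho, pow_orderOf_eq_one, map_one]
  have h4 : h ^ 4 ≠ 1 := by
    rw [hh, ← map_pow, Ne, ← map_one (ext ι), (ext_injective ι).eq_iff]
    intro e
    have := orderOf_dvd_of_pow_eq_one e
    rw [ho] at this
    have := Nat.le_of_dvd (by norm_num) this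
    omega
  obtain ⟨z, hz, hz1⟩ := exists_eig_ne_one h4
  have hzp : orderOf z = p := by
    haveI : Fact p.Prime := ⟨hp⟩
    exact orderOf_eq_prime (eigs_pow_order hp1 hz) hz1
  have hsq : ∀ k : ℕ, 1 ≤ k → k ≤ 5 → 2 * k < p → z ^ k ^ 2 ∈ eigs h.1 := by
    intro k hk1 hk5 hkp
    rcases eq_or_lt_of_le hk1 with rfl | hk2
    · simpa using hz
    obtain ⟨c, hc⟩ := hconj k hk2 hk5 (by omega) hkp
    have e := eigs_pow hz (k ^ 2)
    rw [← Units.val_pow_eq_pow_val, hh, ← map_pow, ← hc, map_mul, map_mul, map_inv, Units.val_mul, Units.val_mul,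
      eigs_conj] at e
    exact e
  have hinv : ∀ y ∈ eigs h.1, y⁻¹ ∈ eigs h.1 := fun y hy => eigs_inv_mem (ext_mem_sp ι hg) hy
  have hpow : ∀ a b : ℕ, z ^ a = z ^ b → a % p = b % p := fun a b e => by
    refine (IsPrimitiveRoot.orderOf z).pow_inj ?_ ?_ ?_
    · rw [hzp]; exact Nat.mod_lt _ hp.pos
    · rw [hzp]; exact Nat.mod_lt _ hp.pos
    · rw [← hzp, pow_mod_orderOf, pow_mod_orderOf]; exact e
  by_cases h11 : 11 ≤ p
  · have key : ∀ a b : ℕ, a < b → b ≤ 5 → z ^ a ^ 2 ≠ z ^ b ^ 2 := fun a b hlt hb5 e => by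
      have h1 : p ∣ b ^ 2 - a ^ 2 :=
        Nat.dvd_of_mod_eq_zero (Nat.sub_mod_eq_zero_of_mod_eq (hpow _ _ e).symm)
      rw [Nat.sq_sub_sq] at h1
      rcases hp.dvd_mul.1 h1 with h2 | h2
      · have := Nat.le_of_dvd (by omega) h2; omega
      · have := Nat.le_of_dvd (by omega) h2; omega
    have hinj : Set.InjOn (fun k : ℕ => z ^ k ^ 2) (Finset.Icc 1 5 : Finset ℕ) := by
      intro a ha b hb e
      simp only [Finset.coe_Icc, Set.mem_Icc] at ha hb
      rcases lt_trichotomy a b with h | h | h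
      exacts [absurd e (key a b h hb.2), h, absurd e.symm (key b a h ha.2)]
    have hc := Finset.card_le_card (show (Finset.Icc 1 5).image (fun k : ℕ => z ^ k ^ 2) ⊆ eigs h.1 from fun y hy => by
      obtain ⟨k, hk, rfl⟩ := Finset.mem_image.1 hy
      rw [Finset.mem_Icc] at hk
      exact hsq k hk.1 hk.2 (by omega))
    rw [Finset.card_image_of_injOn hinj] at hc
    have := card_eigs h.1
    simp at hc
    omega
  · obtain rfl : p = 7 := by
      interval_cases p <;> first | rfl | exact absurd hp (by norm_num)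
    have hz7 : z ^ 7 = 1 := by rw [← hzp]; exact pow_orderOf_eq_one z
    have h3 : z ^ 2 ∈ eigs h.1 := by
      have := hsq 3 (by norm_num) (by norm_num) (by norm_num)
      rwa [show (3 : ℕ) ^ 2 = 7 + 2 by norm_num, pow_add, hz7, one_mul] at this
    have h2 := hsq 2 (by norm_num) (by norm_num) (by norm_num)
    norm_num at h2
    have hm : ∀ a b : ℕ, a + b = 7 → z ^ a ∈ eigs h.1 → z ^ b ∈ eigs h.1 := fun a b hab ha => by
      rw [eq_inv_of_mul_eq_one_left (a := z ^ b) (b := z ^ a) (by rw [← pow_add, add_comm, hab, hz7])]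
      exact hinv _ ha
    have h1 : z ^ 1 ∈ eigs h.1 := by rwa [pow_one]
    have hinj : Set.InjOn (fun k : ℕ => z ^ k) (Finset.Icc 1 5 : Finset ℕ) := by
      intro a ha b hb e
      simp only [Finset.coe_Icc, Set.mem_Icc] at ha hb
      have := hpow _ _ e
      omega
    have hc := Finset.card_le_card (show (Finset.Icc 1 5).image (fun k : ℕ => z ^ k) ⊆ eigs h.1 from fun y hy => by
      obtain ⟨k, hk, rfl⟩ := Finset.mem_image.1 hy
      rw [Finset.mem_Icc] at hk
      obtain ⟨hk1, hk5⟩ := hk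
      interval_cases k
      exacts [h1, h3, hm 4 3 rfl h2, h2, hm 2 5 rfl h3])
    rw [Finset.card_image_of_injOn hinj] at hc
    have := card_eigs h.1
    simp at hc
    omega

end eig

end CfsgLib.CMax.SpFourRes
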