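import Cfsg.Agent.Lib.CMax.SpFourRes.Setup

/-!
# Invariant quadratic forms

A form with the given polar form fixed by a subgroup of odd index gives one fixed by the group; a form over a larger
field fixed by a group of matrices over `F` without fixed covector is defined over `F`.
-/

set_option autoImplicit false
set_option linter.all false

namespace CfsgLib.CMax.SpFourRes

open Matrix Cfsg.Lie

variable {F : Type*} [Field F] [CharP F 2]

local notation "V" => Fin 4 → F
local notation "G4" => GL (Fin 4) F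
local notation:100 g:100 " ⬝ₐ " v:101 => (Units.val g : Matrix (Fin 4) (Fin 4) F) *ᵥ v

/-- Averaging over the cosets of a subgroup of odd index. -/
theorem quadFix_of_odd_index {P S : Subgroup (GL (Fin 4) F)} [Finite P] (hP : P ≤ Sp4 F) (hSP : S ≤ P)
    (hodd : Odd (S.relIndex P)) (Q : V → F) (hadd : ∀ u v, Q (u + v) = Q u + Q v + altForm4 u v)
    (hsmul : ∀ (c : F) v, Q (c • v) = c ^ 2 * Q v) (hfix : ∀ s ∈ S, ∀ v, Q (s ⬝ₐ v) = Q v) : QuadFix P := by
  classical
  let S' : Subgroup P := S.subgroupOf P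
  have hfix' : ∀ s : P, s ∈ S' → ∀ v, Q ((s : G4) ⬝ₐ v) = Q v := fun s hs v => hfix _ hs v
  haveI : Fintype (P ⧸ S') := Fintype.ofFinite _
  let φ : P ⧸ S' → V → F := fun x => Quotient.liftOn' x (fun g v => Q ((g⁻¹ : P).1 ⬝ₐ v)) fun a b hab => by
    funext v
    rw [QuotientGroup.leftRel_apply] at hab
    have e : ((b⁻¹ : P) : G4) = (((a⁻¹ * b)⁻¹ : P) : G4) * ((a⁻¹ : P) : G4) := by
      rw [← Subgroup.coe_mul]; congr 1; group
    rw [e, Units.val_mul, ← Matrix.mulVec_mulVec, hfix' _ (S'.inv_mem hab)]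
  have hφ : ∀ (g : P) v, φ (QuotientGroup.mk g) v = Q ((g⁻¹ : P).1 ⬝ₐ v) := fun _ _ => rfl
  have hone : (Fintype.card (P ⧸ S') : F) = 1 := by
    have : Odd (Fintype.card (P ⧸ S')) := by
      rw [← Nat.card_eq_fintype_card]; exact hodd
    obtain ⟨k, hk⟩ := this
    rw [hk]
    push_cast
    rw [CharTwo.two_eq_zero, zero_mul, zero_add]
  refine ⟨fun v => ∑ x, φ x v, fun u v => ?_, fun c v => ?_, fun g hg v => ?_⟩
  · beta_reduce
    have e : ∀ x, φ x (u + v) = φ x u + φ x v + altForm4 u v := fun x => by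
      induction x using QuotientGroup.induction_on with
      | H g => rw [hφ, hφ, hφ, Matrix.mulVec_add, hadd, sp_f (hP (g⁻¹).2)]
    rw [Finset.sum_congr rfl fun x _ => e x, Finset.sum_add_distrib, Finset.sum_add_distrib, Finset.sum_const,
      Finset.card_univ, nsmul_eq_mul, hone, one_mul]
  · beta_reduce
    rw [Finset.mul_sum]
    refine Finset.sum_congr rfl fun x _ => ?_
    induction x using QuotientGroup.induction_on with
    | H g => rw [hφ, hφ, Matrix.mulVec_smul, hsmul]
  · beta_reduce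
    rw [← Equiv.sum_comp (MulAction.toPerm (⟨g, hg⟩ : P)) (fun x => φ x (g ⬝ₐ v))]
    refine Finset.sum_congr rfl fun x _ => ?_
    induction x using QuotientGroup.induction_on with
    | H a =>
      show φ (QuotientGroup.mk ((⟨g, hg⟩ : P) * a)) (g ⬝ₐ v) = _
      rw [hφ, hφ, _root_.mul_inv_rev, Subgroup.coe_mul, Units.val_mul, ← Matrix.mulVec_mulVec]
      congr 2
      exact inv_mulVec g v

/-- Descent to the ground field. -/
theorem quad_descent [Finite F] {K : Type*} [Field K] [CharP K 2] [PerfectRing K 2] (ι : F →+* K)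
    {P : Subgroup (GL (Fin 4) F)} (hP : P ≤ Sp4 F)
    (hcov : ∀ l : Fin 4 → K, (∀ g ∈ P, l ᵥ* ((Units.val g : Matrix (Fin 4) (Fin 4) F).map ι) = l) → l = 0)
    (Q : (Fin 4 → K) → K) (hadd : ∀ u v, Q (u + v) = Q u + Q v + altForm4 u v)
    (hsmul : ∀ (c : K) v, Q (c • v) = c ^ 2 * Q v)
    (hfix : ∀ g ∈ P, ∀ v, Q ((Units.val g : Matrix (Fin 4) (Fin 4) F).map ι *ᵥ v) = Q v) : QuadFix P := by
  classical
  letI := Fintype.ofFinite F
  obtain ⟨n, -, hn⟩ := FiniteField.card F 2
  let q := Fintype.card F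
  have hpow : ∀ x y : K, (x + y) ^ q = x ^ q + y ^ q := fun x y => by
    show (x + y) ^ Fintype.card F = _
    rw [hn, add_pow_char_pow, ← hn]
  have hι : ∀ a : F, ι a ^ q = ι a := fun a => by rw [← map_pow, FiniteField.pow_card]
  have hιf : ∀ u v : Fin 4 → F, altForm4 (fun i => ι (u i)) (fun i => ι (v i)) = ι (altForm4 u v) := fun u v => by
    simp [altForm4]
  let em : (Fin 4 → F) → (Fin 4 → K) := fun v i => ι (v i)
  have hem : ∀ (g : Matrix (Fin 4) (Fin 4) F) v, g.map ι *ᵥ em v = em (g *ᵥ v) := fun g v => by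
    funext i; exact (RingHom.map_mulVec ι g v i).symm
  let D : (Fin 4 → F) → K := fun v => Q (em v) ^ q + Q (em v)
  have hDadd : ∀ u v, D (u + v) = D u + D v := fun u v => by
    have e : em (u + v) = em u + em v := funext fun i => map_add ι _ _
    simp only [D, e, hadd, hpow, hιf, hι, em]
    linear_combination ι (altForm4 u v) * (CharTwo.two_eq_zero : (2 : K) = 0)
  have hDsmul : ∀ (c : F) v, D (c • v) = ι c ^ 2 * D v := fun c v => by
    have e : em (c • v) = ι c • em v := funext fun i => map_mul ι _ _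
    simp only [D, e, hsmul, mul_pow]
    rw [← pow_mul, mul_comm 2 q, pow_mul, hι]
    ring
  let l : Fin 4 → K := fun i => sr (D (Pi.single i 1))
  have hDl : ∀ v, D v = (∑ i, l i * ι (v i)) ^ 2 := fun v => by
    have hv : v = v 0 • Pi.single 0 1 + v 1 • Pi.single 1 1 + v 2 • Pi.single 2 1 + v 3 • Pi.single 3 (1 : F) := by
      funext i; fin_cases i <;> simp [Pi.single_apply]
    conv_lhs => rw [hv]
    rw [hDadd, hDadd, hDadd, hDsmul, hDsmul, hDsmul, hDsmul, Fin.sum_univ_four, CharTwo.add_sq, CharTwo.add_sq,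
      CharTwo.add_sq]
    simp only [l, mul_pow, sr_sq]
    ring
  have hl0 : l = 0 := hcov l fun g hg => by
    funext j
    refine sq_inj ?_
    have e1 : D ((Units.val g : Matrix (Fin 4) (Fin 4) F) *ᵥ Pi.single j 1) = D (Pi.single j 1) := by
      simp only [D, ← hem, hfix g hg]
    rw [hDl, Matrix.mulVec_single_one] at e1
    show _ = sr (D (Pi.single j 1)) ^ 2
    rw [sr_sq, ← e1]
    rfl
  have hval : ∀ v, ∃ a : F, ι a = Q (em v) := by
    intro v
    have h0 : Q (em v) ^ q = Q (em v) := CharTwo.add_eq_zero.1 (by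
      show D v = 0
      rw [hDl, hl0]; simp)
    by_contra hne
    push Not at hne
    have hroots := Polynomial.card_roots' ((Polynomial.X : Polynomial K) ^ q - Polynomial.X)
    have hne0 : (Polynomial.X : Polynomial K) ^ q - Polynomial.X ≠ 0 :=
      FiniteField.X_pow_card_sub_X_ne_zero K Fintype.one_lt_card
    have hdeg : ((Polynomial.X : Polynomial K) ^ q - Polynomial.X).natDegree = q :=
      FiniteField.X_pow_card_sub_X_natDegree_eq K Fintype.one_lt_card
    have hsub : insert (Q (em v)) (Finset.univ.image ι) ⊆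
        ((Polynomial.X : Polynomial K) ^ q - Polynomial.X).roots.toFinset := by
      intro x hx
      rw [Multiset.mem_toFinset, Polynomial.mem_roots hne0]
      rcases Finset.mem_insert.1 hx with rfl | hx
      · simp [sub_eq_zero, h0]
      · obtain ⟨a, -, rfl⟩ := Finset.mem_image.1 hx
        simp [sub_eq_zero, hι]
    have hc := (Finset.card_le_card hsub).trans (Multiset.toFinset_card_le _)
    rw [Finset.card_insert_of_notMem (by simpa using fun a => hne a),
      Finset.card_image_of_injective _ ι.injective, Finset.card_univ] at hc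
    have : q + 1 ≤ q := hc.trans (hroots.trans hdeg.le)
    omega
  choose Q0 hQ0 using hval
  refine ⟨Q0, fun u v => ι.injective ?_, fun c v => ι.injective ?_, fun g hg v => ι.injective ?_⟩
  · rw [map_add, map_add, hQ0, hQ0, hQ0, ← hιf, ← hadd]
    exact congrArg Q (funext fun i => map_add ι _ _)
  · rw [map_mul, map_pow, hQ0, hQ0, ← hsmul]
    exact congrArg Q (funext fun i => map_mul ι _ _)
  · rw [hQ0, hQ0, ← hem, hfix g hg]

end CfsgLib.CMax.SpFourRes
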