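import Cfsg.Agent.Lib.CMax.SpFourRes.Star

/-!
# Symplectic frames and the image of reducible groups under the exceptional endomorphism

Stabilisers of a point and of a totally isotropic line are exchanged; a decomposition into two perpendicular planes
gives an invariant quadratic form.
-/

set_option autoImplicit false
set_option linter.all false

namespace CfsgLib.CMax.SpFourRes

open Matrix Cfsg.Lie

variable {F : Type*} [Field F] [CharP F 2]

local notation "V" => Fin 4 → F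
local notation "M4" => Matrix (Fin 4) (Fin 4) F
local notation "G4" => GL (Fin 4) F
local notation:100 g:100 " ⬝ₐ " v:101 => (Units.val g : Matrix (Fin 4) (Fin 4) F) *ᵥ v

/-- A symplectic frame as an element of the group. -/
theorem exists_of_frame {a b c d : V} (had : altForm4 a d = 1) (hbc : altForm4 b c = 1) (hab : altForm4 a b = 0)
    (hac : altForm4 a c = 0) (hbd : altForm4 b d = 0) (hcd : altForm4 c d = 0) :
    ∃ B ∈ Sp4 F, B ⬝ₐ Pi.single 0 1 = a ∧ B ⬝ₐ Pi.single 1 1 = b ∧ B ⬝ₐ Pi.single 2 1 = c ∧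
      B ⬝ₐ Pi.single 3 1 = d := by
  let col : Fin 4 → V := ![a, b, c, d]
  let M : M4 := Matrix.of fun i j => col j i
  have hMv : ∀ v : V, M *ᵥ v = v 0 • a + v 1 • b + v 2 • c + v 3 • d := fun v => by
    funext i
    simp [M, col, Matrix.mulVec, dotProduct, Fin.sum_univ_four, mul_comm]
  have hf : ∀ u v : V, altForm4 (M *ᵥ u) (M *ᵥ v) = altForm4 u v := by
    intro u v
    rw [hMv, hMv]
    simp only [f_add_l, f_add_r, f_smul_l, f_smul_r, f_self, f_comm b a, f_comm c a, f_comm c b, f_comm d a,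
      f_comm d b, f_comm d c, had, hbc, hab, hac, hbd, hcd, mul_zero, mul_one, add_zero, zero_add]
    show _ = u 0 * v 3 + u 1 * v 2 + u 2 * v 1 + u 3 * v 0
    ring
  have hMu : IsUnit M := by
    rw [Matrix.isUnit_iff_isUnit_det, isUnit_iff_ne_zero]
    intro h0
    obtain ⟨v, hv, hv0⟩ := Matrix.exists_mulVec_eq_zero_iff.2 h0
    exact hv (eq_zero_of_f fun w => by rw [← hf, hv0, f_zero_l])
  obtain ⟨B, hB⟩ := hMu
  have hcol : ∀ i, B ⬝ₐ (Pi.single i 1) = col i := fun i => by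
    rw [hB, Matrix.mulVec_single_one]; rfl
  refine ⟨B, fun u v => ?_, hcol 0, hcol 1, hcol 2, hcol 3⟩
  show altForm4 (B ⬝ₐ u) (B ⬝ₐ v) = _
  rw [hB]; exact hf u v

theorem exists_partner {a : V} (ha : a ≠ 0) : ∃ y, altForm4 a y = 1 := by
  obtain ⟨y, hy⟩ : ∃ y, altForm4 a y ≠ 0 := by
    by_contra hc; push Not at hc; exact ha (eq_zero_of_f hc)
  exact ⟨(altForm4 a y)⁻¹ • y, by rw [f_smul_r, inv_mul_cancel₀ hy]⟩

/-- A hyperbolic pair and a vector perpendicular to it extend to a frame. -/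
theorem exists_of_pair {a b d : V} (had : altForm4 a d = 1) (hab : altForm4 a b = 0) (hbd : altForm4 b d = 0)
    (hb : b ≠ 0) : ∃ B ∈ Sp4 F, B ⬝ₐ Pi.single 0 1 = a ∧ B ⬝ₐ Pi.single 1 1 = b ∧ B ⬝ₐ Pi.single 3 1 = d := by
  obtain ⟨y, hy⟩ := exists_partner hb
  have h0 : altForm4 a d ≠ 0 := by rw [had]; exact one_ne_zero
  have hr : altForm4 b (rest a d y) = 1 := by
    rw [rest, pr, f_add_r, f_smul_r, f_add_r, f_smul_r, f_smul_r, f_comm b a, hab, hbd, hy]
    ring
  obtain ⟨B, hB, e0, e1, -, e3⟩ := exists_of_frame had hr hab (by rw [f_comm]; exact f_rest_left h0 y) hbd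
    (f_rest_right h0 y)
  exact ⟨B, hB, e0, e1, e3⟩

theorem exists_point_frame {a : V} (ha : a ≠ 0) : ∃ B ∈ Sp4 F, B ⬝ₐ Pi.single 0 1 = a := by
  obtain ⟨d, hd⟩ := exists_partner ha
  have h0 : altForm4 a d ≠ 0 := by rw [hd]; exact one_ne_zero
  obtain ⟨x, hx⟩ : ∃ x, rest a d x ≠ 0 := by
    by_contra hc
    push Not at hc
    let L : (Fin 4 → F) →ₗ[F] F × F := (fL d).prod (fL a)
    have hinj : Function.Injective L := by
      rw [← LinearMap.ker_eq_bot, Submodule.eq_bot_iff]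
      intro x hx
      obtain ⟨h1, h2⟩ := Prod.mk.inj (show (altForm4 x d, altForm4 x a) = (0, 0) from LinearMap.mem_ker.1 hx)
      rw [← pr_add_rest a d x, hc x, add_zero, pr, h1, h2]
      simp
    have := LinearMap.finrank_le_finrank_of_injective hinj
    rw [Module.finrank_fin_fun, Module.finrank_prod, Module.finrank_self] at this
    omega
  obtain ⟨B, hB, e0, -, -⟩ := exists_of_pair hd (by rw [f_comm]; exact f_rest_left h0 x) (f_rest_right h0 x) hx
  exact ⟨B, hB, e0⟩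

/-- The image of an element fixing the first vector stabilises a line. -/
theorem star_point {g : G4} (hg : g ∈ Sp4 F) (h : g ⬝ₐ Pi.single 0 1 = Pi.single 0 1) :
    star4 g.1 2 0 = 0 ∧ star4 g.1 3 0 = 0 ∧ star4 g.1 2 1 = 0 ∧ star4 g.1 3 1 = 0 := by
  have h0 : ∀ i, g.1 i 0 = (Pi.single 0 1 : V) i := fun i => by
    have := congrFun h i
    rwa [Matrix.mulVec_single_one] at this
  have a00 : g.1 0 0 = 1 := by rw [h0]; simp
  have a10 : g.1 1 0 = 0 := by rw [h0]; simp
  have a20 : g.1 2 0 = 0 := by rw [h0]; simp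
  have a30 : g.1 3 0 = 0 := by rw [h0]; simp
  have c1 := CfsgLib.Char.SuzukiGraph.col_rel hg 0 1
  have c2 := CfsgLib.Char.SuzukiGraph.col_rel hg 0 2
  rw [a00, a10, a20, a30, if_neg (by decide)] at c1 c2
  simp only [one_mul, zero_mul, add_zero] at c1 c2
  refine ⟨?_, ?_, ?_, ?_⟩ <;> simp [star4, pairOf, a10, a20, a30, c1, c2]

/-- The image of an element stabilising the first two vectors' line fixes a point up to a scalar. -/
theorem star_line {g : G4} (h20 : g.1 2 0 = 0) (h30 : g.1 3 0 = 0) (h21 : g.1 2 1 = 0) (h31 : g.1 3 1 = 0) :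
    star4 g.1 1 0 = 0 ∧ star4 g.1 2 0 = 0 ∧ star4 g.1 3 0 = 0 := by
  refine ⟨?_, ?_, ?_⟩ <;> simp [star4, pairOf, h20, h30, h21, h31]

/-- The quadratic form of the split type. -/
def Q0 (v : V) : F := v 0 * v 3 + v 1 * v 2

theorem Q0_add (u v : V) : Q0 (u + v) = Q0 u + Q0 v + altForm4 u v := by
  simp only [Q0, altForm4, Pi.add_apply]; ring

theorem Q0_smul (c : F) (v : V) : Q0 (c • v) = c ^ 2 * Q0 v := by
  simp only [Q0, Pi.smul_apply, smul_eq_mul]; ring

/-- The image of an element stabilising two perpendicular planes fixes a quadratic form. -/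
theorem star_planes {g : G4} (hg : g ∈ Sp4 F) (h10 : g.1 1 0 = 0) (h20 : g.1 2 0 = 0) (h13 : g.1 1 3 = 0)
    (h23 : g.1 2 3 = 0) (h01 : g.1 0 1 = 0) (h31 : g.1 3 1 = 0) (h02 : g.1 0 2 = 0) (h32 : g.1 3 2 = 0) (v : V) :
    Q0 (star4 g.1 *ᵥ v) = Q0 v := by
  have c1 := CfsgLib.Char.SuzukiGraph.col_rel hg 0 3
  have c2 := CfsgLib.Char.SuzukiGraph.col_rel hg 1 2
  rw [if_pos (by decide)] at c1 c2
  rw [h10, h20, h13, h23] at c1
  rw [h01, h31, h02, h32] at c2
  simp [star4, pairOf, Q0, Matrix.mulVec, dotProduct, Fin.sum_univ_four, h10, h20, h13, h23, h01, h31, h02, h32]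
  grobner

/-- A group in the split orthogonal group has columns in the two planes after applying the endomorphism. -/
theorem star_singular {g : G4} (hg : g ∈ Sp4 F) (hQ : ∀ v, Q0 (g ⬝ₐ v) = Q0 v) (r : Fin 4) :
    (star4 g.1 1 r = 0 ∧ star4 g.1 2 r = 0) ∨ (star4 g.1 0 r = 0 ∧ star4 g.1 3 r = 0) := by
  have hc : ∀ i, g.1 0 i * g.1 3 i + g.1 1 i * g.1 2 i = 0 := fun i => by
    have := hQ (Pi.single i 1)
    rw [Matrix.mulVec_single_one] at this
    simp only [Q0, Matrix.col_apply] at this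
    rw [this]
    fin_cases i <;> simp
  have hr : (pairOf r).1 + (pairOf r).2 ≠ 3 := by revert r; decide
  have hC := CfsgLib.Char.SuzukiGraph.col_rel hg (pairOf r).1 (pairOf r).2
  rw [if_neg hr] at hC
  have hi := hc (pairOf r).1
  have hj := hc (pairOf r).2
  have key : star4 g.1 0 r * star4 g.1 1 r = 0 ∧ star4 g.1 0 r * star4 g.1 2 r = 0 ∧
      star4 g.1 3 r * star4 g.1 1 r = 0 ∧ star4 g.1 3 r * star4 g.1 2 r = 0 := by
    simp only [star4, Matrix.of_apply, show pairOf 0 = (0, 1) from rfl, show pairOf 1 = (0, 2) from rfl,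
      show pairOf 2 = (1, 3) from rfl, show pairOf 3 = (2, 3) from rfl]
    generalize (pairOf r).1 = i at hi hj hC ⊢
    generalize (pairOf r).2 = j at hi hj hC ⊢
    refine ⟨?_, ?_, ?_, ?_⟩ <;> grobner
  obtain ⟨k1, k2, k3, k4⟩ := key
  by_cases h : star4 g.1 0 r = 0 ∧ star4 g.1 3 r = 0
  · exact Or.inr h
  · refine Or.inl ?_
    rw [not_and_or] at h
    rcases h with h | h
    · exact ⟨(mul_eq_zero.1 k1).resolve_left h, (mul_eq_zero.1 k2).resolve_left h⟩
    · exact ⟨(mul_eq_zero.1 k3).resolve_left h, (mul_eq_zero.1 k4).resolve_left h⟩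

/-- Every quadratic form with the given polar form has a hyperbolic frame over an algebraically closed field. -/
theorem exists_hyperbolic {K : Type*} [Field K] [CharP K 2] [IsAlgClosed K] (Q : (Fin 4 → K) → K)
    (hadd : ∀ u v, Q (u + v) = Q u + Q v + altForm4 u v) (hsmul : ∀ (c : K) v, Q (c • v) = c ^ 2 * Q v) :
    ∃ B ∈ Sp4 K, ∀ v, Q ((Units.val B : Matrix (Fin 4) (Fin 4) K) *ᵥ v) = Q0 v := by
  have fix : ∀ a d : Fin 4 → K, altForm4 a d = 1 →
      ∃ t k : K, Q (a + t • d) = 0 ∧ Q (d + k • (a + t • d)) = 0 := by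
    intro a d had
    obtain ⟨t, ht⟩ : ∃ t : K, Q d * t ^ 2 + t + Q a = 0 := by
      by_cases hd : Q d = 0
      · exact ⟨Q a, by rw [hd, zero_mul, zero_add]; exact CharTwo.add_self_eq_zero _⟩
      · obtain ⟨t, ht⟩ := IsAlgClosed.exists_root
          (Polynomial.C (Q d) * Polynomial.X ^ 2 + Polynomial.C 1 * Polynomial.X + Polynomial.C (Q a))
          (by rw [Polynomial.degree_quadratic hd]; decide)
        exact ⟨t, by simpa [Polynomial.IsRoot] using ht⟩
    have h1 : Q (a + t • d) = 0 := by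
      rw [hadd, hsmul, f_smul_r, had]; linear_combination ht
    refine ⟨t, Q d, h1, ?_⟩
    rw [hadd, hsmul, h1, f_smul_r, f_add_r, f_smul_r, f_comm d a, had, f_self]
    linear_combination Q d * (CharTwo.two_eq_zero : (2 : K) = 0)
  let e : Fin 4 → (Fin 4 → K) := fun i => Pi.single i 1
  have e03 : altForm4 (e 0) (e 3) = 1 := by simp [e, altForm4]
  have e12 : altForm4 (e 1) (e 2) = 1 := by simp [e, altForm4]
  have e01 : altForm4 (e 0) (e 1) = 0 := by simp [e, altForm4]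
  have e02 : altForm4 (e 0) (e 2) = 0 := by simp [e, altForm4]
  have e13 : altForm4 (e 1) (e 3) = 0 := by simp [e, altForm4]
  have e23 : altForm4 (e 2) (e 3) = 0 := by simp [e, altForm4]
  obtain ⟨t, k, ha, hd⟩ := fix _ _ e03
  obtain ⟨t', k', hb, hc⟩ := fix _ _ e12
  obtain ⟨B, hB, B0, B1, B2, B3⟩ := exists_of_frame (a := e 0 + t • e 3) (b := e 1 + t' • e 2)
    (c := e 2 + k' • (e 1 + t' • e 2)) (d := e 3 + k • (e 0 + t • e 3))
    (by simp only [f_add_l, f_add_r, f_smul_l, f_smul_r, f_self, f_comm (e 3) (e 0), e03]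
        ring)
    (by simp only [f_add_l, f_add_r, f_smul_l, f_smul_r, f_self, f_comm (e 2) (e 1), e12]
        ring)
    (by simp only [f_add_l, f_add_r, f_smul_l, f_smul_r, f_comm (e 3) (e 1), f_comm (e 3) (e 2), e01, e02, e13, e23]; ring)
    (by simp only [f_add_l, f_add_r, f_smul_l, f_smul_r, f_comm (e 3) (e 1), f_comm (e 3) (e 2), e01, e02, e13, e23]; ring)
    (by simp only [f_add_l, f_add_r, f_smul_l, f_smul_r, f_comm (e 1) (e 0), f_comm (e 2) (e 0), f_comm (e 3) (e 1), f_comm (e 3) (e 2), e01, e02, e13, e23]; ring)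
    (by simp only [f_add_l, f_add_r, f_smul_l, f_smul_r, f_comm (e 1) (e 0), f_comm (e 2) (e 0), f_comm (e 3) (e 1), f_comm (e 3) (e 2), e01, e02, e13, e23]; ring)
  refine ⟨B, hB, fun v => ?_⟩
  have hv : v = v 0 • e 0 + v 1 • e 1 + v 2 • e 2 + v 3 • e 3 := by
    funext i; fin_cases i <;> simp [e, Pi.single_apply]
  have hBf : ∀ i j, altForm4 ((Units.val B : Matrix (Fin 4) (Fin 4) K) *ᵥ e i)
      ((Units.val B : Matrix (Fin 4) (Fin 4) K) *ᵥ e j) = altForm4 (e i) (e j) := fun i j => hB _ _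
  conv_lhs => rw [hv]
  simp only [Matrix.mulVec_add, Matrix.mulVec_smul]
  rw [hadd, hadd, hadd]
  simp only [f_add_l, f_smul_l, f_smul_r, hBf, hsmul]
  simp only [e01, e02, e03, e12, e13, e23]
  rw [show (Units.val B : Matrix (Fin 4) (Fin 4) K) *ᵥ e 0 = _ from B0,
    show (Units.val B : Matrix (Fin 4) (Fin 4) K) *ᵥ e 1 = _ from B1,
    show (Units.val B : Matrix (Fin 4) (Fin 4) K) *ᵥ e 2 = _ from B2,
    show (Units.val B : Matrix (Fin 4) (Fin 4) K) *ᵥ e 3 = _ from B3, ha, hd, hb, hc]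
  simp only [Q0]
  ring

end CfsgLib.CMax.SpFourRes
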