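import Cfsg.Agent.Lib.CMax.SpFourRes.Star

/-!
# Involutions of the four-dimensional symplectic group in characteristic two

An involution is a transvection, is mapped to a transvection by the exceptional endomorphism, or commutes with no
nontrivial element of odd order.
-/

set_option autoImplicit false
set_option linter.all false

namespace CfsgLib.CMax.SpFourRes

open Matrix Cfsg.Lie

variable {F : Type*} [Field F] [CharP F 2]

local notation "V" => Fin 4 → F
local notation "M4" => Matrix (Fin 4) (Fin 4) F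
local notation "G4" => GL (Fin 4) F
local notation:100 g:100 " ⬝ₐ " v:101 => (Units.val g : Matrix (Fin 4) (Fin 4) F) *ᵥ v

/-- A two-dimensional map of determinant one fixing a functional is an involution or trivial. -/
theorem two_dim_fix {a b c d p r s l m : F} (hM : p * s + r * r ≠ 0)
    (h11 : a * a * p + c * c * s = p) (h22 : b * b * p + d * d * s = s)
    (h12 : a * b * p + (a * d + b * c) * r + c * d * s = r) (hl1 : a * l + c * m = l) (hl2 : b * l + d * m = m)
    (hne : ¬ (l = 0 ∧ m = 0)) [PerfectRing F 2] :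
    a * a + b * c = 1 ∧ b * (a + d) = 0 ∧ c * (a + d) = 0 ∧ b * c + d * d = 1 := by
  have hdet : a * d + b * c = 1 := by
    refine sq_eq_one ((mul_left_cancel₀ hM ?_))
    grobner
  have htr : a + d = 0 := by
    by_contra h
    apply hne
    constructor
    · exact (mul_eq_zero.1 (show (a + d) * l = 0 by grobner)).resolve_left h
    · exact (mul_eq_zero.1 (show (a + d) * m = 0 by grobner)).resolve_left h
  rw [htr, mul_zero, mul_zero]
  refine ⟨?_, rfl, rfl, ?_⟩ <;> grobner

variable {z : GL (Fin 4) F}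

/-- The displacement of a matrix. -/
def disp (z : GL (Fin 4) F) : (Fin 4 → F) →ₗ[F] (Fin 4 → F) := Matrix.toLin' ((z : M4) + 1)

theorem disp_apply (x : V) : disp z x = z ⬝ₐ x + x := by
  rw [disp, Matrix.toLin'_apply, Matrix.add_mulVec, Matrix.one_mulVec]

theorem disp_disp (h2 : z * z = 1) (x : V) : disp z (disp z x) = 0 := by
  have e : z ⬝ₐ (z ⬝ₐ x) = x := by
    rw [Matrix.mulVec_mulVec, ← Units.val_mul, h2, Units.val_one, Matrix.one_mulVec]
  rw [disp_apply, disp_apply, Matrix.mulVec_add, e]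
  rw [show x + z ⬝ₐ x + (z ⬝ₐ x + x) = x + x + (z ⬝ₐ x + z ⬝ₐ x) by abel, v_add_self, v_add_self, add_zero]

theorem f_disp (hz : z ∈ Sp4 F) (h2 : z * z = 1) (x y : V) :
    altForm4 (disp z x) y = altForm4 x (disp z y) := by
  have e : z⁻¹ = z := inv_eq_of_mul_eq_one_right h2
  rw [disp_apply, disp_apply, f_add_l, f_add_r]
  congr 1
  rw [← sp_f (inv_mem hz), inv_mulVec, e]

variable [PerfectRing F 2]

theorem tv_of_rank_one (hz : z ∈ Sp4 F) (h2 : z * z = 1) (hz1 : z ≠ 1) {a : V}
    (h : ∀ x, ∃ c : F, disp z x = c • a) : ∃ a' : V, a' ≠ 0 ∧ z = tv a' := by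
  choose l hl using h
  have ha : a ≠ 0 := fun e => hz1 (gl_ext fun x => by
    have := hl x
    rw [e, smul_zero, disp_apply] at this
    rw [Units.val_one, Matrix.one_mulVec]
    exact v_eq_of_add this)
  obtain ⟨y, hy⟩ : ∃ y, altForm4 a y ≠ 0 := by
    by_contra hc; push Not at hc; exact ha (eq_zero_of_f hc)
  have e : ∀ x, l x = l y / altForm4 a y * altForm4 x a := fun x => by
    have := f_disp hz h2 x y
    rw [hl, hl, f_smul_l, f_smul_r] at this
    field_simp
    linear_combination this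
  have hz' : z = tv (sr (l y / altForm4 a y) • a) := gl_ext fun x => by
    rw [tv_apply, f_smul_r, smul_smul, show sr (l y / altForm4 a y) * altForm4 x a * sr (l y / altForm4 a y) =
      sr (l y / altForm4 a y) ^ 2 * altForm4 x a by ring, sr_sq, ← e, ← hl, disp_apply, add_comm (z ⬝ₐ x) x,
      ← add_assoc, v_add_self, zero_add]
  refine ⟨_, fun e0 => hz1 ?_, hz'⟩
  rw [hz', e0]
  exact gl_ext fun x => by rw [tv_apply, smul_zero, add_zero, Units.val_one, Matrix.one_mulVec]

theorem st_tv_of_alternating (hz : z ∈ Sp4 F) (h2 : z * z = 1) (hne : ∃ x, disp z x ≠ 0)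
    (halt : ∀ x, altForm4 (disp z x) x = 0) : ∃ a : V, a ≠ 0 ∧ (st ⟨z, hz⟩).1 = tv a := by
  obtain ⟨x₁, hx₁⟩ := hne
  obtain ⟨y, hy⟩ : ∃ y, altForm4 (disp z x₁) y ≠ 0 := by
    by_contra hc; push Not at hc; exact hx₁ (eq_zero_of_f hc)
  obtain ⟨x₂, hx₂⟩ : ∃ x₂, x₂ = (altForm4 (disp z x₁) y)⁻¹ • y := ⟨_, rfl⟩
  let a := disp z x₁
  let b := disp z x₂
  have hax₂ : altForm4 a x₂ = 1 := by rw [hx₂, f_smul_r, inv_mul_cancel₀ hy]
  have hbx₁ : altForm4 b x₁ = 1 := by rw [f_disp hz h2, f_comm]; exact hax₂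
  have hab : altForm4 a b = 0 := by rw [f_disp hz h2, disp_disp h2, f_zero_r]
  let c := altForm4 x₁ x₂
  let x₂' := x₂ + c • b
  have hNb : disp z x₂' = b := by rw [map_add, map_smul, disp_disp h2, smul_zero, add_zero]
  let col : Fin 4 → V := ![a, b, x₁, x₂']
  let M : M4 := Matrix.of fun i j => col j i
  have hMv : ∀ v : V, M *ᵥ v = v 0 • a + v 1 • b + v 2 • x₁ + v 3 • x₂' := fun v => by
    funext i
    simp [M, col, Matrix.mulVec, dotProduct, Fin.sum_univ_four, mul_comm]
  have g1 : altForm4 a x₁ = 0 := halt x₁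
  have g2 : altForm4 b x₂ = 0 := halt x₂
  have g3 : altForm4 x₁ x₂' = 0 := by
    rw [f_add_r, f_smul_r, f_comm x₁ b, hbx₁, mul_one]; exact CharTwo.add_self_eq_zero _
  have g4 : altForm4 a x₂' = 1 := by rw [f_add_r, f_smul_r, hab, mul_zero, add_zero, hax₂]
  have g5 : altForm4 b x₂' = 0 := by rw [f_add_r, f_smul_r, f_self, mul_zero, add_zero, g2]
  have hf : ∀ u v : V, altForm4 (M *ᵥ u) (M *ᵥ v) = altForm4 u v := by
    intro u v
    rw [hMv, hMv]
    simp only [f_add_l, f_add_r, f_smul_l, f_smul_r, f_self, f_comm b a, f_comm x₁ a, f_comm x₁ b, f_comm x₂' a,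
      f_comm x₂' b, f_comm x₂' x₁, hab, hbx₁, g1, g3, g4, g5, mul_zero, mul_one, add_zero, zero_add]
    show _ = u 0 * v 3 + u 1 * v 2 + u 2 * v 1 + u 3 * v 0
    ring
  have hMu : IsUnit M := by
    rw [Matrix.isUnit_iff_isUnit_det, isUnit_iff_ne_zero]
    intro h0
    obtain ⟨v, hv, hv0⟩ := Matrix.exists_mulVec_eq_zero_iff.2 h0
    exact hv (eq_zero_of_f fun w => by rw [← hf, hv0, f_zero_l])
  obtain ⟨B, hB⟩ := hMu
  have hBsp : B ∈ Sp4 F := fun u v => by
    show altForm4 (B ⬝ₐ u) (B ⬝ₐ v) = _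
    rw [hB]; exact hf u v
  let S : G4 := B⁻¹ * z * B
  have hS : S ∈ Sp4 F := mul_mem (mul_mem (inv_mem hBsp) hz) hBsp
  have hzc : ∀ x : V, z ⬝ₐ x = disp z x + x := fun x => by rw [disp_apply, add_assoc, v_add_self, add_zero]
  have hSm : (S : M4) = !![1, 0, 1, 0; 0, 1, 0, 1; 0, 0, 1, 0; 0, 0, 0, 1] := by
    refine Matrix.ext_iff_mulVec.2 fun v => ?_
    refine Matrix.mulVec_injective_of_isUnit B.isUnit ?_
    show B ⬝ₐ (S ⬝ₐ v) = B ⬝ₐ _
    rw [Matrix.mulVec_mulVec, ← Units.val_mul, show B * S = z * B by simp only [S, mul_assoc, mul_inv_cancel_left],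
      Units.val_mul, ← Matrix.mulVec_mulVec, hB, hMv, hMv, Matrix.mulVec_add, Matrix.mulVec_add,
      Matrix.mulVec_add, Matrix.mulVec_smul, Matrix.mulVec_smul, Matrix.mulVec_smul, Matrix.mulVec_smul,
      hzc a, hzc b, hzc x₁, hzc x₂', hNb]
    rw [show disp z a = 0 from disp_disp h2 _, show disp z b = 0 from disp_disp h2 _, show disp z x₁ = a from rfl]
    simp [Matrix.mulVec, dotProduct, Fin.sum_univ_four]
    module
  have hst : (st ⟨S, hS⟩).1 = tv (Pi.single 0 1) := by
    apply Units.ext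
    rw [st_val]
    show star4 (S : M4) = (1 + vecMulVec (Pi.single 0 1) ![(Pi.single 0 1 : V) 3, (Pi.single 0 1 : V) 2,
      (Pi.single 0 1 : V) 1, (Pi.single 0 1 : V) 0] : M4)
    rw [hSm]
    ext p r
    fin_cases p <;> fin_cases r <;>
      simp [star4, pairOf, vecMulVec_apply, Matrix.one_apply, Pi.single_apply, CharTwo.add_self_eq_zero,
        CharTwo.sub_eq_add]
  refine ⟨(st ⟨B, hBsp⟩).1 ⬝ₐ Pi.single 0 1, mulVec_ne (by simp), ?_⟩
  rw [← tv_conj (st ⟨B, hBsp⟩).2, ← hst, ← Subgroup.coe_inv, ← Subgroup.coe_mul, ← Subgroup.coe_mul, ← map_inv,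
    ← map_mul, ← map_mul]
  congr 2
  exact Subtype.ext (by simp [S, mul_assoc])

theorem odd_centraliser_trivial (hz : z ∈ Sp4 F) (h2 : z * z = 1)
    (hrk : ∀ a : V, ∃ x, ∀ c : F, disp z x ≠ c • a) (hna : ∃ x, altForm4 (disp z x) x ≠ 0) {y : G4} (hy : y ∈ Sp4 F)
    (hodd : Odd (orderOf y)) (hc : y * z = z * y) : y = 1 := by
  obtain ⟨x₁, hx₁⟩ := hrk 0
  obtain ⟨x₂, hx₂⟩ := hrk (disp z x₁)
  have hli : LinearIndependent F ![disp z x₁, disp z x₂] := by
    rw [LinearIndependent.pair_iff']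
    · intro c e; exact hx₂ c e.symm
    · simpa using hx₁ 0
  have hrange : ∀ x, ∃ α γ : F, disp z x = α • disp z x₁ + γ • disp z x₂ := by
    have hr2 : 2 ≤ Module.finrank F (LinearMap.range (disp z)) := by
      have := Submodule.finrank_mono (show Submodule.span F (Set.range ![disp z x₁, disp z x₂]) ≤
        LinearMap.range (disp z) by
          rw [Submodule.span_le]; rintro _ ⟨i, rfl⟩; fin_cases i <;> exact ⟨_, rfl⟩)
      rwa [finrank_span_eq_card hli, Fintype.card_fin] at this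
    have hle : LinearMap.range (disp z) ≤ LinearMap.ker (disp z) := by
      rintro _ ⟨x, rfl⟩; exact LinearMap.mem_ker.2 (disp_disp h2 x)
    have hsum := LinearMap.finrank_range_add_finrank_ker (disp z)
    rw [Module.finrank_fin_fun] at hsum
    have := Submodule.finrank_mono hle
    have he : Submodule.span F (Set.range ![disp z x₁, disp z x₂]) = LinearMap.range (disp z) := by
      refine Submodule.eq_of_le_of_finrank_le ?_ ?_
      · rw [Submodule.span_le]; rintro _ ⟨i, rfl⟩; fin_cases i <;> exact ⟨_, rfl⟩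
      · rw [finrank_span_eq_card hli, Fintype.card_fin]; omega
    intro x
    have hx : disp z x ∈ Submodule.span F (Set.range ![disp z x₁, disp z x₂]) := he ▸ ⟨x, rfl⟩
    obtain ⟨co, hco⟩ := (Submodule.mem_span_range_iff_exists_fun F).1 hx
    exact ⟨co 0, co 1, by rw [← hco, Fin.sum_univ_two]; simp⟩
  have hker : ∀ x, disp z x = 0 → ∃ u, x = disp z u := by
    have hle : LinearMap.range (disp z) ≤ LinearMap.ker (disp z) := by
      rintro _ ⟨x, rfl⟩; exact LinearMap.mem_ker.2 (disp_disp h2 x)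
    have hr2 : 2 ≤ Module.finrank F (LinearMap.range (disp z)) := by
      have := Submodule.finrank_mono (show Submodule.span F (Set.range ![disp z x₁, disp z x₂]) ≤
        LinearMap.range (disp z) by
          rw [Submodule.span_le]; rintro _ ⟨i, rfl⟩; fin_cases i <;> exact ⟨_, rfl⟩)
      rwa [finrank_span_eq_card hli, Fintype.card_fin] at this
    have hsum := LinearMap.finrank_range_add_finrank_ker (disp z)
    rw [Module.finrank_fin_fun] at hsum
    have he := Submodule.eq_of_le_of_finrank_le hle (by omega)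
    intro x hx
    obtain ⟨u, hu⟩ : x ∈ LinearMap.range (disp z) := he ▸ LinearMap.mem_ker.2 hx
    exact ⟨u, hu.symm⟩
  have hcomm : ∀ x, disp z (y ⬝ₐ x) = y ⬝ₐ disp z x := fun x => by
    rw [disp_apply, disp_apply, Matrix.mulVec_add, Matrix.mulVec_mulVec, Matrix.mulVec_mulVec, ← Units.val_mul,
      ← Units.val_mul, hc]
  -- the form on the coefficients
  let β : V → V → F := fun u v => altForm4 (disp z u) v
  have hβy : ∀ u v, β (y ⬝ₐ u) (y ⬝ₐ v) = β u v := fun u v => by
    show altForm4 (disp z (y ⬝ₐ u)) (y ⬝ₐ v) = _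
    rw [hcomm, sp_f hy]
  have hβs : ∀ u v, β u v = β v u := fun u v => by
    show altForm4 (disp z u) v = altForm4 (disp z v) u
    rw [f_disp hz h2, f_comm]
  obtain ⟨a, c, hac⟩ := hrange (y ⬝ₐ x₁)
  obtain ⟨b, d, hbd⟩ := hrange (y ⬝ₐ x₂)
  let p := β x₁ x₁
  let r := β x₁ x₂
  let s := β x₂ x₂
  have hexp : ∀ (u v : V) (α γ α' γ' : F), disp z u = α • disp z x₁ + γ • disp z x₂ →
      disp z v = α' • disp z x₁ + γ' • disp z x₂ →
      β u v = α * α' * p + (α * γ' + γ * α') * r + γ * γ' * s := by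
    intro u v α γ α' γ' hu hv
    have e : ∀ w, β w v = α' * β w x₁ + γ' * β w x₂ := fun w => by
      rw [hβs w v, hβs w x₁, hβs w x₂]
      show altForm4 (disp z v) w = _
      rw [hv, f_add_l, f_smul_l, f_smul_l]
    show altForm4 (disp z u) v = _
    rw [hu, f_add_l, f_smul_l, f_smul_l]
    show α * β x₁ v + γ * β x₂ v = _
    rw [e, e, hβs x₂ x₁]
    simp only [p, r, s]
    ring
  have h11 : a * a * p + c * c * s = p := by
    have := hexp _ _ _ _ _ _ hac hac
    rw [hβy, show a * c + c * a = 0 by rw [mul_comm c a]; exact CharTwo.add_self_eq_zero _, zero_mul,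
      add_zero] at this
    exact this.symm
  have h22 : b * b * p + d * d * s = s := by
    have := hexp _ _ _ _ _ _ hbd hbd
    rw [hβy, show b * d + d * b = 0 by rw [mul_comm d b]; exact CharTwo.add_self_eq_zero _, zero_mul,
      add_zero] at this
    exact this.symm
  have h12 : a * b * p + (a * d + b * c) * r + c * d * s = r := by
    have := hexp _ _ _ _ _ _ hac hbd
    rw [hβy] at this
    rw [mul_comm b c]; exact this.symm
  have hM : p * s + r * r ≠ 0 := by
    intro h0
    by_cases hr : r = 0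
    · rw [hr, mul_zero, add_zero] at h0
      rcases mul_eq_zero.1 h0 with hp | hs
      · refine hx₁ 0 ?_
        rw [zero_smul]
        refine eq_zero_of_f fun v => ?_
        obtain ⟨α, γ, hv⟩ := hrange v
        have := hexp x₁ v 1 0 α γ (by rw [one_smul, zero_smul, add_zero]) hv
        rw [hp, hr] at this
        simpa [β] using this
      · refine hx₂ 0 ?_
        rw [zero_smul]
        refine eq_zero_of_f fun v => ?_
        obtain ⟨α, γ, hv⟩ := hrange v
        have := hexp x₂ v 0 1 α γ (by rw [one_smul, zero_smul, zero_add]) hv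
        rw [hs, hr] at this
        simpa [β] using this
    · have hs0 : ∀ v, altForm4 (s • disp z x₁ + r • disp z x₂) v = 0 := fun v => by
        obtain ⟨α, γ, hv⟩ := hrange v
        have e1 := hexp x₁ v 1 0 α γ (by rw [one_smul, zero_smul, add_zero]) hv
        have e2 := hexp x₂ v 0 1 α γ (by rw [one_smul, zero_smul, zero_add]) hv
        rw [f_add_l, f_smul_l, f_smul_l]
        show s * β x₁ v + r * β x₂ v = 0
        rw [e1, e2]
        grobner
      have := eq_zero_of_f hs0
      exact hr (Fintype.linearIndependent_iff.1 hli ![s, r] (by rw [Fin.sum_univ_two]; simpa using this) 1)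
  have hne : ¬ (sr p = 0 ∧ sr s = 0) := by
    rintro ⟨hp, hs⟩
    obtain ⟨x, hx⟩ := hna
    obtain ⟨α, γ, hv⟩ := hrange x
    refine hx ?_
    show β x x = 0
    rw [hexp _ _ _ _ _ _ hv hv, ← sr_sq p, ← sr_sq s, hp, hs, mul_comm γ α, CharTwo.add_self_eq_zero]
    ring
  have hl1 : a * sr p + c * sr s = sr p := sq_inj (by
    rw [CharTwo.add_sq, mul_pow, mul_pow, sr_sq, sr_sq]; linear_combination h11)
  have hl2 : b * sr p + d * sr s = sr s := sq_inj (by
    rw [CharTwo.add_sq, mul_pow, mul_pow, sr_sq, sr_sq]; linear_combination h22)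
  obtain ⟨e11, e12, e21, e22⟩ := two_dim_fix hM h11 h22 h12 hl1 hl2 hne
  -- the square fixes the quotient
  have hy2 : ∀ x, disp z ((y * y : G4) ⬝ₐ x) = disp z x := by
    intro x
    obtain ⟨α, γ, hv⟩ := hrange x
    have e1 : y ⬝ₐ disp z x₁ = a • disp z x₁ + c • disp z x₂ := by rw [← hcomm, hac]
    have e2 : y ⬝ₐ disp z x₂ = b • disp z x₁ + d • disp z x₂ := by rw [← hcomm, hbd]
    rw [Units.val_mul, ← Matrix.mulVec_mulVec, hcomm, hcomm, hv]
    simp only [Matrix.mulVec_add, Matrix.mulVec_smul, e1, e2, smul_add, smul_smul]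
    have k1 : α * (a * a) + α * (c * b) + (γ * (b * a) + γ * (d * b)) = α := by grobner
    have k2 : α * (a * c) + α * (c * d) + (γ * (b * c) + γ * (d * d)) = γ := by grobner
    calc (α * a * a) • disp z x₁ + (α * a * c) • disp z x₂ + ((α * c * b) • disp z x₁ + (α * c * d) • disp z x₂) +
          ((γ * b * a) • disp z x₁ + (γ * b * c) • disp z x₂ + ((γ * d * b) • disp z x₁ + (γ * d * d) • disp z x₂))
        = (α * (a * a) + α * (c * b) + (γ * (b * a) + γ * (d * b))) • disp z x₁ +
          (α * (a * c) + α * (c * d) + (γ * (b * c) + γ * (d * d))) • disp z x₂ := by module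
      _ = _ := by rw [k1, k2]
  have hy4 : (y * y) * (y * y) = 1 := gl_ext fun x => by
    generalize hg : y * y = g at hy2 ⊢
    have hgc : ∀ u, disp z u = g ⬝ₐ disp z u := fun u => by
      conv_lhs => rw [← hy2 u, ← hg, Units.val_mul, ← Matrix.mulVec_mulVec, hcomm, hcomm, Matrix.mulVec_mulVec,
        ← Units.val_mul, hg]
    obtain ⟨u, hu⟩ := hker (g ⬝ₐ x + x) (by rw [map_add, hy2, v_add_self])
    have hgx : g ⬝ₐ x = disp z u + x := by rw [← hu, add_assoc, v_add_self, add_zero]
    rw [Units.val_mul, ← Matrix.mulVec_mulVec, hgx, Matrix.mulVec_add, ← hgc, hgx, Units.val_one, Matrix.one_mulVec,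
      ← add_assoc, v_add_self, zero_add]
  have h4 : orderOf y ∣ 2 ^ 2 := orderOf_dvd_of_pow_eq_one (by rw [show y ^ 2 ^ 2 = y * y * (y * y) by simp [pow_succ, mul_assoc], hy4])
  exact orderOf_eq_one_iff.1 (Nat.Coprime.eq_one_of_dvd
    ((Nat.coprime_pow_right_iff (by norm_num) _ _).2 (Nat.coprime_two_right.2 hodd)) h4)

/-- The three kinds of involutions. -/
theorem invol_cases (hz : z ∈ Sp4 F) (h2 : z * z = 1) (hz1 : z ≠ 1) :
    (∃ a : V, a ≠ 0 ∧ z = tv a) ∨ (∃ a : V, a ≠ 0 ∧ (st ⟨z, hz⟩).1 = tv a) ∨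
      ∀ y ∈ Sp4 F, Odd (orderOf y) → y * z = z * y → y = 1 := by
  by_cases h1 : ∃ a : V, ∀ x, ∃ c : F, disp z x = c • a
  · obtain ⟨a, ha⟩ := h1
    exact Or.inl (tv_of_rank_one hz h2 hz1 ha)
  push Not at h1
  by_cases halt : ∀ x, altForm4 (disp z x) x = 0
  · refine Or.inr (Or.inl (st_tv_of_alternating hz h2 ?_ halt))
    obtain ⟨x, hx⟩ := h1 0
    exact ⟨x, by simpa using hx 0⟩
  · push Not at halt
    exact Or.inr (Or.inr fun y hy ho hc => odd_centraliser_trivial hz h2 h1 halt hy ho hc)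

end CfsgLib.CMax.SpFourRes
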