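import Cfsg.Agent.Lib.CMax.SpFourRes.Triple

/-!
# Groups generated by transvections

All nonzero vectors are centres, or a quadratic form is fixed, or the group is realised over a proper subfield by a
symplectic basis.
-/

set_option autoImplicit false
set_option linter.all false

namespace CfsgLib.CMax.SpFourRes

open Matrix Cfsg.Lie

variable {F : Type*} [Field F] [CharP F 2]

local notation "V" => Fin 4 → F
local notation "G4" => GL (Fin 4) F
local notation:100 g:100 " ⬝ₐ " v:101 => (Units.val g : Matrix (Fin 4) (Fin 4) F) *ᵥ v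

/-- The field with two elements inside. -/
def K2 (F : Type*) [Field F] [CharP F 2] : Subfield F where
  carrier := {x | x = 0 ∨ x = 1}
  zero_mem' := Or.inl rfl
  one_mem' := Or.inr rfl
  add_mem' := by
    rintro a b (rfl | rfl) (rfl | rfl)
    exacts [Or.inl (add_zero _), Or.inr (zero_add _), Or.inr (add_zero _), Or.inl (CharTwo.add_self_eq_zero _)]
  mul_mem' := by
    rintro a b (rfl | rfl) (rfl | rfl)
    exacts [Or.inl (zero_mul _), Or.inl (zero_mul _), Or.inl (mul_zero _), Or.inr (one_mul _)]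
  neg_mem' := by
    rintro a (rfl | rfl)
    exacts [Or.inl neg_zero, Or.inr (CharTwo.neg_eq 1)]
  inv_mem' := by
    rintro a (rfl | rfl)
    exacts [Or.inl inv_zero, Or.inr inv_one]

theorem mem_K2 {x : F} : x ∈ K2 F ↔ x = 0 ∨ x = 1 := Iff.rfl

theorem K2_ne_top (hF : ∃ μ : F, μ ≠ 0 ∧ μ ≠ 1) : K2 F ≠ ⊤ := fun e => by
  obtain ⟨μ, h0, h1⟩ := hF
  rcases mem_K2.1 (e ▸ trivial : μ ∈ K2 F) with h | h
  exacts [h0 h, h1 h]

variable [Finite F] {P : Subgroup (GL (Fin 4) F)}

/-- Every nonperpendicular pair of centres has a centre perpendicular to both. -/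
theorem exists_perp (hb : Base P) (hI : ∀ a ∈ A P, ∀ s : F, s • a ∈ A P → s = 1) {b c : V} (hbA : b ∈ A P)
    (hcA : c ∈ A P) (hbc : altForm4 b c ≠ 0) :
    ∃ d ∈ A P, altForm4 d b = 0 ∧ altForm4 d c = 0 := by
  classical
  by_contra hcon
  push Not at hcon
  have hq : ∀ x ∈ A P, qv4 b c x = 1 := fun x hx => (triple hb hI hbA hcA hx hbc).resolve_right fun h =>
    hcon _ h (by rw [f_smul_l, f_rest_left hbc, mul_zero]) (by rw [f_smul_l, f_rest_right hbc, mul_zero])
  have key : ∀ e ∈ A P, ∀ e' ∈ A P, altForm4 e e' = 0 ∨ altForm4 (rest b c e) (rest b c e') = 0 := by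
    intro e he e' he'
    have h := hq _ (hb.A_refl he he')
    rw [qv4_add hbc, qv4_smul, hq e he, hq e' he'] at h
    have h' : altForm4 e' e * altForm4 (rest b c e') (rest b c e) = 0 := by
      have e2 := f_eq_pl hbc e' e
      have e3 : pl b c e' (altForm4 e' e • e) = altForm4 e' e * pl b c e' e := by
        simp only [pl, f_smul_l]; ring
      rw [e3] at h
      linear_combination h - altForm4 e' e * e2 - (altForm4 e' e * pl b c e' e) * (CharTwo.two_eq_zero : (2 : F) = 0)
    rcases mul_eq_zero.1 h' with h' | h'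
    · exact Or.inl (by rwa [f_comm])
    · exact Or.inr (by rwa [f_comm])
  have hrr : ∀ e ∈ A P, ∀ e' ∈ A P, altForm4 (rest b c e) (rest b c e') = 0 := by
    intro e he e' he'
    by_contra hne
    have h0 := (key e he e' he').resolve_right hne
    have hz : ∀ e'' ∈ A P, rest b c e'' = rest b c e' → altForm4 e e'' = 0 := fun e'' h1 h2 =>
      (key e he e'' h1).resolve_right (by rw [h2]; exact hne)
    have tb : ∀ v ∈ A P, v + altForm4 v b • b ∈ A P ∧ rest b c (v + altForm4 v b • b) = rest b c v :=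
      fun v hv => ⟨hb.A_refl hbA hv, by
        simp only [rest, pr, f_add_l, f_smul_l, f_self, mul_zero, add_zero, add_smul, smul_add, smul_smul]
        match_scalars <;> field_simp <;> first
          | linear_combination (altForm4 v b) * (CharTwo.two_eq_zero : (2 : F) = 0)
          | linear_combination (altForm4 v b * altForm4 b c) * (CharTwo.two_eq_zero : (2 : F) = 0)⟩
    have tc : ∀ v ∈ A P, v + altForm4 v c • c ∈ A P ∧ rest b c (v + altForm4 v c • c) = rest b c v :=
      fun v hv => ⟨hb.A_refl hcA hv, by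
        simp only [rest, pr, f_add_l, f_smul_l, f_self, f_comm c b, mul_zero, add_zero, add_smul, smul_add,
          smul_smul]
        match_scalars <;> field_simp <;> first
          | linear_combination (altForm4 v c) * (CharTwo.two_eq_zero : (2 : F) = 0)
          | linear_combination (altForm4 v c * altForm4 b c) * (CharTwo.two_eq_zero : (2 : F) = 0)⟩
    obtain ⟨hb1, hb2⟩ := tb e' he'
    obtain ⟨hc1, hc2⟩ := tc e' he'
    have zb := hz _ hb1 hb2
    have zc := hz _ hc1 hc2
    rw [f_add_r, f_smul_r, h0, zero_add, mul_eq_zero] at zb zc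
    have nz : ∀ v ∈ A P, ¬ (altForm4 v b = 0 ∧ altForm4 v c = 0) := fun v hv hh => hcon v hv hh.1 hh.2
    by_cases heb : altForm4 e b = 0
    · have hec : altForm4 e c ≠ 0 := fun h => nz e he ⟨heb, h⟩
      have h1 : altForm4 e' c = 0 := zc.resolve_right hec
      have h2 : altForm4 e' b ≠ 0 := fun h => nz e' he' ⟨h, h1⟩
      obtain ⟨h3, h4⟩ := tc _ hb1
      have := hz _ h3 (h4.trans hb2)
      simp only [f_add_l, f_add_r, f_smul_l, f_smul_r, h0, heb, h1, mul_zero, zero_add, add_zero] at this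
      exact mul_ne_zero (mul_ne_zero h2 hbc) hec this
    · have h1 : altForm4 e' b = 0 := zb.resolve_right heb
      have h2 : altForm4 e' c ≠ 0 := fun h => nz e' he' ⟨h1, h⟩
      have hec : altForm4 e c = 0 := zc.resolve_left h2
      obtain ⟨h3, h4⟩ := tb _ hc1
      have := hz _ h3 (h4.trans hc2)
      simp only [f_add_l, f_add_r, f_smul_l, f_smul_r, h0, hec, h1, f_comm c b, mul_zero, zero_add, add_zero] at this
      exact mul_ne_zero (mul_ne_zero h2 hbc) heb this
  have hspan := hb.span_inv (fun g hg s hs => hb.A_map hg hs) hbA hbA.1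
  have hr0 : ∀ e ∈ A P, rest b c e = 0 := fun e he => eq_zero_of_f_span hspan fun s hs => by
    rw [← pr_add_rest b c s, f_add_r, f_rest_pr hbc, zero_add]
    exact hrr e he s hs
  have hle : Submodule.span F (A P) ≤ Submodule.span F ((Finset.univ.image ![b, c] : Finset V) : Set V) := by
    rw [Submodule.span_le]
    intro x hx
    rw [← pr_add_rest b c x, hr0 x hx, add_zero]
    refine Submodule.smul_mem _ _ (Submodule.add_mem _ (Submodule.smul_mem _ _ (Submodule.subset_span ?_))
      (Submodule.smul_mem _ _ (Submodule.subset_span ?_)))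
    · simpa using Or.inl rfl
    · simpa using Or.inr rfl
  have h4 := Submodule.finrank_mono hle
  rw [hspan, finrank_top, Module.finrank_fin_fun] at h4
  have h2 : Module.finrank F (Submodule.span F ((Finset.univ.image ![b, c] : Finset V) : Set V)) ≤ 2 :=
    (finrank_span_finset_le_card _).trans (Finset.card_image_le.trans (by simp))
  omega

/-- Two perpendicular planes, each spanned by two centres. -/
def HasFrame (P : Subgroup G4) : Prop :=
  ∃ b ∈ A P, ∃ c ∈ A P, ∃ b' ∈ A P, ∃ c' ∈ A P, altForm4 b c ≠ 0 ∧ altForm4 b' c' ≠ 0 ∧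
    altForm4 b b' = 0 ∧ altForm4 b c' = 0 ∧ altForm4 c b' = 0 ∧ altForm4 c c' = 0

/-- Without a frame all form values lie in the field with two elements. -/
theorem rat_of_noFrame (hb : Base P) (hI : ∀ a ∈ A P, ∀ s : F, s • a ∈ A P → s = 1) (hA : (A P).Nonempty)
    (hN : ¬ HasFrame P) : ∃ B ∈ Sp4 F, ∀ g ∈ P, ∀ i j, ((B⁻¹ * g * B : G4) : Matrix (Fin 4) (Fin 4) F) i j ∈ K2 F := by
  classical
  have hspan := hb.span_inv (fun g hg s hs => hb.A_map hg hs) hA.some_mem hA.some_mem.1
  have uniq : ∀ {b c d d' : V}, b ∈ A P → c ∈ A P → d ∈ A P → d' ∈ A P → altForm4 b c ≠ 0 →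
      altForm4 d b = 0 → altForm4 d c = 0 → altForm4 d' b = 0 → altForm4 d' c = 0 → d = d' := by
    intro b c d d' hbA hcA hdA hdA' hbc h1 h2 h3 h4
    have hdd : altForm4 d d' = 0 := by
      by_contra h
      exact hN ⟨b, hbA, c, hcA, d, hdA, d', hdA', hbc, h, by rwa [f_comm], by rwa [f_comm], by rwa [f_comm],
        by rwa [f_comm]⟩
    obtain ⟨y, hy, hdy⟩ := exists_nonperp hspan hdA.1
    have hdy' : altForm4 d (rest b c y) ≠ 0 := by
      have : altForm4 d (pr b c y) = 0 := by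
        rw [pr, f_smul_r, f_add_r, f_smul_r, f_smul_r, h1, h2]; ring
      rwa [← pr_add_rest b c y, f_add_r, this, zero_add] at hdy
    have hk : d' + (altForm4 d' (rest b c y) / altForm4 d (rest b c y)) • d = 0 :=
      li_frame hbc hdy' (by rwa [f_comm]) (by rw [f_comm]; exact f_rest_left hbc y) (by rwa [f_comm])
        (by rw [f_comm]; exact f_rest_right hbc y)
        ⟨by rw [f_add_l, f_smul_l, h3, h1]; ring, by rw [f_add_l, f_smul_l, h4, h2]; ring,
          by rw [f_add_l, f_smul_l, f_self, f_comm d' d, hdd]; ring,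
          by rw [f_add_l, f_smul_l, div_mul_cancel₀ _ hdy', CharTwo.add_self_eq_zero]⟩
    have hd' := v_eq_of_add hk
    rw [hI d hdA (altForm4 d' (rest b c y) / altForm4 d (rest b c y)) (hd' ▸ hdA'), one_smul] at hd'
    exact hd'.symm
  let S : Set V := {a | a ∈ A P ∧ ∃ b ∈ A P, ∃ c ∈ A P, altForm4 b c ≠ 0 ∧ altForm4 a b = 0 ∧ altForm4 a c = 0}
  have hSmap : ∀ g ∈ P, ∀ s ∈ S, g ⬝ₐ s ∈ S := by
    rintro g hg s ⟨hs, b, hbA, c, hcA, h1, h2, h3⟩
    exact ⟨hb.A_map hg hs, _, hb.A_map hg hbA, _, hb.A_map hg hcA, by rwa [sp_f (hb.le hg)],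
      by rwa [sp_f (hb.le hg)], by rwa [sp_f (hb.le hg)]⟩
  have main : ∀ a ∈ S, ∀ e ∈ A P, altForm4 a e ≠ 0 → altForm4 a e = 1 := by
    rintro a ⟨haA, b, hbA, c, hcA, hbc, hab, hac⟩ e heA hae
    obtain ⟨d, hd, hda, hde⟩ := exists_perp hb hI haA heA hae
    have main1 : ∀ w ∈ A P, altForm4 w a = 0 → altForm4 d w ≠ 0 → altForm4 a e = altForm4 d w := by
      intro w hw hwa hdw
      have hew : altForm4 e w ≠ 0 := fun h => hdw (by
        rw [← uniq haA heA hw hd hae hwa (by rwa [f_comm]) hda hde, f_self])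
      have hκ : altForm4 e w = altForm4 d w := by
        rcases triple hb hI hd hw heA hdw with h | h
        · rw [qv4, f_comm e d, hde, zero_div, mul_zero, zero_pow two_ne_zero, add_zero, add_zero] at h
          exact div_eq_one_iff_eq hdw |>.1 (sq_eq_one h)
        · have hra := uniq hd hw h haA hdw (by rw [f_smul_l, f_rest_left hdw, mul_zero])
            (by rw [f_smul_l, f_rest_right hdw, mul_zero]) (by rwa [f_comm]) (by rwa [f_comm])
          exfalso
          apply hae
          have : altForm4 (rest d w e) a = 0 := by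
            have := congrArg (fun v => altForm4 v a) hra
            simp only [f_smul_l, f_self, mul_eq_zero, inv_eq_zero] at this
            exact this.resolve_left fun e0 => h.1 (by rw [e0, _root_.inv_zero, zero_smul])
          rw [f_comm, ← pr_add_rest d w e, f_add_l, this, add_zero, pr, f_smul_l, f_add_l, f_smul_l, f_smul_l,
            hda, hwa]
          ring
      rcases triple hb hI hw heA haA (by rwa [f_comm]) with h | h
      · rw [qv4, f_comm a w, hwa, zero_div, mul_zero, zero_pow two_ne_zero, add_zero, add_zero] at h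
        rw [← hκ, f_comm e w]
        exact div_eq_one_iff_eq (by rwa [f_comm]) |>.1 (sq_eq_one h)
      · have hwe : altForm4 w e ≠ 0 := by rwa [f_comm]
        have hra := uniq haA heA h hd hae (by
            rw [f_smul_l, rest, f_add_l, f_self, pr, f_smul_l, f_add_l, f_smul_l, f_smul_l, hwa, f_comm a w, hwa]
            ring) (by rw [f_smul_l, f_rest_right hwe, mul_zero]) hda hde
        exfalso
        apply hdw
        rw [← hra, f_smul_l, f_rest_left hwe, mul_zero]
    obtain ⟨w, hw, hwa, hdw⟩ : ∃ w ∈ A P, altForm4 w a = 0 ∧ altForm4 d w ≠ 0 := by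
      by_cases h1 : altForm4 d b = 0
      · by_cases h2 : altForm4 d c = 0
        · exfalso
          exact hae (by rw [← uniq hbA hcA hd haA hbc h1 h2 hab hac]; exact hde)
        · exact ⟨c, hcA, by rwa [f_comm], h2⟩
      · exact ⟨b, hbA, by rwa [f_comm], h1⟩
    have e1 := main1 w hw hwa hdw
    have e2 := main1 (d + altForm4 d w • w) (hb.A_refl hw hd) (by rw [f_add_l, f_smul_l, hda, hwa]; ring)
      (by rw [f_add_r, f_smul_r, f_self, zero_add]; exact mul_ne_zero hdw hdw)
    rw [f_add_r, f_smul_r, f_self, zero_add, e1] at e2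
    rw [e1]
    exact mul_left_cancel₀ hdw (by rw [mul_one]; exact e2.symm)
  obtain ⟨a, ha⟩ := hA
  obtain ⟨e, he, hae⟩ := exists_nonperp hspan ha.1
  obtain ⟨d, hd, hda, hde⟩ := exists_perp hb hI ha he hae
  refine rat_of_values hb hSmap (⟨hd, a, ha, e, he, hae, hda, hde⟩ : d ∈ S) hd.1 fun s hs t ht => mem_K2.2 ?_
  exact (em (altForm4 s t = 0)).imp id fun h => main s hs t ht.1 h

/-- With a frame: a quadratic form or the field with two elements. -/
theorem cases_of_frame (hb : Base P) (hI : ∀ a ∈ A P, ∀ s : F, s • a ∈ A P → s = 1) (hF : HasFrame P) :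
    QuadFix P ∨ ∃ B ∈ Sp4 F, ∀ g ∈ P, ∀ i j,
      ((B⁻¹ * g * B : G4) : Matrix (Fin 4) (Fin 4) F) i j ∈ K2 F := by
  classical
  obtain ⟨b, hbA, c, hcA, b', hbA', c', hcA', hbc, hbc', hbb, hbc2, hcb, hcc⟩ := hF
  have frame : ∀ {u : V}, altForm4 u b = 0 → altForm4 u c = 0 → altForm4 u b' = 0 → altForm4 u c' = 0 → u = 0 :=
    fun h1 h2 h3 h4 => li_frame hbc hbc' hbb hbc2 hcb hcc ⟨h1, h2, h3, h4⟩
  have hrest : ∀ v, rest b c v = pr b' c' v := fun v => v_eq_of_add (frame
    (by rw [f_add_l, f_rest_left hbc, pr, f_smul_l, f_add_l, f_smul_l, f_smul_l, f_comm b' b, f_comm c' b, hbb, hbc2]; ring)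
    (by rw [f_add_l, f_rest_right hbc, pr, f_smul_l, f_add_l, f_smul_l, f_smul_l, f_comm b' c, f_comm c' c, hcb, hcc]; ring)
    (by rw [f_add_l, f_pr_left hbc', rest, f_add_l, pr, f_smul_l, f_add_l, f_smul_l, f_smul_l, hbb, hcb]
        linear_combination (altForm4 v b') * (CharTwo.two_eq_zero : (2 : F) = 0))
    (by rw [f_add_l, f_pr_right hbc', rest, f_add_l, pr, f_smul_l, f_add_l, f_smul_l, f_smul_l, hbc2, hcc]
        linear_combination (altForm4 v c') * (CharTwo.two_eq_zero : (2 : F) = 0)))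
  obtain ⟨Q, hQ⟩ : ∃ Q : V → F, ∀ v, Q v = qv4 b c v + qv4 b' c' v := ⟨_, fun _ => rfl⟩
  have hQadd : ∀ u v, Q (u + v) = Q u + Q v + altForm4 u v := by
    intro u v
    rw [hQ, hQ, hQ, qv4_add hbc, qv4_add hbc', f_eq_pl hbc u v, hrest, hrest, f_pr]
    ring
  have hQsmul : ∀ (k : F) v, Q (k • v) = k ^ 2 * Q v := fun k v => by
    rw [hQ, hQ, qv4_smul, qv4_smul]; ring
  have dich : ∀ e ∈ A P, Q e = 1 ∨ (qv4 b c e = 1 ∧ qv4 b' c' e = 1) := by
    have half : ∀ (p q p' q' : V), p ∈ A P → q ∈ A P → p' ∈ A P → q' ∈ A P → altForm4 p q ≠ 0 →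
        altForm4 p' q' ≠ 0 → altForm4 p p' = 0 → altForm4 p q' = 0 → altForm4 q p' = 0 → altForm4 q q' = 0 →
        ∀ e ∈ A P, qv4 p q e = 1 ∨ qv4 p q e + qv4 p' q' e = 1 := by
      intro p q p' q' hp hq hp' hq' hpq hpq' h1 h2 h3 h4 e he
      rcases triple hb hI hp hq he hpq with h | h
      · exact Or.inl h
      refine Or.inr ?_
      obtain ⟨ρ, hρ⟩ : ∃ ρ, ρ = 1 + sr (qv4 p q e) := ⟨_, rfl⟩
      rw [← hρ] at h
      have hρ0 : ρ ≠ 0 := fun e0 => h.1 (by rw [e0, _root_.inv_zero, zero_smul])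
      have hu1 : altForm4 (ρ⁻¹ • rest p q e) p = 0 := by rw [f_smul_l, f_rest_left hpq, mul_zero]
      have hu2 : altForm4 (ρ⁻¹ • rest p q e) q = 0 := by rw [f_smul_l, f_rest_right hpq, mul_zero]
      have h5 := (triple hb hI hp' hq' h hpq').resolve_right fun h6 => h6.1 (by
        rw [li_frame hpq hpq' h1 h2 h3 h4 (u := rest p' q' (ρ⁻¹ • rest p q e))
          ⟨?_, ?_, f_rest_left hpq' _, f_rest_right hpq' _⟩, smul_zero] <;>
        · rw [rest, f_add_l]
          simp only [hu1, hu2, pr, f_smul_l, f_add_l, f_comm p' p, f_comm q' p, f_comm p' q, f_comm q' q, h1, h2,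
            h3, h4, mul_zero, add_zero])
      have e' : qv4 p' q' (rest p q e) = qv4 p' q' e := by
        simp only [qv4, rest, f_add_l, pr, f_smul_l, h1, h2, h3, h4, mul_zero, add_zero]
      rw [qv4_smul, e', inv_pow, inv_mul_eq_one₀ (pow_ne_zero 2 hρ0), hρ, CharTwo.add_sq, one_pow, sr_sq] at h5
      linear_combination -h5 + (qv4 p q e) * (CharTwo.two_eq_zero : (2 : F) = 0)
    intro e he
    rcases half b c b' c' hbA hcA hbA' hcA' hbc hbc' hbb hbc2 hcb hcc e he with h | h
    · rcases half b' c' b c hbA' hcA' hbA hcA hbc' hbc (by rwa [f_comm]) (by rwa [f_comm]) (by rwa [f_comm])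
        (by rwa [f_comm]) e he with h' | h'
      · exact Or.inr ⟨h, h'⟩
      · exact Or.inl (by rw [hQ, add_comm]; exact h')
    · exact Or.inl (by rw [hQ]; exact h)
  by_cases hgood : ∀ e ∈ A P, Q e = 1
  · refine Or.inl ⟨Q, hQadd, hQsmul, fun g hg => ?_⟩
    refine hb.induction (p := fun g => ∀ v, Q (g ⬝ₐ v) = Q v) ⟨b, hbA⟩ (fun v => by simp)
      (fun g h _ _ hg hh v => by rw [Units.val_mul, ← Matrix.mulVec_mulVec, hg, hh]) (fun a ha v => ?_) hg
    rw [tv_apply, hQadd, hQsmul, hgood a ha, f_smul_r]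
    linear_combination (altForm4 v a ^ 2) * (CharTwo.two_eq_zero : (2 : F) = 0)
  refine Or.inr ?_
  push Not at hgood
  obtain ⟨e₀, he₀, hgood'⟩ := hgood
  let Bad : V → Prop := fun e => e ∈ A P ∧ Q e = 0
  have hbad_of : ∀ e ∈ A P, Q e ≠ 1 → Bad e ∧ qv4 b c e = 1 ∧ qv4 b' c' e = 1 := fun e he h => by
    obtain ⟨h1, h2⟩ := (dich e he).resolve_left h
    exact ⟨⟨he, by rw [hQ, h1, h2, CharTwo.add_self_eq_zero]⟩, h1, h2⟩
  have side : ∀ (p q p' q' : V), p ∈ A P → q ∈ A P → altForm4 p q ≠ 0 → altForm4 p' q' ≠ 0 →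
      altForm4 p p' = 0 → altForm4 p q' = 0 → altForm4 q p' = 0 → altForm4 q q' = 0 →
      (∀ v, Q v = qv4 p q v + qv4 p' q' v) → (∀ e ∈ A P, Q e = 1 ∨ (qv4 p q e = 1 ∧ qv4 p' q' e = 1)) →
      ∀ e, Bad e → altForm4 p q = 1 ∧ altForm4 e p ∈ K2 F ∧ altForm4 e q ∈ K2 F ∧ qv4 p q e = 1 ∧
        qv4 p' q' e = 1 := by
    intro p q p' q' hp hq hpq hpq' h1 h2 h3 h4 hQe hd e he
    obtain ⟨q1, q2⟩ := (hd e he.1).resolve_left (by rw [he.2]; exact zero_ne_one)
    have val : ∀ u ∈ A P, altForm4 u p' = 0 → altForm4 u q' = 0 → Q u = 1 → altForm4 e u ∈ K2 F := by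
      intro u hu hu1 hu2 hQu
      have hmem := hb.A_refl he.1 hu
      have hval : qv4 p' q' (u + altForm4 u e • e) = altForm4 e u ^ 2 := by
        rw [qv4_add hpq', qv4_smul, q2, qv4_perp hu1 hu2, pl, hu1, hu2, f_comm u e]; ring
      rw [mem_K2]
      rcases hd _ hmem with h | ⟨-, h⟩
      · rw [hQadd, hQsmul, hQu, he.2, f_smul_r, f_comm u e] at h
        left
        have h' : altForm4 e u * altForm4 e u = 0 := by linear_combination h
        exact mul_self_eq_zero.1 h'
      · exact Or.inr (sq_eq_one (hval ▸ h))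
    have hQp : Q p = 1 := by rw [hQe, qv4_left hpq, qv4_perp h1 h2, add_zero]
    have hQq : Q q = 1 := by rw [hQe, qv4_right hpq, qv4_perp h3 h4, add_zero]
    have vp := val p hp h1 h2 hQp
    have vq := val q hq h3 h4 hQq
    refine ⟨?_, vp, vq, q1, q2⟩
    have vpq := val _ (hb.A_refl hp hq) (by rw [f_add_l, f_smul_l, h3, h1]; ring)
      (by rw [f_add_l, f_smul_l, h4, h2]; ring) (by
        rw [hQadd, hQsmul, hQp, hQq, f_smul_r]
        linear_combination (altForm4 q p ^ 2) * (CharTwo.two_eq_zero : (2 : F) = 0))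
    have vqp := val _ (hb.A_refl hq hp) (by rw [f_add_l, f_smul_l, h3, h1]; ring)
      (by rw [f_add_l, f_smul_l, h4, h2]; ring) (by
        rw [hQadd, hQsmul, hQp, hQq, f_smul_r]
        linear_combination (altForm4 p q ^ 2) * (CharTwo.two_eq_zero : (2 : F) = 0))
    rw [f_add_r, f_smul_r, f_comm q p] at vpq
    rw [f_add_r, f_smul_r] at vqp
    have hl : altForm4 p q ∈ K2 F := by
      rcases mem_K2.1 vp with e1 | e1
      · rcases mem_K2.1 vq with e2 | e2
        · rw [qv4, e1, e2] at q1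
          simp at q1
        · rw [e2, e1, zero_add, mul_one] at vqp
          exact vqp
      · rw [e1, mul_one] at vpq
        have h := (K2 F).sub_mem vpq vq
        rwa [add_sub_cancel_left] at h
    exact (mem_K2.1 hl).resolve_left hpq
  have side1 := side b c b' c' hbA hcA hbc hbc' hbb hbc2 hcb hcc hQ dich
  have side2 := side b' c' b c hbA' hcA' hbc' hbc (by rwa [f_comm]) (by rwa [f_comm]) (by rwa [f_comm])
    (by rwa [f_comm]) (fun v => by rw [hQ, add_comm]) (fun e he => (dich e he).imp id And.symm)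
  obtain ⟨hb₀, -, -⟩ := hbad_of e₀ he₀ hgood'
  have hl1 := (side1 e₀ hb₀).1
  have hl2 := (side2 e₀ hb₀).1
  let InL : V → Prop := fun v => altForm4 v b ∈ K2 F ∧ altForm4 v c ∈ K2 F ∧ altForm4 v b' ∈ K2 F ∧
    altForm4 v c' ∈ K2 F
  have hbadL : ∀ e, Bad e → InL e := fun e he =>
    ⟨(side1 e he).2.1, (side1 e he).2.2.1, (side2 e he).2.1, (side2 e he).2.2.1⟩
  have hLf : ∀ u v, InL u → InL v → altForm4 u v ∈ K2 F := by
    intro u v hu hv
    rw [f_eq_pl hbc u v, hrest, hrest, f_pr, pl, pl, hl1, hl2, div_one, div_one]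
    exact (K2 F).add_mem ((K2 F).add_mem ((K2 F).mul_mem hu.2.1 hv.1) ((K2 F).mul_mem hu.1 hv.2.1))
      ((K2 F).add_mem ((K2 F).mul_mem hu.2.2.2 hv.2.2.1) ((K2 F).mul_mem hu.2.2.1 hv.2.2.2))
  have hall : ∀ w ∈ A P, InL w := by
    intro w hw
    by_cases hQw : Q w = 1
    swap
    · exact hbadL w (hbad_of w hw hQw).1
    by_contra hwL
    have hperp : ∀ e, Bad e → altForm4 w e = 0 := by
      intro e he
      by_contra hφ
      have hmem := hb.A_refl hw he.1
      have hbad : Bad (e + altForm4 e w • w) := ⟨hmem, by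
        rw [hQadd, hQsmul, he.2, hQw, f_smul_r]
        linear_combination (altForm4 e w ^ 2) * (CharTwo.two_eq_zero : (2 : F) = 0)⟩
      have hL1 := hbadL _ hbad
      have hL0 := hbadL _ he
      have hLw : ∀ {x : V}, altForm4 e x ∈ K2 F → altForm4 (e + altForm4 e w • w) x ∈ K2 F →
          altForm4 e w * altForm4 w x ∈ K2 F := fun {x} h1 h2 => by
        rw [f_add_l, f_smul_l] at h2
        have := (K2 F).sub_mem h2 h1
        rwa [add_sub_cancel_left] at this
      have hL : InL (altForm4 e w • w) := by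
        refine ⟨?_, ?_, ?_, ?_⟩ <;> rw [f_smul_l]
        exacts [hLw hL0.1 hL1.1, hLw hL0.2.1 hL1.2.1, hLw hL0.2.2.1 hL1.2.2.1, hLw hL0.2.2.2 hL1.2.2.2]
      have hsq : altForm4 e w ^ 2 ∈ K2 F := by
        have h := hQsmul (altForm4 e w) w
        rw [hQw, mul_one, hQ, qv4, qv4, hl1, hl2] at h
        rw [← h]
        simp only [div_one, one_mul]
        exact (K2 F).add_mem ((K2 F).add_mem ((K2 F).add_mem (pow_mem hL.2.1 2) (pow_mem hL.1 2))
          ((K2 F).mul_mem hL.2.1 hL.1)) ((K2 F).add_mem ((K2 F).add_mem (pow_mem hL.2.2.2 2) (pow_mem hL.2.2.1 2))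
          ((K2 F).mul_mem hL.2.2.2 hL.2.2.1))
      rcases mem_K2.1 hsq with h | h
      · exact hφ (by rw [f_comm]; exact pow_eq_zero_iff two_ne_zero |>.1 h)
      · rw [sq_eq_one h, one_smul] at hL; exact hwL hL
    have step : ∀ (p q : V), p ∈ A P → q ∈ A P → altForm4 p q = 1 → Q p = 1 → Q q = 1 →
        (∀ e, Bad e → altForm4 e p ∈ K2 F) → (∀ e, Bad e → altForm4 e q ∈ K2 F) →
        (∀ e, Bad e → ¬ (altForm4 e p = 0 ∧ altForm4 e q = 0)) → altForm4 w p = 0 := by
      intro p q hp hq hpq hQp hQq hKp hKq hne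
      have move : ∀ e, Bad e → ∀ u ∈ A P, Q u = 1 → Bad (e + altForm4 e u • u) := fun e he u hu hQu =>
        ⟨hb.A_refl hu he.1, by
          rw [hQadd, hQsmul, he.2, hQu, f_smul_r]
          linear_combination (altForm4 e u ^ 2) * (CharTwo.two_eq_zero : (2 : F) = 0)⟩
      have diff : ∀ e, Bad e → altForm4 e p = 1 → altForm4 w p = 0 := by
        intro e he h1
        have := hperp _ (move e he p hp hQp)
        rwa [f_add_r, f_smul_r, hperp e he, h1, one_mul, zero_add] at this
      rcases mem_K2.1 (hKp e₀ hb₀) with h0 | h0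
      · have hq1 : altForm4 e₀ q = 1 := (mem_K2.1 (hKq e₀ hb₀)).resolve_left fun h => hne e₀ hb₀ ⟨h0, h⟩
        refine diff _ (move e₀ hb₀ q hq hQq) ?_
        rw [f_add_l, f_smul_l, h0, hq1, f_comm q p, hpq, zero_add, one_mul]
      · exact diff e₀ hb₀ h0
    have hQb : Q b = 1 := by rw [hQ, qv4_left hbc, qv4_perp hbb hbc2, add_zero]
    have hQc : Q c = 1 := by rw [hQ, qv4_right hbc, qv4_perp hcb hcc, add_zero]
    have hQb' : Q b' = 1 := by
      rw [hQ, qv4_left hbc', qv4_perp (by rwa [f_comm]) (by rwa [f_comm]), zero_add]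
    have hQc' : Q c' = 1 := by
      rw [hQ, qv4_right hbc', qv4_perp (by rwa [f_comm]) (by rwa [f_comm]), zero_add]
    have n1 : ∀ e, Bad e → ¬ (altForm4 e b = 0 ∧ altForm4 e c = 0) := fun e he h => by
      have := (side1 e he).2.2.2.1
      rw [qv4_perp h.1 h.2] at this; exact zero_ne_one this
    have n2 : ∀ e, Bad e → ¬ (altForm4 e b' = 0 ∧ altForm4 e c' = 0) := fun e he h => by
      have := (side2 e he).2.2.2.1
      rw [qv4_perp h.1 h.2] at this; exact zero_ne_one this
    exact hw.1 (frame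
      (step b c hbA hcA hl1 hQb hQc (fun e he => (hbadL e he).1) (fun e he => (hbadL e he).2.1) n1)
      (step c b hcA hbA (by rw [f_comm]; exact hl1) hQc hQb (fun e he => (hbadL e he).2.1)
        (fun e he => (hbadL e he).1) fun e he h => n1 e he h.symm)
      (step b' c' hbA' hcA' hl2 hQb' hQc' (fun e he => (hbadL e he).2.2.1) (fun e he => (hbadL e he).2.2.2) n2)
      (step c' b' hcA' hbA' (by rw [f_comm]; exact hl2) hQc' hQb' (fun e he => (hbadL e he).2.2.2)
        (fun e he => (hbadL e he).2.2.1) fun e he h => n2 e he h.symm))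
  exact rat_of_values hb (fun g hg s hs => hb.A_map hg hs) hbA hbA.1 fun s hs t ht => hLf s t (hall s hs) (hall t ht)

end CfsgLib.CMax.SpFourRes
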