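import Cfsg.Agent.Lib.CMax.SpFourRes.Forms
import Cfsg.Agent.Lib.CIT.PslModel

/-!
# `SL(2, 2^k)` acting irreducibly in dimension four preserving an alternating form

It fixes a quadratic form; for the field with four elements the elements `u(s) w` have equal traces.
-/

set_option autoImplicit false
set_option linter.all false

namespace CfsgLib.CMax.SpFourRes.L2

open Matrix Cfsg.Lie

variable {K : Type*} [Field K] [CharP K 2] {L : Type} [Field L] [CharP L 2]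

local notation "V" => Fin 4 → K
local notation "SL" => Matrix.SpecialLinearGroup (Fin 2) L
local notation:100 g:100 " ⬝ₐ " v:101 => (Units.val g : Matrix (Fin 4) (Fin 4) K) *ᵥ v

theorem l2_two : (2 : L) = 0 := CharTwo.two_eq_zero

/-- Upper unitriangular elements. -/
def u (s : L) : Matrix.SpecialLinearGroup (Fin 2) L := ⟨!![1, s; 0, 1], by simp [Matrix.det_fin_two_of]⟩

/-- Diagonal elements. -/
def t (k : Lˣ) : Matrix.SpecialLinearGroup (Fin 2) L :=
  ⟨!![(k : L), 0; 0, ((k⁻¹ : Lˣ) : L)], by simp [Matrix.det_fin_two_of]⟩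

/-- The Weyl element. -/
def w : Matrix.SpecialLinearGroup (Fin 2) L :=
  ⟨!![0, 1; 1, 0], by rw [Matrix.det_fin_two_of]; linear_combination -(l2_two (L := L))⟩

theorem u_add (s s' : L) : u s * u s' = u (s + s') :=
  Subtype.ext (by rw [Matrix.SpecialLinearGroup.coe_mul]; simp [u, Matrix.mul_fin_two, add_comm])

theorem u_zero : u (0 : L) = 1 := Subtype.ext (by simp [u, Matrix.one_fin_two])

theorem t_mul (k k' : Lˣ) : t k * t k' = t (k * k') :=
  Subtype.ext (by rw [Matrix.SpecialLinearGroup.coe_mul]; simp [t, Matrix.mul_fin_two, mul_comm])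

theorem t_one : t (1 : Lˣ) = 1 := Subtype.ext (by simp [t, Matrix.one_fin_two])

theorem t_u (k : Lˣ) (s : L) : u ((k : L) * k * s) * t k = t k * u s := by
  refine Subtype.ext ?_
  rw [Matrix.SpecialLinearGroup.coe_mul, Matrix.SpecialLinearGroup.coe_mul]
  simp [u, t, Matrix.mul_fin_two]
  field_simp

theorem w_t (k : Lˣ) : w * t k⁻¹ = t k * w :=
  Subtype.ext (by rw [Matrix.SpecialLinearGroup.coe_mul, Matrix.SpecialLinearGroup.coe_mul]
                  simp [w, t, Matrix.mul_fin_two])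

theorem w_sq : w * w = (1 : SL) :=
  Subtype.ext (by rw [Matrix.SpecialLinearGroup.coe_mul]; simp [w, Matrix.mul_fin_two, Matrix.one_fin_two])

theorem trick : u (1 : L) * w * u 1 = w * u 1 * w :=
  Subtype.ext (by
    simp only [Matrix.SpecialLinearGroup.coe_mul]
    simp [u, w, Matrix.mul_fin_two]
    linear_combination (l2_two (L := L)))

/-- Generation. -/
theorem induction {p : SL → Prop} (hm : ∀ g h, p g → p h → p (g * h)) (hu : ∀ s, p (u s)) (ht : ∀ k, p (t k))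
    (hw : p w) (g : SL) : p g := by
  obtain ⟨a, b, c, d, hg⟩ : ∃ a b c d, g.1 = !![a, b; c, d] := ⟨_, _, _, _, Matrix.eta_fin_two g.1⟩
  have hd : a * d - b * c = 1 := by rw [← Matrix.det_fin_two_of, ← hg]; exact g.2
  by_cases hc : c = 0
  · subst hc
    have ha : a ≠ 0 := fun h => by rw [h] at hd; simp at hd
    have : g = t (Units.mk0 a ha) * u (b / a) := Subtype.ext (by
      rw [Matrix.SpecialLinearGroup.coe_mul, hg]
      simp [t, u, Matrix.mul_fin_two, mul_div_cancel₀ _ ha]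
      field_simp
      linear_combination hd)
    exact this ▸ hm _ _ (ht _) (hu _)
  · have : g = u (a / c) * w * t (Units.mk0 c hc) * u (d / c) := Subtype.ext (by
      simp only [Matrix.SpecialLinearGroup.coe_mul]
      rw [hg]
      simp [t, u, w, Matrix.mul_fin_two, mul_div_cancel₀ _ hc, div_mul_cancel₀ _ hc]
      field_simp
      linear_combination -hd - (l2_two (L := L)))
    exact this ▸ hm _ _ (hm _ _ (hm _ _ (hu _) hw) (ht _)) (hu _)

variable (ρ : Matrix.SpecialLinearGroup (Fin 2) L →* GL (Fin 4) K)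

/-- A symplectic basis adapted to the Borel subgroup. -/
structure Fr where
  p : Fin 4 → K
  q : Fin 4 → K
  q' : Fin 4 → K
  p' : Fin 4 → K
  pq : altForm4 p q = 0
  pq' : altForm4 p q' = 0
  pp' : altForm4 p p' = 1
  qq' : altForm4 q q' = 1
  qp' : altForm4 q p' = 0
  q'p' : altForm4 q' p' = 0
  al : Lˣ → K
  be : Lˣ → K
  tp : ∀ k, ρ (t k) ⬝ₐ p = al k • p
  tq : ∀ k, ρ (t k) ⬝ₐ q = be k • q
  tq' : ∀ k, ρ (t k) ⬝ₐ q' = (be k)⁻¹ • q'
  tp' : ∀ k, ρ (t k) ⬝ₐ p' = (al k)⁻¹ • p'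
  ep : ∀ s, ρ (u s) ⬝ₐ p = p
  eq : ∀ s, ∃ c : K, ρ (u s) ⬝ₐ q = q + c • p

/-- The standing hypotheses. -/
structure Hyp : Prop where
  sp : ∀ g, ρ g ∈ Sp4 K
  irr : ∀ W : Submodule K (Fin 4 → K), (∀ g, ∀ v ∈ W, ρ g ⬝ₐ v ∈ W) → W = ⊥ ∨ W = ⊤

theorem mul_v (g h : SL) (v : V) : ρ (g * h) ⬝ₐ v = ρ g ⬝ₐ (ρ h ⬝ₐ v) := by
  rw [map_mul, Units.val_mul, Matrix.mulVec_mulVec]

theorem one_v (v : V) : ρ (1 : SL) ⬝ₐ v = v := by rw [map_one, Units.val_one, Matrix.one_mulVec]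

variable {ρ}

/-- Reducibility. -/
theorem Hyp.no_inv (h : Hyp ρ) {W : Submodule K (Fin 4 → K)} {v x : Fin 4 → K} (hv : v ∈ W) (hv0 : v ≠ 0)
    (hx : ∀ y ∈ W, altForm4 y x = 0) (hx0 : x ≠ 0)
    (hu : ∀ s, ∀ y ∈ W, ρ (u s) ⬝ₐ y ∈ W) (ht : ∀ k, ∀ y ∈ W, ρ (t k) ⬝ₐ y ∈ W)
    (hw : ∀ y ∈ W, ρ w ⬝ₐ y ∈ W) : False := by
  rcases h.irr W (fun g => induction (p := fun g => ∀ y ∈ W, ρ g ⬝ₐ y ∈ W)
      (fun g k hg hk y hy => by rw [mul_v]; exact hg _ (hk _ hy)) hu ht hw g) with e | e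
  · rw [e, Submodule.mem_bot] at hv; exact hv0 hv
  · exact hx0 (eq_zero_of_f fun y => by rw [f_comm]; exact hx y (e ▸ Submodule.mem_top))

namespace Fr

variable (r : Fr ρ)

theorem expand (v : V) :
    v = altForm4 v r.p' • r.p + altForm4 v r.q' • r.q + altForm4 v r.q • r.q' + altForm4 v r.p • r.p' := by
  refine v_eq_of_add (li_frame (show altForm4 r.p r.p' ≠ 0 by rw [r.pp']; exact one_ne_zero)
    (show altForm4 r.q r.q' ≠ 0 by rw [r.qq']; exact one_ne_zero) r.pq r.pq' (by rw [f_comm]; exact r.qp')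
    (by rw [f_comm]; exact r.q'p') ⟨?_, ?_, ?_, ?_⟩) <;>
  · simp only [f_add_l, f_smul_l, f_self, r.pq, r.pq', r.pp', r.qq', r.qp', r.q'p', f_comm r.q r.p, f_comm r.q' r.p,
      f_comm r.p' r.p, f_comm r.q' r.q, f_comm r.p' r.q, f_comm r.p' r.q', mul_zero, mul_one, add_zero, zero_add,
      CharTwo.add_self_eq_zero]

theorem p_ne : r.p ≠ 0 := fun e => one_ne_zero (α := K) (by rw [← r.pp', e, f_zero_l])

theorem q_ne : r.q ≠ 0 := fun e => one_ne_zero (α := K) (by rw [← r.qq', e, f_zero_l])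

/-- Coordinates of the unipotent elements. -/
def a (s : L) : K := altForm4 (ρ (u s) ⬝ₐ r.q) r.p'
/-- Coordinates of the unipotent elements. -/
def b (s : L) : K := altForm4 (ρ (u s) ⬝ₐ r.q') r.p'
/-- Coordinates of the unipotent elements. -/
def d (s : L) : K := altForm4 (ρ (u s) ⬝ₐ r.q') r.q'
/-- Coordinates of the unipotent elements. -/
def c (s : L) : K := altForm4 (ρ (u s) ⬝ₐ r.p') r.p'

theorem e_q (s : L) : ρ (u s) ⬝ₐ r.q = r.q + r.a s • r.p := by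
  obtain ⟨c, hc⟩ := r.eq s
  rw [Fr.a, hc, f_add_l, f_smul_l, r.qp', r.pp', zero_add, mul_one]

variable (h : Hyp ρ)
include h

theorem e_q' (s : L) : ρ (u s) ⬝ₐ r.q' = r.q' + r.d s • r.q + r.b s • r.p := by
  have h1 : altForm4 (ρ (u s) ⬝ₐ r.q') r.p = 0 := by
    conv_lhs => rw [← r.ep s, sp_f (h.sp _), f_comm, r.pq']
  have h2 : altForm4 (ρ (u s) ⬝ₐ r.q') r.q = 1 := by
    have h3 := sp_f (h.sp (u s)) r.q' r.q
    rw [r.e_q, f_add_r, f_smul_r, h1, mul_zero, add_zero, f_comm r.q', r.qq'] at h3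
    exact h3
  conv_lhs => rw [r.expand (ρ (u s) ⬝ₐ r.q'), h1, h2, zero_smul, add_zero, one_smul]
  rw [Fr.b, Fr.d]
  abel

theorem e_p' (s : L) : ρ (u s) ⬝ₐ r.p' = r.p' + r.a s • r.q' + (r.b s + r.a s * r.d s) • r.q + r.c s • r.p := by
  have h1 : altForm4 (ρ (u s) ⬝ₐ r.p') r.p = 1 := by
    conv_lhs => rw [← r.ep s, sp_f (h.sp _), f_comm, r.pp']
  have h2 : altForm4 (ρ (u s) ⬝ₐ r.p') r.q = r.a s := by
    have h3 := sp_f (h.sp (u s)) r.p' r.q
    rw [r.e_q, f_add_r, f_smul_r, h1, mul_one, f_comm r.p', r.qp'] at h3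
    exact CharTwo.add_eq_zero.1 h3
  have h4 : altForm4 (ρ (u s) ⬝ₐ r.p') r.q' = r.b s + r.a s * r.d s := by
    have h3 := sp_f (h.sp (u s)) r.p' r.q'
    rw [r.e_q' h, f_add_r, f_add_r, f_smul_r, f_smul_r, h1, h2, f_comm r.p', r.q'p'] at h3
    linear_combination h3 - (r.b s + r.a s * r.d s) * (CharTwo.two_eq_zero : (2 : K) = 0)
  conv_lhs => rw [r.expand (ρ (u s) ⬝ₐ r.p'), h1, h2, h4, one_smul]
  rw [Fr.c]
  abel

theorem prod_coords (s s' : L) : r.a (s + s') = r.a s + r.a s' ∧ r.d (s + s') = r.d s + r.d s' ∧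
    r.b (s + s') = r.b s + r.b s' + r.d s' * r.a s ∧
    r.c (s + s') = r.c s + r.c s' + r.a s' * r.b s + (r.b s' + r.a s' * r.d s') * r.a s := by
  have e : ∀ v, ρ (u (s + s')) ⬝ₐ v = ρ (u s) ⬝ₐ (ρ (u s') ⬝ₐ v) := fun v => by rw [← u_add, mul_v]
  refine ⟨?_, ?_, ?_, ?_⟩
  · rw [Fr.a, e, r.e_q, Matrix.mulVec_add, Matrix.mulVec_smul, r.ep, r.e_q, f_add_l, f_add_l, f_smul_l, f_smul_l,
      r.qp', r.pp']
    ring
  · rw [Fr.d, e, r.e_q' h, Matrix.mulVec_add, Matrix.mulVec_add, Matrix.mulVec_smul, Matrix.mulVec_smul, r.ep, r.e_q,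
      r.e_q' h]
    simp only [f_add_l, f_smul_l, f_self, r.qq', r.pq']
    ring
  · rw [Fr.b, e, r.e_q' h, Matrix.mulVec_add, Matrix.mulVec_add, Matrix.mulVec_smul, Matrix.mulVec_smul, r.ep, r.e_q,
      r.e_q' h]
    simp only [f_add_l, f_smul_l, r.q'p', r.qp', r.pp']
    ring
  · rw [Fr.c, e, r.e_p' h, Matrix.mulVec_add, Matrix.mulVec_add, Matrix.mulVec_add, Matrix.mulVec_smul,
      Matrix.mulVec_smul, Matrix.mulVec_smul, r.ep, r.e_q, r.e_q' h, r.e_p' h]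
    simp only [f_add_l, f_smul_l, f_self, r.q'p', r.qp', r.pp']
    ring

theorem al_ne (k : Lˣ) : r.al k ≠ 0 := fun e => r.p_ne (by
  have := congrArg (fun v => ρ (t k⁻¹) ⬝ₐ v) (r.tp k)
  simp only [e, zero_smul, Matrix.mulVec_zero] at this
  rw [← mul_v, t_mul, inv_mul_cancel, t_one, one_v] at this
  exact this)

theorem be_ne (k : Lˣ) : r.be k ≠ 0 := fun e => r.q_ne (by
  have := congrArg (fun v => ρ (t k⁻¹) ⬝ₐ v) (r.tq k)
  simp only [e, zero_smul, Matrix.mulVec_zero] at this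
  rw [← mul_v, t_mul, inv_mul_cancel, t_one, one_v] at this
  exact this)

theorem a_t (k : Lˣ) (s : L) : r.a ((k : L) * k * s) = r.al k / r.be k * r.a s := by
  have e : ρ (u ((k : L) * k * s)) ⬝ₐ (ρ (t k) ⬝ₐ r.q) = ρ (t k) ⬝ₐ (ρ (u s) ⬝ₐ r.q) := by
    rw [← mul_v, ← mul_v, t_u]
  rw [r.tq, r.e_q s, Matrix.mulVec_smul, Matrix.mulVec_add, Matrix.mulVec_smul, r.tq, r.tp, r.e_q] at e
  have := congrArg (fun v => altForm4 v r.p') e
  simp only [f_smul_l, f_add_l, r.qp', r.pp'] at this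
  field_simp [r.be_ne h k] at this ⊢
  linear_combination this

theorem bdc_t (k : Lˣ) (s : L) : r.d ((k : L) * k * s) = r.be k * r.be k * r.d s ∧
    r.b ((k : L) * k * s) = r.al k * r.be k * r.b s ∧
    r.c ((k : L) * k * s) = r.al k * r.al k * r.c s := by
  have e1 : ρ (u ((k : L) * k * s)) ⬝ₐ (ρ (t k) ⬝ₐ r.q') = ρ (t k) ⬝ₐ (ρ (u s) ⬝ₐ r.q') := by
    rw [← mul_v, ← mul_v, t_u]
  rw [r.tq', r.e_q' h s, Matrix.mulVec_smul, Matrix.mulVec_add, Matrix.mulVec_add, Matrix.mulVec_smul,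
    Matrix.mulVec_smul, r.tq, r.tp, r.tq', r.e_q' h] at e1
  have e2 : ρ (u ((k : L) * k * s)) ⬝ₐ (ρ (t k) ⬝ₐ r.p') = ρ (t k) ⬝ₐ (ρ (u s) ⬝ₐ r.p') := by
    rw [← mul_v, ← mul_v, t_u]
  rw [r.tp', r.e_p' h s, Matrix.mulVec_smul, Matrix.mulVec_add, Matrix.mulVec_add, Matrix.mulVec_add,
    Matrix.mulVec_smul, Matrix.mulVec_smul, Matrix.mulVec_smul, r.tq, r.tp, r.tq', r.tp', r.e_p' h] at e2
  refine ⟨?_, ?_, ?_⟩
  · have := congrArg (fun v => altForm4 v r.q') e1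
    simp only [f_smul_l, f_add_l, f_self, r.qq', r.pq'] at this
    field_simp [r.be_ne h k] at this ⊢
    linear_combination this
  · have := congrArg (fun v => altForm4 v r.p') e1
    simp only [f_smul_l, f_add_l, r.qp', r.pp', r.q'p'] at this
    field_simp [r.be_ne h k] at this ⊢
    linear_combination this
  · have := congrArg (fun v => altForm4 v r.p') e2
    simp only [f_smul_l, f_add_l, f_self, r.qp', r.pp', r.q'p'] at this
    field_simp [r.al_ne h k] at this ⊢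
    linear_combination this

end Fr

/-- An additive function transformed by scalars under the squares is a multiple of a ring homomorphism. -/
theorem coord [Finite L] {f : L → K} (hadd : ∀ x y, f (x + y) = f x + f y)
    (hsq : ∀ k : Lˣ, ∃ χ : K, ∀ s, f ((k : L) * k * s) = χ * f s) (hne : ∃ s, f s ≠ 0) :
    f 1 ≠ 0 ∧ ∃ φ : L →+* K, ∀ s, f s = f 1 * φ s := by
  have key : ∀ x y : L, f (x * y) * f 1 = f x * f y := fun x y => by
    by_cases hx : x = 0
    · subst hx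
      have h0 : f 0 = 0 := by simpa using hadd 0 0
      rw [zero_mul, h0, zero_mul, zero_mul]
    · have hk : sr x ≠ 0 := fun e => hx (by rw [← sr_sq x, e, zero_pow two_ne_zero])
      obtain ⟨χ, hχ⟩ := hsq (Units.mk0 (sr x) hk)
      have e1 := hχ y
      have e2 := hχ 1
      rw [Units.val_mk0, ← pow_two, sr_sq] at e1 e2
      rw [mul_one] at e2
      rw [e1, e2]; ring
  have h1 : f 1 ≠ 0 := fun e => by
    obtain ⟨s, hs⟩ := hne
    have := key s s
    rw [e, mul_zero] at this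
    exact mul_ne_zero hs hs this.symm
  let φ : L →+* K :=
    { toFun := fun s => f s / f 1
      map_one' := div_self h1
      map_mul' := fun x y => by field_simp; linear_combination key x y
      map_zero' := by rw [show f 0 = 0 by simpa using hadd 0 0, zero_div]
      map_add' := fun x y => by rw [hadd, add_div] }
  refine ⟨h1, φ, fun s => ?_⟩
  show f s = f 1 * (f s / f 1)
  field_simp

/-- Two ring homomorphisms with product a ring homomorphism are equal. -/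
theorem hom_eq_of_mul (φ ψ χ : L →+* K) (h : ∀ x, φ x * ψ x = χ x) : φ = ψ := by
  ext x
  have h1 := h (x + 1)
  rw [map_add, map_add, map_add, map_one, map_one, map_one] at h1
  have h2 := h x
  exact CharTwo.add_eq_zero.1 (by linear_combination h1 - h2)

/-- Two ring homomorphisms with product the square of another are equal to it. -/
theorem hom_eq_of_mul_sq [PerfectRing K 2] (φ ψ χ : L →+* K) (h : ∀ x, φ x * ψ x = χ x ^ 2) : φ = ψ ∧ φ = χ := by
  have e : φ = ψ := hom_eq_of_mul φ ψ ((frobenius K 2).comp χ) fun x => by rw [h, RingHom.comp_apply, frobenius_def]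
  subst e
  exact ⟨rfl, RingHom.ext fun x => sq_inj (by rw [← h, pow_two])⟩

theorem exists_sq_ne_one [Finite L] (hL : ∃ x : L, x ≠ 0 ∧ x ≠ 1) : ∃ k : Lˣ, (k : L) * k ≠ 1 := by
  obtain ⟨x, h0, h1⟩ := hL
  exact ⟨Units.mk0 x h0, fun e => h1 (sq_eq_one (by rw [pow_two]; exact e))⟩

namespace Fr

variable (r : Fr ρ) (h : Hyp ρ)
include h

/-- The Weyl element exchanges inverse eigenspaces. -/
theorem wperp {k : Lˣ} {v x : V} {μ ν : K} (hμ : ρ (t k) ⬝ₐ v = μ • v) (hν : ρ (t k) ⬝ₐ x = ν • x)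
    (hne : μ ≠ ν) (hμ0 : μ ≠ 0) : altForm4 (ρ w ⬝ₐ v) x = 0 := by
  have hi : ρ (t k⁻¹) ⬝ₐ v = μ⁻¹ • v := by
    have := congrArg (fun y => ρ (t k⁻¹) ⬝ₐ y) hμ
    simp only [← mul_v, t_mul, inv_mul_cancel, t_one, one_v, Matrix.mulVec_smul] at this
    nth_rw 2 [this]
    rw [smul_smul, inv_mul_cancel₀ hμ0, one_smul]
  have e := sp_f (h.sp (t k)) (ρ w ⬝ₐ v) x
  rw [hν, ← mul_v, ← w_t, mul_v, hi, Matrix.mulVec_smul, f_smul_l, f_smul_r] at e
  by_contra hc
  refine hne ?_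
  field_simp at e
  linear_combination -e

theorem trick_v (v : V) : ρ (u 1) ⬝ₐ (ρ w ⬝ₐ (ρ (u 1) ⬝ₐ v)) = ρ w ⬝ₐ (ρ (u 1) ⬝ₐ (ρ w ⬝ₐ v)) := by
  rw [← mul_v, ← mul_v, ← mul_v, ← mul_v, trick]

theorem ww (v : V) : ρ w ⬝ₐ (ρ w ⬝ₐ v) = v := by rw [← mul_v, w_sq, one_v]

theorem f_w (x y : V) : altForm4 (ρ w ⬝ₐ x) y = altForm4 x (ρ w ⬝ₐ y) := by
  conv_lhs => rw [← ww h y, sp_f (h.sp _)]

/-- A plane. -/
theorem plane (hp : ∀ s, ∃ c : K, ρ (u s) ⬝ₐ (ρ w ⬝ₐ r.p) = ρ w ⬝ₐ r.p + c • r.p) : False := by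
  obtain ⟨x, hx0, hx⟩ : ∃ x : V, x ≠ 0 ∧ altForm4 r.p x = 0 ∧ altForm4 (ρ w ⬝ₐ r.p) x = 0 := by
    by_cases h0 : altForm4 (ρ w ⬝ₐ r.p) r.p = 0
    · exact ⟨r.p, r.p_ne, f_self _, h0⟩
    by_contra hc
    push Not at hc
    have hz : ∀ v : V, rest (ρ w ⬝ₐ r.p) r.p v = 0 := fun v => by
      by_contra hne
      exact hc _ hne (by rw [f_comm]; exact f_rest_right h0 v) (by rw [f_comm]; exact f_rest_left h0 v)
    have e1 := hz r.q
    have e2 := hz r.q'
    have hq : altForm4 r.q r.q' = 0 := by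
      have := f_pr_pr h0 r.q r.q'
      rw [this, e1, f_zero_l, add_zero, pr, pr]
      simp only [f_smul_l, f_smul_r, f_add_l, f_add_r, f_self, f_comm r.q r.p, r.pq, f_comm r.q' r.p, r.pq']
      ring
    exact one_ne_zero (r.qq'.symm.trans hq)
  refine h.no_inv (W := Submodule.span K {r.p, ρ w ⬝ₐ r.p}) (Submodule.subset_span (by simp)) r.p_ne
    (x := x) (fun y hy => ?_) hx0 (fun s y hy => ?_) (fun k y hy => ?_) (fun y hy => ?_)
  · induction hy using Submodule.span_induction with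
    | mem y hy => rcases hy with rfl | rfl; exacts [hx.1, hx.2]
    | zero => exact f_zero_l x
    | add a b _ _ h1 h2 => rw [f_add_l, h1, h2, add_zero]
    | smul a b _ h1 => rw [f_smul_l, h1, mul_zero]
  all_goals
    have hsub : ∀ g : SL, ρ g ⬝ₐ r.p ∈ Submodule.span K {r.p, ρ w ⬝ₐ r.p} →
        ρ g ⬝ₐ (ρ w ⬝ₐ r.p) ∈ Submodule.span K {r.p, ρ w ⬝ₐ r.p} →
        ∀ y ∈ Submodule.span K {r.p, ρ w ⬝ₐ r.p}, ρ g ⬝ₐ y ∈ Submodule.span K {r.p, ρ w ⬝ₐ r.p} := by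
      intro g h1 h2 y hy
      induction hy using Submodule.span_induction with
      | mem y hy => rcases hy with rfl | rfl; exacts [h1, h2]
      | zero => rw [Matrix.mulVec_zero]; exact zero_mem _
      | add a b _ _ e1 e2 => rw [Matrix.mulVec_add]; exact add_mem e1 e2
      | smul a b _ e1 => rw [Matrix.mulVec_smul]; exact Submodule.smul_mem _ a e1
  · refine hsub _ (by rw [r.ep]; exact Submodule.subset_span (by simp)) ?_ y hy
    obtain ⟨c, hc⟩ := hp s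
    rw [hc]
    exact add_mem (Submodule.subset_span (by simp)) (Submodule.smul_mem _ _ (Submodule.subset_span (by simp)))
  · refine hsub _ (by rw [r.tp]; exact Submodule.smul_mem _ _ (Submodule.subset_span (by simp))) ?_ y hy
    rw [← mul_v, ← w_t, mul_v, r.tp, Matrix.mulVec_smul]
    exact Submodule.smul_mem _ _ (Submodule.subset_span (by simp))
  · exact hsub _ (Submodule.subset_span (by simp)) (by rw [ww h]; exact Submodule.subset_span (by simp)) y hy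

/-- All unipotent elements fix the space perpendicular to the point. -/
theorem no_zero (ha : ∀ s, r.a s = 0) (hb : ∀ s, r.b s = 0) (hd : ∀ s, r.d s = 0) : False :=
  r.plane h fun s => ⟨altForm4 (ρ w ⬝ₐ r.p) r.p * r.c s, by
    conv_lhs => rw [r.expand (ρ w ⬝ₐ r.p)]
    conv_rhs => arg 1; rw [r.expand (ρ w ⬝ₐ r.p)]
    simp only [Matrix.mulVec_add, Matrix.mulVec_smul, r.ep, r.e_q, r.e_q' h, r.e_p' h, ha, hb, hd, zero_smul,
      mul_zero, add_zero, zero_mul, smul_add, smul_smul]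
    abel⟩

/-- The same scalar on the isotropic plane. -/
theorem no_scalar {k₀ : Lˣ} (hα : r.al k₀ = r.be k₀) (hα1 : r.al k₀ ≠ 1) (ha : ∀ s, r.a s = 0)
    (hm : ∃ φ : L → K, ∀ s, r.b s = φ s * r.b 1 ∧ r.c s = φ s * r.c 1 ∧ r.d s = φ s * r.d 1) : False := by
  haveI : IsReduced K := inferInstance
  have hne : (r.al k₀)⁻¹ ≠ r.al k₀ := fun e => by
    have e' : r.al k₀ * r.al k₀ = 1 := by nth_rw 1 [← e]; exact inv_mul_cancel₀ (r.al_ne h k₀)
    rcases mul_self_eq_one_iff.1 e' with e'' | e''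
    · exact hα1 e''
    · exact hα1 (e''.trans (CharTwo.neg_eq 1))
  have h1 : altForm4 (ρ w ⬝ₐ r.p) r.p' = 0 := wperp h (r.tp k₀) (r.tp' k₀) (Ne.symm hne) (r.al_ne h k₀)
  have h2 : altForm4 (ρ w ⬝ₐ r.p) r.q' = 0 := wperp h (r.tp k₀) (r.tq' k₀) (hα ▸ Ne.symm hne) (r.al_ne h k₀)
  have h3 : altForm4 (ρ w ⬝ₐ r.q) r.p' = 0 := wperp h (r.tq k₀) (r.tp' k₀) (hα ▸ Ne.symm hne) (r.be_ne h k₀)
  have h4 : altForm4 (ρ w ⬝ₐ r.q) r.q' = 0 :=
    wperp h (r.tq k₀) (r.tq' k₀) (hα ▸ Ne.symm hne) (r.be_ne h k₀)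
  obtain ⟨γ, hγ⟩ : ∃ γ, γ = altForm4 (ρ w ⬝ₐ r.p) r.p := ⟨_, rfl⟩
  obtain ⟨δ, hδ⟩ : ∃ δ, δ = altForm4 (ρ w ⬝ₐ r.p) r.q := ⟨_, rfl⟩
  have hwp : ρ w ⬝ₐ r.p = δ • r.q' + γ • r.p' := by
    conv_lhs => rw [r.expand (ρ w ⬝ₐ r.p), h1, h2, ← hγ, ← hδ, zero_smul, zero_smul, zero_add, zero_add]
  have he : ∀ s, ρ (u s) ⬝ₐ (ρ w ⬝ₐ r.p) =
      ρ w ⬝ₐ r.p + (δ * r.b s + γ * r.c s) • r.p + (δ * r.d s + γ * r.b s) • r.q := fun s => by
    rw [hwp, Matrix.mulVec_add, Matrix.mulVec_smul, Matrix.mulVec_smul, r.e_q' h, r.e_p' h, ha]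
    simp only [zero_smul, zero_mul, add_zero, smul_add, smul_smul, add_smul]
    abel
  have key := trick_v h r.p
  rw [r.ep, he 1, Matrix.mulVec_add, Matrix.mulVec_add, Matrix.mulVec_smul, Matrix.mulVec_smul, ww h] at key
  have k1 := congrArg (fun v => altForm4 v r.p') key
  have k2 := congrArg (fun v => altForm4 v r.q') key
  simp only [f_add_l, f_smul_l, h1, h2, h3, h4, r.pp', r.qp', f_self, r.qq', r.pq', mul_one, mul_zero, add_zero,
    zero_add] at k1 k2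
  obtain ⟨φ, hφ⟩ := hm
  refine r.plane h fun s => ⟨φ s, ?_⟩
  obtain ⟨eb, ec, ed⟩ := hφ s
  rw [he s]
  have z1 : δ * r.b s + γ * r.c s = φ s := by
    rw [eb, ec]; linear_combination (φ s) * k1
  have z2 : δ * r.d s + γ * r.b s = 0 := by
    rw [eb, ed]; linear_combination (φ s) * k2
  rw [z1, z2, zero_smul, add_zero]

/-- One coordinate. -/
theorem no_one [Finite L] [PerfectRing K 2] (hL : ∃ x : L, x ≠ 0 ∧ x ≠ 1) (ha : ∀ s, r.a s = 0)
    (hd : ∀ s, r.d s = 0) : False := by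
  by_cases hb0 : ∀ s, r.b s = 0
  · exact r.no_zero h ha hb0 hd
  push Not at hb0
  obtain ⟨k, hk⟩ := exists_sq_ne_one hL
  obtain ⟨hB, φ, hφ⟩ := coord (fun x y => by rw [(r.prod_coords h x y).2.2.1, ha, mul_zero, add_zero])
    (fun k => ⟨_, fun s => (r.bdc_t h k s).2.1⟩) hb0
  have hχb : r.al k * r.be k ≠ 1 := fun e => by
    have h1 := (r.bdc_t h k 1).2.1
    rw [e, one_mul, mul_one, hφ] at h1
    nth_rw 2 [← mul_one (r.b 1)] at h1
    rw [← map_one φ] at h1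
    exact hk (φ.injective (mul_left_cancel₀ hB h1))
  have hα0 := r.al_ne h k
  have hβ0 := r.be_ne h k
  have hβα : r.be k ≠ (r.al k)⁻¹ := fun e => hχb (by rw [e, mul_inv_cancel₀ hα0])
  have hαβ : r.al k ≠ (r.be k)⁻¹ := fun e => hχb (by rw [e, inv_mul_cancel₀ hβ0])
  have inv_ne : ∀ {μ : K}, μ ≠ 0 → μ ≠ 1 → μ ≠ μ⁻¹ := fun {μ} h0 h1 e => by
    have e' : μ ^ 2 = 1 := by rw [pow_two]; nth_rw 2 [e]; exact mul_inv_cancel₀ h0
    exact h1 (sq_eq_one e')
  by_cases hβ1 : r.be k = 1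
  · have hα1 : r.al k ≠ 1 := fun e => hχb (by rw [e, hβ1, one_mul])
    have h1 : altForm4 (ρ w ⬝ₐ r.p) r.p' = 0 := wperp h (r.tp k) (r.tp' k) (inv_ne hα0 hα1) hα0
    have h2 : altForm4 (ρ w ⬝ₐ r.p) r.q = 0 := wperp h (r.tp k) (r.tq k) (by rw [hβ1]; exact hα1) hα0
    have h3 : altForm4 (ρ w ⬝ₐ r.p) r.q' = 0 :=
      wperp h (r.tp k) (r.tq' k) (by rw [hβ1, _root_.inv_one]; exact hα1) hα0
    have h4 : altForm4 (ρ w ⬝ₐ r.q) r.p = 0 := by rw [f_w h, f_comm]; exact h2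
    have h5 : altForm4 (ρ w ⬝ₐ r.q) r.p' = 0 := by
      exact wperp h (r.tq k) (r.tp' k) (by rw [hβ1]; exact fun e => hα1 (inv_eq_one.1 e.symm)) hβ0
    obtain ⟨γ, hγ⟩ : ∃ γ, γ = altForm4 (ρ w ⬝ₐ r.p) r.p := ⟨_, rfl⟩
    have hwp : ρ w ⬝ₐ r.p = γ • r.p' := by
      conv_lhs => rw [r.expand (ρ w ⬝ₐ r.p), h1, h2, h3, ← hγ, zero_smul, zero_smul, zero_smul, zero_add, zero_add,
        zero_add]
    have hγ0 : γ ≠ 0 := fun e => mulVec_ne (g := ρ w) r.p_ne (by rw [hwp, e, zero_smul])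
    have key := trick_v h r.p
    rw [r.ep, hwp, Matrix.mulVec_smul, Matrix.mulVec_smul, r.e_p' h, ha, hd] at key
    simp only [zero_smul, mul_zero, add_zero, Matrix.mulVec_add, Matrix.mulVec_smul, smul_add, hwp] at key
    have hwp' : ρ w ⬝ₐ r.p' = γ⁻¹ • r.p := by
      have := congrArg (fun v => γ⁻¹ • ρ w ⬝ₐ v) hwp
      simp only [ww h, Matrix.mulVec_smul, smul_smul, inv_mul_cancel₀ hγ0, one_smul] at this
      exact this.symm
    rw [hwp'] at key
    have k2 := congrArg (fun v => altForm4 v r.q') key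
    have k3 := congrArg (fun v => altForm4 v r.q) key
    simp only [f_add_l, f_smul_l, r.qq', r.pq', r.pq, f_self, f_comm r.p' r.q', r.q'p', f_comm r.p' r.q, r.qp',
      mul_one, mul_zero, add_zero, zero_add] at k2 k3
    have hwq : ρ w ⬝ₐ r.q = r.q := by
      have e1 : altForm4 (ρ w ⬝ₐ r.q) r.q' = 1 :=
        mul_left_cancel₀ (mul_ne_zero hγ0 hB) (by linear_combination -k2)
      have e2 : altForm4 (ρ w ⬝ₐ r.q) r.q = 0 :=
        (mul_eq_zero.1 (show γ * r.b 1 * altForm4 (ρ w ⬝ₐ r.q) r.q = 0 by linear_combination -k3)).resolve_left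
          (mul_ne_zero hγ0 hB)
      conv_lhs => rw [r.expand (ρ w ⬝ₐ r.q), h4, h5, e1, e2, one_smul, zero_smul, zero_smul, zero_smul, zero_add,
        add_zero, add_zero]
    refine h.no_inv (W := Submodule.span K {r.q}) (Submodule.subset_span rfl) r.q_ne (x := r.q)
      (fun y hy => ?_) r.q_ne (fun s y hy => ?_) (fun k' y hy => ?_) (fun y hy => ?_) <;>
      obtain ⟨c', rfl⟩ := Submodule.mem_span_singleton.1 hy
    · rw [f_smul_l, f_self, mul_zero]
    · rw [Matrix.mulVec_smul, r.e_q, ha, zero_smul, add_zero]; exact hy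
    · rw [Matrix.mulVec_smul, r.tq]; exact Submodule.smul_mem _ _ (Submodule.smul_mem _ _ (Submodule.subset_span rfl))
    · rw [Matrix.mulVec_smul, hwq]; exact hy
  · have h1 : altForm4 (ρ w ⬝ₐ r.q) r.q' = 0 := wperp h (r.tq k) (r.tq' k) (inv_ne hβ0 hβ1) hβ0
    have h2 : altForm4 (ρ w ⬝ₐ r.q) r.p' = 0 := wperp h (r.tq k) (r.tp' k) hβα hβ0
    have h3 : altForm4 (ρ w ⬝ₐ r.p) r.q' = 0 := wperp h (r.tp k) (r.tq' k) hαβ hα0
    obtain ⟨δ, hδ⟩ : ∃ δ, δ = altForm4 (ρ w ⬝ₐ r.q) r.q := ⟨_, rfl⟩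
    obtain ⟨ε, hε⟩ : ∃ ε, ε = altForm4 (ρ w ⬝ₐ r.q) r.p := ⟨_, rfl⟩
    have hwq : ρ w ⬝ₐ r.q = δ • r.q' + ε • r.p' := by
      conv_lhs => rw [r.expand (ρ w ⬝ₐ r.q), h1, h2, ← hδ, ← hε, zero_smul, zero_smul, zero_add, zero_add]
    have key := trick_v h r.q
    rw [r.e_q, ha, zero_smul, add_zero] at key
    have he : ρ (u 1) ⬝ₐ (ρ w ⬝ₐ r.q) =
        ρ w ⬝ₐ r.q + (δ * r.b 1 + ε * r.c 1) • r.p + (ε * r.b 1) • r.q := by
      rw [hwq, Matrix.mulVec_add, Matrix.mulVec_smul, Matrix.mulVec_smul, r.e_q' h, r.e_p' h, ha, hd]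
      simp only [zero_smul, zero_mul, add_zero, smul_add, smul_smul, add_smul]
      abel
    rw [he, Matrix.mulVec_add, Matrix.mulVec_add, Matrix.mulVec_smul, Matrix.mulVec_smul, ww h] at key
    have k1 := congrArg (fun v => altForm4 v r.q') key
    simp only [f_add_l, f_smul_l, h1, h3, r.qq', r.pq', mul_zero, add_zero, zero_add, mul_one] at k1
    have hε0 : ε ≠ 0 := fun e => by rw [e, zero_mul] at k1; exact zero_ne_one k1
    have hαeq : r.al k = r.be k := by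
      by_contra hne
      exact hε0 (hε ▸ wperp h (r.tq k) (r.tp k) (Ne.symm hne) hβ0)
    have hα1 : r.al k ≠ 1 := hαeq ▸ hβ1
    refine r.no_scalar h hαeq hα1 ha ?_
    by_cases hc0 : ∀ s, r.c s = 0
    · exact ⟨φ, fun s => ⟨by rw [hφ s]; ring, by rw [hc0, hc0]; ring, by rw [hd, hd]; ring⟩⟩
    push Not at hc0
    obtain ⟨hC, ψ, hψ⟩ := coord (f := r.c) (fun x y => by rw [(r.prod_coords h x y).2.2.2, ha, ha]; ring)
      (fun k => ⟨_, fun s => (r.bdc_t h k s).2.2⟩) hc0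
    refine ⟨φ, fun s => ⟨by rw [hφ s]; ring, ?_, by rw [hd, hd]; ring⟩⟩
    suffices ψ s = φ s by rw [hψ s, this]; ring
    by_cases hs : s = 0
    · rw [hs, map_zero, map_zero]
    have hs' : sr s ≠ 0 := fun e => hs (by rw [← sr_sq s, e, zero_pow two_ne_zero])
    have all : ∀ k' : Lˣ, r.al k' = r.be k' ∨ φ ((k' : L) * k') = 1 := fun k' => by
      by_cases hb1 : r.be k' = r.al k'
      · exact Or.inl hb1.symm
      · refine Or.inr ?_
        exfalso
        exact hε0 (hε ▸ wperp h (r.tq k') (r.tp k') hb1 (r.be_ne h k'))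
    have e1 := (r.bdc_t h (Units.mk0 (sr s) hs') 1).2.1
    have e2 := (r.bdc_t h (Units.mk0 (sr s) hs') 1).2.2
    rw [mul_one, Units.val_mk0, ← pow_two, sr_sq, hφ s] at e1
    rw [mul_one, Units.val_mk0, ← pow_two, sr_sq, hψ s] at e2
    rcases all (Units.mk0 (sr s) hs') with hl | hl
    · rw [← hl] at e1
      have a1 : ψ s = r.al (Units.mk0 (sr s) hs') * r.al (Units.mk0 (sr s) hs') :=
        mul_left_cancel₀ hC (by linear_combination e2)
      have a2 : φ s = r.al (Units.mk0 (sr s) hs') * r.al (Units.mk0 (sr s) hs') :=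
        mul_left_cancel₀ hB (by linear_combination e1)
      exact a1.trans a2.symm
    · rw [Units.val_mk0, ← pow_two, sr_sq] at hl
      have : s = 1 := φ.injective (hl.trans (map_one φ).symm)
      rw [this, map_one, map_one]

/-- The vanishing of one coordinate of a type. -/
theorem a_or_d : (∀ s, r.a s = 0) ∨ ∀ s, r.d s = 0 := by
  by_cases hd : ∀ s, r.d s = 0
  · exact Or.inr hd
  push Not at hd
  obtain ⟨s₀, hs₀⟩ := hd
  have key : ∀ s s', r.d s' * r.a s = 0 := by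
    have h0 : ∀ s, r.d s * r.a s = 0 := fun s => by
      have e := (r.prod_coords h s s).2.2.1
      have z : r.b (0 : L) = 0 := by rw [Fr.b, u_zero, one_v, r.q'p']
      rw [CharTwo.add_self_eq_zero, z, CharTwo.add_self_eq_zero, zero_add] at e
      exact e.symm
    intro s s'
    have e1 := (r.prod_coords h s s').2.2.1
    have e2 := (r.prod_coords h s' s).2.2.1
    rw [add_comm s' s, e1] at e2
    have e3 := h0 (s + s')
    rw [(r.prod_coords h s s').1, (r.prod_coords h s s').2.1] at e3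
    have e4 := h0 s
    have e5 := h0 s'
    by_contra hne
    rcases mul_ne_zero_iff.1 hne with ⟨n1, n2⟩
    have a' : r.a s' = 0 := (mul_eq_zero.1 e5).resolve_left n1
    rw [a'] at e3
    have d' : r.d s = 0 := (mul_eq_zero.1 e4).resolve_right n2
    rw [d', zero_add, add_zero] at e3
    exact hne e3
  exact Or.inl fun s => (mul_eq_zero.1 (key s s₀)).resolve_left hs₀

end Fr

end CfsgLib.CMax.SpFourRes.L2
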