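import Cfsg.Agent.Lib.CMax.SpFourRes.L2

/-!
# A basis adapted to the Borel subgroup of `SL(2, 2^k)`
-/

set_option autoImplicit false
set_option linter.all false

namespace CfsgLib.CMax.SpFourRes.L2

open Matrix Cfsg.Lie

variable {K : Type*} [Field K] [CharP K 2] [IsAlgClosed K] {L : Type} [Field L] [CharP L 2] [Finite L]
  {ρ : Matrix.SpecialLinearGroup (Fin 2) L →* GL (Fin 4) K}

local notation:100 g:100 " ⬝ₐ " v:101 => (Units.val g : Matrix (Fin 4) (Fin 4) K) *ᵥ v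

/-- Fixed vectors of the unipotent elements outside a subspace they centralise. -/
theorem fix_mod (N M : Submodule K (Fin 4 → K)) (hM : ∀ s, ∀ v ∈ M, ρ (u s) ⬝ₐ v ∈ M)
    (hN : ∀ s, ∀ v ∈ N, ρ (u s) ⬝ₐ v = v) {v₀ : Fin 4 → K} (hv₀ : v₀ ∈ M) (hv₀' : v₀ ∉ N) :
    ∃ v ∈ M, v ∉ N ∧ ∀ s : L, ρ (u s) ⬝ₐ v + v ∈ N := by
  classical
  letI := Fintype.ofFinite L
  suffices ∀ S : Finset L, ∃ v ∈ M, v ∉ N ∧ ∀ s ∈ S, ρ (u s) ⬝ₐ v + v ∈ N by
    obtain ⟨v, h1, h2, h3⟩ := this Finset.univ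
    exact ⟨v, h1, h2, fun s => h3 s (Finset.mem_univ s)⟩
  intro S
  induction S using Finset.induction_on with
  | empty => exact ⟨v₀, hv₀, hv₀', fun s hs => absurd hs (Finset.notMem_empty s)⟩
  | insert e S _ ih =>
    obtain ⟨v, hv, hvN, hvS⟩ := ih
    by_cases he : ρ (u e) ⬝ₐ v + v ∈ N
    · exact ⟨v, hv, hvN, fun s hs => (Finset.mem_insert.1 hs).elim (fun h => h ▸ he) (hvS s)⟩
    refine ⟨ρ (u e) ⬝ₐ v + v, M.add_mem (hM e v hv) hv, he, fun s hs => ?_⟩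
    rcases Finset.mem_insert.1 hs with rfl | hs
    · rw [Matrix.mulVec_add, ← mul_v, u_add, CharTwo.add_self_eq_zero, u_zero, one_v, add_comm v (ρ (u s) ⬝ₐ v),
        v_add_self]
      exact N.zero_mem
    · have h1 := hvS s hs
      have h2 := hN e _ h1
      rw [Matrix.mulVec_add, ← mul_v, u_add] at h2
      rw [Matrix.mulVec_add, ← mul_v, u_add]
      have h3 : ρ (u (s + e)) ⬝ₐ v + ρ (u s) ⬝ₐ v + (ρ (u e) ⬝ₐ v + v) =
          (ρ (u (e + s)) ⬝ₐ v + ρ (u e) ⬝ₐ v) + (ρ (u s) ⬝ₐ v + v) := by rw [add_comm s e]; abel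
      rw [h3, h2, v_add_self]
      exact N.zero_mem

theorem t_pow (k : Lˣ) (n : ℕ) : t k ^ n = t (k ^ n) := by
  induction n with
  | zero => rw [pow_zero, pow_zero, t_one]
  | succ n ih => rw [pow_succ, ih, t_mul, pow_succ]

/-- An eigenvector in an invariant subspace outside another. -/
theorem eig_in {k : Lˣ} {N M : Submodule K (Fin 4 → K)} (hM : ∀ v ∈ M, ρ (t k) ⬝ₐ v ∈ M) {v₀ : Fin 4 → K}
    (hv₀ : v₀ ∈ M) (hv₀' : v₀ ∉ N) : ∃ (v : Fin 4 → K) (μ : K), v ∈ M ∧ v ∉ N ∧ ρ (t k) ⬝ₐ v = μ • v := by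
  classical
  let f : Module.End K (Fin 4 → K) := Matrix.toLin' (ρ (t k) : Matrix (Fin 4) (Fin 4) K)
  letI := Fintype.ofFinite L
  have hn : Odd (Fintype.card Lˣ) := by
    rw [Fintype.card_units]
    have h1 : Fintype.card L ≠ 0 := Fintype.card_ne_zero
    have h2 : 2 ∣ Fintype.card L := by
      obtain ⟨n, -, hn⟩ := FiniteField.card L 2
      rw [hn]; exact dvd_pow_self 2 n.pos.ne'
    rw [Nat.odd_iff]; omega
  have hn0 : ((Fintype.card Lˣ : ℕ) : K) ≠ 0 := by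
    obtain ⟨m, hm⟩ := hn
    rw [hm]; push_cast
    rw [CharTwo.two_eq_zero, zero_mul, zero_add]
    exact one_ne_zero
  have hf : f ^ Fintype.card Lˣ = 1 := by
    have e : (ρ (t k) : Matrix (Fin 4) (Fin 4) K) ^ Fintype.card Lˣ = 1 := by
      rw [← Units.val_pow_eq_pow_val, ← map_pow, t_pow, pow_card_eq_one, t_one, map_one, Units.val_one]
    rw [show f = Matrix.toLinAlgEquiv' (ρ (t k) : Matrix (Fin 4) (Fin 4) K) from rfl, ← map_pow, e, map_one]
  have hss : f.IsSemisimple := by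
    refine Module.End.isSemisimple_of_squarefree_aeval_eq_zero
      (Polynomial.separable_X_pow_sub_C (1 : K) hn0 one_ne_zero).squarefree ?_
    rw [map_sub, map_pow, Polynomial.aeval_X, Polynomial.aeval_C, hf, map_one, sub_self]
  have htop : ⨆ μ, f.genEigenspace μ 1 = ⊤ := hss.iSup_eigenspace_eq_top
  have hdec : M = ⨆ μ, M ⊓ f.genEigenspace μ 1 := by
    rw [← Submodule.inf_iSup_genEigenspace (p := M) (fun x hx => hM x hx) 1, htop, inf_top_eq]
  by_contra hcon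
  push Not at hcon
  refine hv₀' ((iSup_le fun μ v hv => ?_ : ⨆ μ, M ⊓ f.genEigenspace μ 1 ≤ N) (hdec ▸ hv₀))
  by_contra hvN
  exact hcon v μ hv.1 hvN (Module.End.mem_eigenspace_iff.1 hv.2)

theorem eig_mul (h : Hyp ρ) {k : Lˣ} {v x : Fin 4 → K} {μ ν : K} (hv : ρ (t k) ⬝ₐ v = μ • v)
    (hx : ρ (t k) ⬝ₐ x = ν • x) (hne : altForm4 v x ≠ 0) : μ * ν = 1 := by
  have e := sp_f (h.sp (t k)) v x
  rw [hv, hx, f_smul_l, f_smul_r, ← mul_assoc] at e
  exact mul_right_cancel₀ hne (by rw [e, one_mul])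

theorem eig_nonperp {k : Lˣ} {v : Fin 4 → K} (hv : v ≠ 0) :
    ∃ (x : Fin 4 → K) (μ : K), altForm4 v x ≠ 0 ∧ ρ (t k) ⬝ₐ x = μ • x := by
  obtain ⟨y, hy⟩ : ∃ y, altForm4 v y ≠ 0 := by
    by_contra hc; push Not at hc; exact hv (eq_zero_of_f hc)
  obtain ⟨x, μ, -, hxN, hx⟩ := eig_in (ρ := ρ) (k := k) (N := LinearMap.ker (fL v))
    (M := ⊤) (fun _ _ => trivial) (v₀ := y) trivial (fun h => hy (by
      rw [LinearMap.mem_ker, fL_apply, f_comm] at h; exact h))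
  exact ⟨x, μ, fun h => hxN (by rw [LinearMap.mem_ker, fL_apply, f_comm]; exact h), hx⟩

/-- The adapted basis. -/
theorem exists_fr (h : Hyp ρ) : Nonempty (Fr ρ) := by
  classical
  letI := Fintype.ofFinite L
  obtain ⟨κ, hκ⟩ := IsCyclic.exists_generator (α := Lˣ)
  have conjT : ∀ (k : Lˣ) (s : L) (v : Fin 4 → K),
      ρ (u s) ⬝ₐ (ρ (t k) ⬝ₐ v) = ρ (t k) ⬝ₐ (ρ (u (((k⁻¹ : Lˣ) : L) * ((k⁻¹ : Lˣ) : L) * s)) ⬝ₐ v) := by
    intro k s v
    have hks : (k : L) * k * (((k⁻¹ : Lˣ) : L) * ((k⁻¹ : Lˣ) : L) * s) = s := by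
      rw [mul_assoc ((k⁻¹ : Lˣ) : L), show (k : L) * k * (((k⁻¹ : Lˣ) : L) * (((k⁻¹ : Lˣ) : L) * s)) =
        (k : L) * ((k⁻¹ : Lˣ) : L) * ((k : L) * ((k⁻¹ : Lˣ) : L)) * s by ring, Units.mul_inv, one_mul, one_mul]
    rw [← mul_v, ← mul_v, ← t_u, hks]
  -- the point
  let M1 : Submodule K (Fin 4 → K) :=
    { carrier := {v | ∀ s, ρ (u s) ⬝ₐ v = v}
      zero_mem' := fun s => Matrix.mulVec_zero _
      add_mem' := fun {a b} ha hb s => by rw [Matrix.mulVec_add, ha s, hb s]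
      smul_mem' := fun c {a} ha s => by rw [Matrix.mulVec_smul, ha s] }
  obtain ⟨v₁, -, hv₁, hv₁'⟩ := fix_mod (ρ := ρ) ⊥ ⊤ (fun _ _ _ => trivial)
    (fun s v hv => by rw [Submodule.mem_bot] at hv; rw [hv, Matrix.mulVec_zero])
    (v₀ := Pi.single 0 1) trivial (by simp)
  obtain ⟨p, α, hpM, hp0, hp⟩ := eig_in (ρ := ρ) (k := κ) (N := ⊥) (M := M1)
    (fun v hv s => by rw [conjT, hv]) (v₀ := v₁)
    (fun s => v_eq_of_add (by simpa using hv₁' s)) hv₁
  rw [Submodule.mem_bot] at hp0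
  -- the line
  let M2 : Submodule K (Fin 4 → K) :=
    { carrier := {v | altForm4 v p = 0 ∧ ∀ s, ρ (u s) ⬝ₐ v + v ∈ Submodule.span K {p}}
      zero_mem' := ⟨f_zero_l p, fun s => by rw [Matrix.mulVec_zero, add_zero]; exact zero_mem _⟩
      add_mem' := fun {a b} ha hb => ⟨by rw [f_add_l, ha.1, hb.1, add_zero], fun s => by
        rw [Matrix.mulVec_add, add_add_add_comm]; exact add_mem (ha.2 s) (hb.2 s)⟩
      smul_mem' := fun c {a} ha => ⟨by rw [f_smul_l, ha.1, mul_zero], fun s => by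
        rw [Matrix.mulVec_smul, ← smul_add]; exact Submodule.smul_mem _ c (ha.2 s)⟩ }
  have hperp : ∀ g : Matrix.SpecialLinearGroup (Fin 2) L, (∃ μ : K, ρ g ⬝ₐ p = μ • p) →
      ∀ v, altForm4 v p = 0 → altForm4 (ρ g ⬝ₐ v) p = 0 := by
    rintro g ⟨μ, hμ⟩ v hv
    have e := sp_f (h.sp g) v p
    rw [hμ, hv, f_smul_r, mul_eq_zero] at e
    refine e.resolve_left fun e0 => mulVec_ne (g := ρ g) hp0 (by rw [hμ, e0, zero_smul])
  obtain ⟨z, hz0, hzp, hzP⟩ : ∃ z : Fin 4 → K, z ≠ 0 ∧ altForm4 z p = 0 ∧ z ∉ Submodule.span K {p} := by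
    obtain ⟨x, hx⟩ : ∃ x, altForm4 p x ≠ 0 := by
      by_contra hc; push Not at hc; exact hp0 (eq_zero_of_f hc)
    obtain ⟨i, hi⟩ : ∃ i, rest p x (Pi.single i 1) ≠ 0 := by
      by_contra hc
      push Not at hc
      have hle : (⊤ : Submodule K (Fin 4 → K)) ≤
          Submodule.span K ((Finset.univ.image ![p, x] : Finset (Fin 4 → K)) : Set (Fin 4 → K)) := by
        rw [← (Pi.basisFun K (Fin 4)).span_eq, Submodule.span_le]
        rintro _ ⟨i, rfl⟩
        rw [Pi.basisFun_apply, ← pr_add_rest p x (Pi.single i 1), hc i, add_zero]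
        refine Submodule.smul_mem _ _ (Submodule.add_mem _ (Submodule.smul_mem _ _ (Submodule.subset_span ?_))
          (Submodule.smul_mem _ _ (Submodule.subset_span ?_)))
        · simpa using Or.inl rfl
        · simpa using Or.inr rfl
      have h4 := Submodule.finrank_mono hle
      rw [finrank_top, Module.finrank_fin_fun] at h4
      have h2 : Module.finrank K (Submodule.span K
          ((Finset.univ.image ![p, x] : Finset (Fin 4 → K)) : Set (Fin 4 → K))) ≤ 2 :=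
        (finrank_span_finset_le_card _).trans (Finset.card_image_le.trans (by simp))
      omega
    refine ⟨_, hi, f_rest_left hx _, fun hm => ?_⟩
    obtain ⟨c, hc⟩ := Submodule.mem_span_singleton.1 hm
    have h0 := f_rest_right hx (Pi.single i 1)
    rw [← hc, f_smul_l, mul_eq_zero] at h0
    exact hi (by rw [← hc, h0.resolve_right hx, zero_smul])
  have hNfix : ∀ s, ∀ v ∈ Submodule.span K {p}, ρ (u s) ⬝ₐ v = v := fun s v hv => by
    obtain ⟨c, rfl⟩ := Submodule.mem_span_singleton.1 hv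
    rw [Matrix.mulVec_smul, hpM s]
  let P1 : Submodule K (Fin 4 → K) := LinearMap.ker (fL p)
  obtain ⟨v₂, hv₂, hv₂N, hv₂'⟩ := fix_mod (ρ := ρ) (Submodule.span K {p}) P1
    (fun s v hv => by
      simp only [P1, LinearMap.mem_ker, fL_apply] at hv ⊢
      exact hperp _ ⟨1, by rw [hpM s, one_smul]⟩ v hv)
    hNfix (v₀ := z) (by simpa [P1, fL_apply] using hzp) hzP
  obtain ⟨q₀, β, hqM, hqN, hq₀⟩ := eig_in (ρ := ρ) (k := κ) (N := Submodule.span K {p}) (M := M2)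
    (fun v hv => ⟨hperp _ ⟨α, hp⟩ v hv.1, fun s => by
      rw [conjT, ← Matrix.mulVec_add]
      obtain ⟨c, hc⟩ := Submodule.mem_span_singleton.1 (hv.2 (((κ⁻¹ : Lˣ) : L) * ((κ⁻¹ : Lˣ) : L) * s))
      rw [← hc, Matrix.mulVec_smul, hp]
      exact Submodule.smul_mem _ _ (Submodule.smul_mem _ _ (Submodule.subset_span rfl))⟩)
    (v₀ := v₂) ⟨by simpa [P1, fL_apply] using hv₂, hv₂'⟩ hv₂N
  -- the opposite point
  obtain ⟨p₀, αi, hpp, hp₀⟩ := eig_nonperp (ρ := ρ) (k := κ) hp0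
  have hαi := eig_mul h hp hp₀ hpp
  have hα0 : α ≠ 0 := fun e => zero_ne_one (α := K) (by rw [← hαi, e, zero_mul])
  obtain ⟨p', hp'⟩ : ∃ p', p' = (altForm4 p p₀)⁻¹ • p₀ := ⟨_, rfl⟩
  have hp'1 : altForm4 p p' = 1 := by rw [hp', f_smul_r, inv_mul_cancel₀ hpp]
  have hαi' : αi = α⁻¹ := eq_inv_of_mul_eq_one_right hαi
  have hp'e : ρ (t κ) ⬝ₐ p' = α⁻¹ • p' := by
    rw [hp', Matrix.mulVec_smul, hp₀, hαi', smul_smul, smul_smul, mul_comm]
  obtain ⟨q, hq⟩ : ∃ q, q = q₀ + altForm4 q₀ p' • p := ⟨_, rfl⟩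
  have hqp : altForm4 q p = 0 := by rw [hq, f_add_l, f_smul_l, f_self, mul_zero, add_zero]; exact hqM.1
  have hqp' : altForm4 q p' = 0 := by rw [hq, f_add_l, f_smul_l, hp'1, mul_one, CharTwo.add_self_eq_zero]
  have hqe : ρ (t κ) ⬝ₐ q = β • q := by
    rw [hq, Matrix.mulVec_add, Matrix.mulVec_smul, hq₀, hp, smul_add, smul_smul, smul_smul]
    by_cases h0 : altForm4 q₀ p' = 0
    · rw [h0, zero_mul, mul_zero]
    · have e := eig_mul h hq₀ hp'e h0
      rw [← eq_inv_of_mul_eq_one_left e |>.trans (_root_.inv_inv α), mul_comm]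
  have hq0 : q ≠ 0 := fun e => hqN (by
    have : q₀ = altForm4 q₀ p' • p := v_eq_of_add (hq ▸ e)
    rw [this]; exact Submodule.smul_mem _ _ (Submodule.subset_span rfl))
  obtain ⟨v₃, ν, hqv, hv₃⟩ := eig_nonperp (ρ := ρ) (k := κ) hq0
  have hν := eig_mul h hqe hv₃ hqv
  have hβ0 : β ≠ 0 := fun e => zero_ne_one (α := K) (by rw [← hν, e, zero_mul])
  have hν' : ν = β⁻¹ := eq_inv_of_mul_eq_one_right hν
  obtain ⟨q₁, hq₁⟩ : ∃ q₁, q₁ = v₃ + altForm4 v₃ p' • p + altForm4 v₃ p • p' := ⟨_, rfl⟩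
  have hq₁p : altForm4 q₁ p = 0 := by
    rw [hq₁, f_add_l, f_add_l, f_smul_l, f_smul_l, f_self, f_comm p' p, hp'1]
    linear_combination (altForm4 v₃ p) * (CharTwo.two_eq_zero : (2 : K) = 0)
  have hq₁p' : altForm4 q₁ p' = 0 := by
    rw [hq₁, f_add_l, f_add_l, f_smul_l, f_smul_l, f_self, hp'1]
    linear_combination (altForm4 v₃ p') * (CharTwo.two_eq_zero : (2 : K) = 0)
  have hq₁q : altForm4 q q₁ = altForm4 q v₃ := by
    rw [hq₁, f_add_r, f_add_r, f_smul_r, f_smul_r, hqp, hqp']; ring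
  have hq₁e : ρ (t κ) ⬝ₐ q₁ = ν • q₁ := by
    rw [hq₁, Matrix.mulVec_add, Matrix.mulVec_add, Matrix.mulVec_smul, Matrix.mulVec_smul, hv₃, hp, hp'e, smul_add,
      smul_add, smul_smul, smul_smul, smul_smul, smul_smul]
    congr 2
    · congr 1
      by_cases h0 : altForm4 v₃ p' = 0
      · rw [h0]; ring
      · have e := eig_mul h hv₃ hp'e h0
        rw [eq_inv_of_mul_eq_one_left e |>.trans (_root_.inv_inv α)]; ring
    · by_cases h0 : altForm4 v₃ p = 0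
      · rw [h0]; ring
      · have e := eig_mul h hv₃ hp h0
        rw [eq_inv_of_mul_eq_one_left e]; ring
  obtain ⟨q', hq'⟩ : ∃ q', q' = (altForm4 q v₃)⁻¹ • q₁ := ⟨_, rfl⟩
  have eigAll : ∀ {v : Fin 4 → K} {μ : K}, ρ (t κ) ⬝ₐ v = μ • v → ∀ n : ℕ, ρ (t (κ ^ n)) ⬝ₐ v = μ ^ n • v := by
    intro v μ hv n
    induction n with
    | zero => rw [pow_zero, t_one, one_v, pow_zero, one_smul]
    | succ n ih => rw [pow_succ, ← t_mul, mul_v, hv, Matrix.mulVec_smul, ih, smul_smul, pow_succ']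
  have hn : ∀ k : Lˣ, ∃ n : ℕ, κ ^ n = k := fun k => mem_powers_iff_mem_zpowers.2 (hκ k)
  choose ex hex using hn
  have hq'e : ρ (t κ) ⬝ₐ q' = β⁻¹ • q' := by
    rw [hq', Matrix.mulVec_smul, hq₁e, hν', smul_smul, smul_smul, mul_comm]
  exact ⟨{
    p := p, q := q, q' := q', p' := p'
    pq := by rw [f_comm]; exact hqp
    pq' := by rw [hq', f_smul_r, f_comm p q₁, hq₁p, mul_zero]
    pp' := hp'1
    qq' := by rw [hq', f_smul_r, hq₁q, inv_mul_cancel₀ hqv]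
    qp' := hqp'
    q'p' := by rw [hq', f_smul_l, hq₁p', mul_zero]
    al := fun k => α ^ ex k
    be := fun k => β ^ ex k
    tp := fun k => by conv_lhs => rw [← hex k]
                      exact eigAll hp _
    tq := fun k => by conv_lhs => rw [← hex k]
                      exact eigAll hqe _
    tq' := fun k => by conv_lhs => rw [← hex k]
                       rw [← inv_pow]; exact eigAll hq'e _
    tp' := fun k => by conv_lhs => rw [← hex k]
                       rw [← inv_pow]; exact eigAll hp'e _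
    ep := hpM
    eq := fun s => by
      obtain ⟨c, hc⟩ := Submodule.mem_span_singleton.1 (hqM.2 s)
      refine ⟨c, ?_⟩
      have e : ρ (u s) ⬝ₐ q₀ = q₀ + c • p := by
        rw [hc, add_left_comm, v_add_self, add_zero]
      rw [hq, Matrix.mulVec_add, Matrix.mulVec_smul, hpM s, e]
      abel }⟩

end CfsgLib.CMax.SpFourRes.L2
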