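import Cfsg.Agent.Lib.CMax.SpFourRes.Ext
import Cfsg.Agent.Lib.Lie.Suz.Tori
import Cfsg.Agent.Lib.Lie.Suz.Twisted
import Cfsg.Agent.Lib.Perm.CycStab.Basic

/-!
# The `q`-th power of an element of odd order of a Suzuki group
-/

set_option autoImplicit false
set_option linter.all false

namespace CfsgLib.CMax.SpFourRes

open Matrix Cfsg.Lie
open CfsgLib.Lie.Suz (Free IsTorus)

variable {L : Type} [Field L] [Fintype L] {m : ℕ}

theorem normalizer_four (hm : 1 ≤ m) (hL : Fintype.card L = 2 ^ (2 * m + 1)) {T : Subgroup (Cfsg.Sz L m)}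
    (hT : IsTorus T) : Nat.card (Subgroup.normalizer (T : Set (Cfsg.Sz L m))) = 4 * Nat.card T := by
  classical
  obtain ⟨y, hy, hfree, hTy⟩ := id hT
  have hr : orderOf y ∣ Fintype.card L ^ 2 + 1 := CfsgLib.Lie.Suz.free_prime_dvd hm hL hy hfree
  have hrT : orderOf y ∣ Nat.card T :=
    Subgroup.orderOf_dvd_natCard _ (hTy ▸ Subgroup.mem_centralizer_singleton_iff.2 rfl)
  have hle : 2 ^ (m + 1) ≤ 2 ^ (2 * m + 1) := Nat.pow_le_pow_right (by norm_num) (by omega)
  have hprod : Fintype.card L ^ 2 + 1 =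
      (2 ^ (2 * m + 1) + 2 ^ (m + 1) + 1) * (2 ^ (2 * m + 1) - 2 ^ (m + 1) + 1) := by
    rw [hL]
    zify [hle]
    have : ((2 : ℤ) ^ (m + 1)) ^ 2 = 2 * 2 ^ (2 * m + 1) := by ring
    linear_combination this
  rw [hprod] at hr
  obtain ⟨k, hk, hrk⟩ : ∃ k, (k = 2 ^ (2 * m + 1) + 2 ^ (m + 1) + 1 ∨ k = 2 ^ (2 * m + 1) - 2 ^ (m + 1) + 1) ∧
      orderOf y ∣ k := by
    rcases hy.dvd_mul.1 hr with h | h
    exacts [⟨_, Or.inl rfl, h⟩, ⟨_, Or.inr rfl, h⟩]
  obtain ⟨T', hT', hcT', hN'⟩ := CfsgLib.Lie.Suz.exists_tori hm hL hk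
  obtain ⟨c, hc⟩ := CfsgLib.Lie.Suz.torus_conj hm hL hT hT' hy hrT (hcT' ▸ hrk)
  have hTc : Nat.card T' = Nat.card T := by
    rw [← hc]; exact Nat.card_congr (T.equivMapOfInjective _ (MulAut.conj c).injective).toEquiv.symm
  have hNc : Subgroup.normalizer (T' : Set (Cfsg.Sz L m)) =
      (Subgroup.normalizer (T : Set (Cfsg.Sz L m))).map (MulAut.conj c).toMonoidHom := by
    rw [← hc, Subgroup.map_equiv_normalizer_eq]
  rw [← hTc, hcT', ← hN', hNc]
  exact Nat.card_congr (Subgroup.equivMapOfInjective _ _ (MulAut.conj c).injective).toEquiv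

/-- A free element has a conjugate power different from itself and its inverse. -/
theorem exists_conj_power (hm : 1 ≤ m) (hL : Fintype.card L = 2 ^ (2 * m + 1)) {x : Cfsg.Sz L m} (hx : Free x)
    (hx1 : x ≠ 1) : ∃ (c : Cfsg.Sz L m) (s : ℕ), c * x * c⁻¹ = x ^ s ∧ x ^ s ≠ x ∧ x ^ s ≠ x⁻¹ := by
  classical
  set T := Subgroup.centralizer ({x} : Set (Cfsg.Sz L m)) with hTdef
  have hT : IsTorus T := CfsgLib.Lie.Suz.free_centralizer hm hL hx
  have hxT : x ∈ T := Subgroup.mem_centralizer_singleton_iff.2 rfl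
  haveI := CfsgLib.Lie.Suz.torus_cyclic hm hL hT
  have hN := normalizer_four hm hL hT
  set N := Subgroup.normalizer (T : Set (Cfsg.Sz L m)) with hNdef
  obtain ⟨c, hcN, hc1, hc2⟩ : ∃ c ∈ N, c * x * c⁻¹ ≠ x ∧ c * x * c⁻¹ ≠ x⁻¹ := by
    by_contra hcon
    push Not at hcon
    have hsub : ∀ c ∈ N, ∀ d ∈ N, c * x * c⁻¹ = d * x * d⁻¹ → d⁻¹ * c ∈ T := fun c _ d _ e =>
      Subgroup.mem_centralizer_singleton_iff.2 (by
        calc d⁻¹ * c * x = d⁻¹ * (c * x * c⁻¹) * c := by group
          _ = x * (d⁻¹ * c) := by rw [e]; group)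
    haveI : Fintype N := Fintype.ofFinite _
    have hfib : Fintype.card N ≤ Nat.card T * ({x, x⁻¹} : Finset (Cfsg.Sz L m)).card := by
      rw [← Finset.card_univ]
      refine le_trans ?_ (Nat.mul_le_mul_left _ (Finset.card_le_card
        (show (Finset.univ : Finset N).image (fun c : N => c.1 * x * c.1⁻¹) ⊆ {x, x⁻¹} from fun u hu => by
          obtain ⟨c, -, rfl⟩ := Finset.mem_image.1 hu
          rw [Finset.mem_insert, Finset.mem_singleton]
          exact (em (c.1 * x * c.1⁻¹ = x)).imp id (hcon c.1 c.2))))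
      refine Finset.card_le_mul_card_image _ _ fun u hu => ?_
      obtain ⟨d, -, rfl⟩ := Finset.mem_image.1 hu
      rw [Nat.card_eq_fintype_card, ← Finset.card_univ]
      refine Finset.card_le_card_of_injOn (fun c => if h : d.1⁻¹ * c.1 ∈ T then ⟨_, h⟩ else 1)
        (fun c _ => Finset.mem_univ _) ?_
      intro a ha b hb e
      simp only [Finset.coe_filter, Finset.mem_univ, true_and, Set.mem_setOf_eq] at ha hb
      simp only [dif_pos (hsub _ a.2 _ d.2 ha), dif_pos (hsub _ b.2 _ d.2 hb), Subtype.mk.injEq] at e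
      exact Subtype.ext (mul_left_cancel e)
    rw [← Nat.card_eq_fintype_card, hN] at hfib
    have := Finset.card_le_two (a := x) (b := x⁻¹)
    have hpos : 0 < Nat.card T := Nat.card_pos
    nlinarith
  have hmemT : c * x * c⁻¹ ∈ T := (Subgroup.mem_normalizer_iff.1 hcN x).1 hxT
  have hle : Subgroup.zpowers (⟨c * x * c⁻¹, hmemT⟩ : T) = Subgroup.zpowers (⟨x, hxT⟩ : T) := by
    refine CfsgLib.Perm.CycStab.eq_of_card_eq_cyclic ?_
    rw [Nat.card_zpowers, Nat.card_zpowers, ← Subgroup.orderOf_coe (⟨c * x * c⁻¹, hmemT⟩ : T),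
      ← Subgroup.orderOf_coe (⟨x, hxT⟩ : T)]
    exact orderOf_injective (MulAut.conj c).toMonoidHom (MulAut.conj c).injective x
  obtain ⟨s, hs⟩ := mem_powers_iff_mem_zpowers.2
    (hle ▸ Subgroup.mem_zpowers (⟨c * x * c⁻¹, hmemT⟩ : T))
  have hs' : x ^ s = c * x * c⁻¹ := congrArg Subtype.val hs
  exact ⟨c, s, hs'.symm, hs' ▸ hc1, hs' ▸ hc2⟩

/-- The `q`-th power is conjugate to the element or to its inverse. -/
theorem pow_card_conj (hm : 1 ≤ m) (hL : Fintype.card L = 2 ^ (2 * m + 1)) {x : Cfsg.Sz L m}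
    (hodd : Odd (orderOf x)) :
    ∃ c : Cfsg.Sz L m, x ^ Fintype.card L = c * x * c⁻¹ ∨ x ^ Fintype.card L = c * x⁻¹ * c⁻¹ := by
  classical
  have hqpos : 0 < Fintype.card L := Fintype.card_pos
  by_cases hx : Free x
  · have hx1 : x ≠ 1 := fun e => hx ⟨_, CfsgLib.Lie.Suz.ovoid_inf⟩ (by rw [e, one_smul])
    obtain ⟨c, s, hc, hs1, hs2⟩ := exists_conj_power hm hL hx hx1
    haveI : Fact (Nat.Prime 2) := ⟨Nat.prime_two⟩
    haveI : CharP L 2 := charP_of_card_eq_prime_pow (p := 2) (f := 2 * m + 1) hL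
    obtain ⟨f⟩ := CfsgLib.Lie.Suz.exists_twEquiv (F := L) hm hL
    let κ := algebraMap L (AlgebraicClosure L)
    haveI : CharP (AlgebraicClosure L) 2 := charP_of_injective_ringHom κ.injective 2
    let R : Cfsg.Sz L m →* GL (Fin 4) (AlgebraicClosure L) :=
      (ext κ).comp ((Cfsg.Lie.Sz L (2 ^ (m + 1))).subtype.comp f.toMonoidHom)
    have hRinj : Function.Injective R :=
      (ext_injective κ).comp (Subtype.val_injective.comp f.injective)
    have hsp : ∀ y, R y ∈ Sp4 (AlgebraicClosure L) := fun y =>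
      ext_mem_sp κ (CfsgLib.Char.SuzukiGraph.sz_spec _ (f y).2).1
    obtain ⟨E, hE⟩ : ∃ E, E = eigs (R x).1 := ⟨_, rfl⟩
    obtain ⟨z, hz, hz1⟩ : ∃ z ∈ eigs (R x).1, z ≠ 1 := exists_eig_ne_one fun e => hx1 (by
      have : x ^ 4 = 1 := hRinj (by rw [map_pow, e, map_one])
      have h4 : orderOf x ∣ 2 ^ 2 := orderOf_dvd_of_pow_eq_one this
      exact orderOf_eq_one_iff.1 (Nat.Coprime.eq_one_of_dvd
        ((Nat.coprime_pow_right_iff (by norm_num) _ _).2 (Nat.coprime_two_right.2 hodd)) h4))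
    have hord : orderOf z = orderOf x := by
      refine Nat.dvd_antisymm (orderOf_dvd_of_pow_eq_one (eigs_pow_order (by
        rw [← map_pow, pow_orderOf_eq_one, map_one]) hz)) (orderOf_dvd_of_pow_eq_one ?_)
      obtain ⟨v, hv0, hv⟩ := mem_eigs.1 (eigs_pow hz (orderOf z))
      rw [pow_orderOf_eq_one, one_smul, ← Units.val_pow_eq_pow_val, ← map_pow] at hv
      -- descend the fixed vector
      have hdet : ((Units.val (f (x ^ orderOf z)).1 : Matrix (Fin 4) (Fin 4) L) - 1).det = 0 := by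
        refine κ.injective ?_
        rw [map_zero, RingHom.map_det, ← Matrix.exists_mulVec_eq_zero_iff]
        refine ⟨v, hv0, ?_⟩
        rw [map_sub, map_one, Matrix.sub_mulVec, Matrix.one_mulVec, sub_eq_zero]
        exact hv
      obtain ⟨w, hw0, hw⟩ := Matrix.exists_mulVec_eq_zero_iff.2 hdet
      rw [Matrix.sub_mulVec, Matrix.one_mulVec, sub_eq_zero] at hw
      have h4 : (x ^ orderOf z) ^ 4 = 1 := f.injective (Subtype.ext (by
        rw [map_pow, map_one, SubmonoidClass.coe_pow]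
        exact CfsgLib.Char.SuzukiGraph.pow_four_of_fixed (f (x ^ orderOf z)).2 hw0 hw))
      have hd : orderOf (x ^ orderOf z) ∣ 2 ^ 2 := orderOf_dvd_of_pow_eq_one h4
      exact orderOf_eq_one_iff.1 (Nat.Coprime.eq_one_of_dvd
        ((Nat.coprime_pow_right_iff (by norm_num) _ _).2 (Nat.coprime_two_right.2
          (hodd.of_dvd_nat (orderOf_pow_dvd _)))) hd)
    have hmod : ∀ a b : ℕ, z ^ a = z ^ b → x ^ a = x ^ b := fun a b e => by
      have hlt : ∀ n, n % orderOf z < orderOf z := fun n => Nat.mod_lt _ (by rw [hord]; exact orderOf_pos x)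
      have := (IsPrimitiveRoot.orderOf z).pow_inj (hlt a) (hlt b) (by rw [pow_mod_orderOf, pow_mod_orderOf]; exact e)
      rw [hord] at this
      rw [← pow_mod_orderOf x a, ← pow_mod_orderOf x b, this]
    have hzs : z ^ s ∈ eigs (R x).1 := by
      have e := eigs_pow hz s
      rwa [← Units.val_pow_eq_pow_val, ← map_pow, ← hc, map_mul, map_mul, map_inv, Units.val_mul, Units.val_mul,
        eigs_conj] at e
    have hinv : ∀ {y}, y ∈ eigs (R x).1 → y⁻¹ ∈ eigs (R x).1 := fun hy => eigs_inv_mem (hsp x) hy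
    have hQ : z ^ Fintype.card L ∈ eigs (R x).1 := by
      obtain ⟨v, hv0, hv⟩ := mem_eigs.1 hz
      let φ := iterateFrobenius (AlgebraicClosure L) 2 (2 * m + 1)
      have hφ : ∀ a, φ a = a ^ Fintype.card L := fun a => by rw [iterateFrobenius_def, hL]
      refine mem_eigs.2 ⟨fun i => φ (v i), fun e => hv0 (funext fun i => φ.injective ((congrFun e i).trans (map_zero φ).symm)), ?_⟩
      funext i
      have h := congrArg φ (congrFun hv i)
      rw [RingHom.map_mulVec, Pi.smul_apply, smul_eq_mul, map_mul, hφ z] at h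
      rw [Pi.smul_apply, smul_eq_mul, ← h]
      congr 1
      congr 1
      ext a b
      show _ = φ (κ _)
      rw [hφ, ← map_pow, FiniteField.pow_card]
      rfl
    -- the four eigenvalues
    have hn : 1 < orderOf x := by
      rcases Nat.lt_or_ge 1 (orderOf x) with h | h
      · exact h
      · exact absurd (orderOf_eq_one_iff.1 (le_antisymm h (orderOf_pos x))) hx1
    have hpred : ∀ a, (z ^ a)⁻¹ = z ^ ((orderOf x - 1) * a) := fun a => by
      refine inv_eq_of_mul_eq_one_right ?_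
      rw [← pow_add, show a + (orderOf x - 1) * a = orderOf x * a by
        rw [Nat.sub_mul, one_mul]; have := Nat.le_mul_of_pos_left a (orderOf_pos x); omega,
        pow_mul, ← hord, pow_orderOf_eq_one, one_pow]
    have hxpred : ∀ a, x ^ ((orderOf x - 1) * a) = (x ^ a)⁻¹ := fun a => by
      refine (inv_eq_of_mul_eq_one_right ?_).symm
      rw [← pow_add, show a + (orderOf x - 1) * a = orderOf x * a by
        rw [Nat.sub_mul, one_mul]; have := Nat.le_mul_of_pos_left a (orderOf_pos x); omega,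
        pow_mul, pow_orderOf_eq_one, one_pow]
    have hne : ∀ y : Cfsg.Sz L m, orderOf y = orderOf x → y ≠ y⁻¹ := fun y hy e => by
      have h2 : y ^ 2 = 1 := by rw [pow_two]; exact mul_eq_one_iff_eq_inv.2 e
      have := orderOf_dvd_of_pow_eq_one h2
      rw [hy] at this
      rcases (Nat.dvd_prime Nat.prime_two).1 this with h | h
      · omega
      · rw [h] at hodd; exact Nat.not_odd_iff_even.2 even_two hodd
    have hs3 : x ^ s ≠ (x ^ s)⁻¹ := hne _ (by
      rw [← hc]; exact orderOf_injective (MulAut.conj c).toMonoidHom (MulAut.conj c).injective x)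
    by_contra hcon
    push Not at hcon
    have q1 : x ^ Fintype.card L ≠ x := fun e => (hcon 1).1 (by simpa using e)
    have q2 : x ^ Fintype.card L ≠ x⁻¹ := fun e => (hcon 1).2 (by simpa using e)
    have q3 : x ^ Fintype.card L ≠ x ^ s := fun e => (hcon c).1 (by rw [e, hc])
    have q4 : x ^ Fintype.card L ≠ (x ^ s)⁻¹ := fun e => (hcon c).2 (by rw [e, ← hc]; group)
    have five : ∀ a b : ℕ, x ^ a ≠ x ^ b → z ^ a ≠ z ^ b := fun a b h e => h (hmod a b e)
    have hx' : x⁻¹ = x ^ ((orderOf x - 1) * 1) := by rw [hxpred, pow_one]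
    let S : Finset ℕ := {1, (orderOf x - 1) * 1, s, (orderOf x - 1) * s, Fintype.card L}
    have hpair : ∀ a ∈ S, ∀ b ∈ S, z ^ a = z ^ b → x ^ a = x ^ b := fun a _ b _ e => hmod a b e
    have hcard : (S.image fun a => x ^ a).card = 5 := by
      simp only [S, Finset.image_insert, Finset.image_singleton, pow_one, ← hx', hxpred]
      rw [Finset.card_insert_of_notMem, Finset.card_insert_of_notMem, Finset.card_insert_of_notMem,
        Finset.card_insert_of_notMem, Finset.card_singleton]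
      · simpa using q4.symm
      · simp only [Finset.mem_insert, Finset.mem_singleton, not_or]; exact ⟨hs3, q3.symm⟩
      · simp only [Finset.mem_insert, Finset.mem_singleton, not_or]
        exact ⟨fun e => hs2 e.symm, fun e => hs1 (inv_inj.1 e).symm, q2.symm⟩
      · simp only [Finset.mem_insert, Finset.mem_singleton, not_or]
        exact ⟨hne x rfl, fun e => hs1 e.symm, fun e => hs2 (by rw [← inv_inv (x ^ s), ← e]), q1.symm⟩
    have hle5 : (S.image fun a => x ^ a).card ≤ (S.image fun a => z ^ a).card := by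
      refine Finset.card_le_card_of_surjOn (fun y => if h : ∃ a ∈ S, z ^ a = y then x ^ h.choose else 1) ?_
      intro u hu
      obtain ⟨a, ha, rfl⟩ := Finset.mem_image.1 (Finset.mem_coe.1 hu)
      refine ⟨z ^ a, Finset.mem_coe.2 (Finset.mem_image.2 ⟨a, ha, rfl⟩), ?_⟩
      have h : ∃ b ∈ S, z ^ b = z ^ a := ⟨a, ha, rfl⟩
      beta_reduce
      rw [dif_pos h]
      exact hmod _ _ h.choose_spec.2
    have h4 := (Finset.card_le_card (show S.image (fun a => z ^ a) ⊆ eigs (R x).1 by
      intro y hy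
      simp only [S, Finset.image_insert, Finset.image_singleton, Finset.mem_insert, Finset.mem_singleton] at hy
      rcases hy with rfl | rfl | rfl | rfl | rfl
      · rwa [pow_one]
      · rw [← hpred, pow_one]; exact hinv hz
      · exact hzs
      · rw [← hpred]; exact hinv hzs
      · exact hQ)).trans (card_eigs _)
    omega
  · simp only [Free, not_forall, not_not] at hx
    obtain ⟨a, ha⟩ := hx
    refine ⟨1, Or.inl ?_⟩
    rw [one_mul, inv_one, mul_one]
    have hst : x ∈ MulAction.stabilizer (Cfsg.Sz L m) a := ha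
    have h1 := Subgroup.orderOf_dvd_natCard _ hst
    have h2 := Subgroup.card_mul_index (MulAction.stabilizer (Cfsg.Sz L m) a)
    haveI : MulAction.IsPretransitive (Cfsg.Sz L m) (Cfsg.suzukiOvoid L m) := by
      haveI := CfsgLib.Lie.Suz.two_trans (F := L) (m := m) hL
      exact MulAction.isPretransitive_of_is_two_pretransitive
    rw [MulAction.index_stabilizer_of_transitive, CfsgLib.Lie.Suz.card_omega hL,
      CfsgLib.Lie.Suz.card_group hm hL, mul_comm (Fintype.card L ^ 2) (Fintype.card L ^ 2 + 1), mul_assoc,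
      mul_comm] at h2
    have h3 : Nat.card (MulAction.stabilizer (Cfsg.Sz L m) a) = Fintype.card L ^ 2 * (Fintype.card L - 1) :=
      Nat.eq_of_mul_eq_mul_left (by omega) h2
    rw [h3] at h1
    have hcop : Nat.Coprime (orderOf x) (Fintype.card L ^ 2) := by
      rw [hL, ← pow_mul]
      exact (Nat.coprime_pow_right_iff (by omega) _ _).2 (Nat.coprime_two_right.2 hodd)
    have h4 := hcop.dvd_of_dvd_mul_left h1
    obtain ⟨k, hk⟩ := h4
    calc x ^ Fintype.card L = x ^ (orderOf x * k + 1) := by rw [← hk]; congr 1; omega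
      _ = x := by rw [pow_succ, pow_mul, pow_orderOf_eq_one, one_pow, one_mul]

end CfsgLib.CMax.SpFourRes
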