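import Cfsg.Agent.Lib.CMax.SpFourRes.Cases
import Cfsg.Agent.Lib.CMax.SpFourRes.SuzExp
import Cfsg.Agent.Lib.CIT.Main

/-!
# The simple absolutely irreducible maximal subgroups without invariant form are Suzuki groups
-/

set_option autoImplicit false
set_option linter.all false

namespace CfsgLib.CMax.SpFourRes

open Matrix Cfsg.Lie
open Cfsg.Geo (matrixSet ActsAbsolutelyIrreducibly RealisableOver)

variable {F : Type*} [Field F] [Fintype F] [CharP F 2]

local notation "V" => Fin 4 → F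
local notation "M4" => Matrix (Fin 4) (Fin 4) F
local notation "G4" => GL (Fin 4) F

variable {P : Subgroup (GL (Fin 4) F)}

theorem map_sz {E : Type*} [Field E] (ι : E ≃+* F) (k : ℕ) :
    (Sz E k).map (ext (ι : E →+* F)) = Sz F k := by
  rw [Sz, Sz, MonoidHom.map_closure]
  congr 1
  haveI : CharP E 2 := charP_of_injective_ringHom (f := (ι.symm : F →+* E)) ι.symm.injective 2
  have hstar : ∀ (M : Matrix (Fin 4) (Fin 4) E), star4 (M.map ι) = (star4 M).map ι := fun M => by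
    ext p r; simp [star4]
  have hstar' : ∀ (M : M4), star4 (M.map ι.symm) = (star4 M).map ι.symm := fun M => by
    ext p r; simp [star4]
  ext g
  constructor
  · rintro ⟨x, ⟨hx, hx'⟩, rfl⟩
    refine ⟨ext_mem_sp _ hx, ?_⟩
    show star4 (x.1.map ι) = (x.1.map ι).map _
    rw [hstar, hx']
    ext a b
    simp
  · rintro ⟨hg, hg'⟩
    refine ⟨ext (ι.symm : F →+* E) g, ⟨ext_mem_sp _ hg, ?_⟩, ?_⟩
    · show star4 (g.1.map ι.symm) = (g.1.map ι.symm).map _
      rw [hstar', hg']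
      ext a b
      simp
    · apply Units.ext
      ext a b
      exact ι.apply_symm_apply _

theorem trace_fixed (hc : Core P) [PerfectRing F 2] (hF : ∃ μ : F, μ ≠ 0 ∧ μ ≠ 1) {L : Type} [Field L] [Fintype L]
    {m : ℕ} (hm : 1 ≤ m) (hL : Fintype.card L = 2 ^ (2 * m + 1)) (e : P ≃* Sz L (2 ^ (m + 1))) {g : G4}
    (hg : g ∈ P) : (Units.val g : M4).trace ^ 2 ^ (2 * m + 1) = (Units.val g : M4).trace := by
  classical
  obtain ⟨f⟩ := CfsgLib.Lie.Suz.exists_twEquiv (F := L) hm hL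
  let p : P := ⟨g, hg⟩
  by_cases hodd : Odd (orderOf p)
  · let ψ : P ≃* Cfsg.Sz L m := e.trans f.symm
    obtain ⟨c, hc'⟩ := pow_card_conj hm hL (x := ψ p) (by rw [MulEquiv.orderOf_eq]; exact hodd)
    rw [hL, ← map_pow] at hc'
    rw [← trace_pow_two]
    have hpow : g ^ 2 ^ (2 * m + 1) = ((p ^ 2 ^ (2 * m + 1) : P) : G4) := rfl
    rcases hc' with h | h
    · have h' : p ^ 2 ^ (2 * m + 1) = ψ.symm c * p * (ψ.symm c)⁻¹ := ψ.injective (by simpa using h)
      rw [hpow, h', Subgroup.coe_mul, Subgroup.coe_mul, Subgroup.coe_inv, trace_conj]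
    · have h' : p ^ 2 ^ (2 * m + 1) = ψ.symm c * p⁻¹ * (ψ.symm c)⁻¹ := ψ.injective (by simpa using h)
      rw [hpow, h', Subgroup.coe_mul, Subgroup.coe_mul, Subgroup.coe_inv, Subgroup.coe_inv, trace_conj,
        trace_inv (hc.le hg)]
  · obtain ⟨k, hk⟩ := CfsgLib.CIT.exists_pow_odd p
    obtain ⟨r, hr⟩ : 2 ∣ orderOf p := (Nat.not_odd_iff_even.1 hodd).two_dvd
    have ht : orderOf (p ^ (orderOf p / 2)) = 2 := orderOf_pow_orderOf_div (orderOf_pos p).ne' ⟨r, hr⟩
    have h1 : p ^ 2 ^ k = 1 :=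
      hc.isCIT hF _ _ ht hk (Commute.pow_pow_self p _ _).eq
    have hz : (Units.val g : M4).trace = 0 := trace_two_elt (congrArg Subtype.val h1 : g ^ 2 ^ k = 1)
    rw [hz, zero_pow (by positivity)]

theorem field_le (hc : Core P) [PerfectRing F 2] (hF : ∃ μ : F, μ ≠ 0 ∧ μ ≠ 1) {L : Type} [Field L] [Fintype L]
    {m : ℕ} (hm : 1 ≤ m) (hL : Fintype.card L = 2 ^ (2 * m + 1)) (e : P ≃* Sz L (2 ^ (m + 1))) (a : F) :
    a ^ 2 ^ (2 * m + 1) = a := by
  let K : Subfield F := RingHom.eqLocusField (iterateFrobenius F 2 (2 * m + 1)) (RingHom.id F)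
  have hK : ∀ a : F, a ∈ K ↔ a ^ 2 ^ (2 * m + 1) = a := fun a => by
    show iterateFrobenius F 2 (2 * m + 1) a = a ↔ _
    rw [iterateFrobenius_def]
  by_cases hK' : K = ⊤
  · exact (hK a).1 (hK' ▸ Subfield.mem_top a)
  · exact absurd (realisable_of_traces hc.absIrr K fun g hg => (hK _).2 (trace_fixed hc hF hm hL e hg))
      (hc.noSub K hK')

/-- The socle is the Suzuki group over the ground field. -/
theorem core_suzuki (hc : Core P) [PerfectRing F 2] (h4 : 4 ≤ Fintype.card F)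
    (hcard : Nat.card (Sp4 F) ≤ Fintype.card F ^ 10) :
    ∃ m : ℕ, 1 ≤ m ∧ Fintype.card F = 2 ^ (2 * m + 1) ∧ Nonempty (P ≃* Sz F (2 ^ (m + 1))) := by
  classical
  have hF : ∃ μ : F, μ ≠ 0 ∧ μ ≠ 1 := by
    by_contra hcon
    push Not at hcon
    have : (Finset.univ : Finset F) ⊆ {0, 1} := fun x _ => by
      by_cases hx : x = 0
      · simp [hx]
      · simp [hcon x hx]
    have := (Finset.card_le_card this).trans Finset.card_le_two
    rw [Finset.card_univ] at this
    omega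
  haveI := hc.simple
  have hna : ¬ IsMulCommutative P := fun hcm => by
    obtain ⟨x, hx, y, hy, hxy⟩ := hc.nonab
    exact hxy (congrArg Subtype.val (hcm.is_comm.comm ⟨x, hx⟩ ⟨y, hy⟩))
  rcases CfsgLib.CIT.simple_cases hna (hc.isCIT hF) with ⟨L, iL, iL', hcardL, ⟨e⟩⟩ | ⟨L, iL, iL', hL, ⟨e⟩⟩ |
    ⟨L, iL, iL', m, hm, hL, ⟨e⟩⟩
  · exact (not_psl_two hc hF (hcardL.imp id fun h => h.imp id And.left) e).elim
  · exact (not_psl_three_four hc hL e).elim
  obtain ⟨n, -, hn⟩ := FiniteField.card F 2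
  -- the exponent divides
  have hdvd : (n : ℕ) ∣ 2 * m + 1 := by
    obtain ⟨u, hu⟩ := IsCyclic.exists_ofOrder_eq_natCard (α := Fˣ)
    have hu1 : u ^ (2 ^ (2 * m + 1) - 1) = 1 := by
      apply Units.ext
      have h := field_le hc hF hm hL e (u : F)
      rw [Units.val_pow_eq_pow_val, Units.val_one]
      refine mul_left_cancel₀ u.ne_zero ?_
      rw [← pow_succ', Nat.sub_add_cancel Nat.one_le_two_pow, h, mul_one]
    have hd := orderOf_dvd_of_pow_eq_one hu1
    rw [hu, Nat.card_units, Nat.card_eq_fintype_card, hn] at hd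
    have hg := Nat.pow_sub_one_gcd_pow_sub_one 2 (n : ℕ) (2 * m + 1)
    rw [Nat.gcd_eq_left hd] at hg
    have h2 : 2 ^ (n : ℕ) = 2 ^ Nat.gcd (n : ℕ) (2 * m + 1) := by
      have := Nat.one_le_two_pow (n := (n : ℕ))
      have := Nat.one_le_two_pow (n := Nat.gcd (n : ℕ) (2 * m + 1))
      omega
    rw [Nat.pow_right_injective le_rfl h2]
    exact Nat.gcd_dvd_right _ _
  have hnm : (n : ℕ) = 2 * m + 1 := by
    obtain ⟨j, hj⟩ := hdvd
    by_contra hne
    have hj3 : 3 ≤ j := by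
      rcases Nat.lt_or_ge j 3 with h | h
      · interval_cases j
        · omega
        · omega
        · omega
      · exact h
    obtain ⟨f⟩ := CfsgLib.Lie.Suz.exists_twEquiv (F := L) hm hL
    have hP : Nat.card P = Fintype.card L ^ 2 * (Fintype.card L ^ 2 + 1) * (Fintype.card L - 1) := by
      rw [← CfsgLib.Lie.Suz.card_group hm hL]
      exact Nat.card_congr (e.trans f.symm).toEquiv
    have hle : Nat.card P ≤ Fintype.card F ^ 10 :=
      (Nat.card_le_card_of_injective _ (Subgroup.inclusion_injective hc.le)).trans hcard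
    have hQ : Fintype.card F ^ 3 ≤ Fintype.card L := by
      rw [hn, hL, ← pow_mul, hj]
      exact Nat.pow_le_pow_right (by norm_num) (Nat.mul_le_mul_left _ hj3)
    have hQ2 : 2 ≤ Fintype.card L := Fintype.one_lt_card
    have h1 : Fintype.card L ^ 4 ≤ Nat.card P := by
      rw [hP]
      calc Fintype.card L ^ 4 ≤ Fintype.card L ^ 2 * (Fintype.card L ^ 2 + 1) * 1 := by ring_nf; omega
        _ ≤ _ := Nat.mul_le_mul_left _ (by omega)
    have h2 : Fintype.card F ^ 12 ≤ Fintype.card L ^ 4 := by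
      calc Fintype.card F ^ 12 = (Fintype.card F ^ 3) ^ 4 := by ring
        _ ≤ _ := Nat.pow_le_pow_left hQ 4
    have h3 : Fintype.card F ^ 10 < Fintype.card F ^ 12 := Nat.pow_lt_pow_right (by omega) (by norm_num)
    omega
  have hq : Fintype.card F = 2 ^ (2 * m + 1) := by rw [hn, hnm]
  refine ⟨m, hm, hq, ⟨e.trans ?_⟩⟩
  let ι : L ≃+* F := FiniteField.ringEquivOfCardEq (by rw [hL, hq])
  exact ((Sz L (2 ^ (m + 1))).equivMapOfInjective _ (ext_injective (ι : L →+* F))).trans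
    (MulEquiv.subgroupCongr (map_sz ι _))

end CfsgLib.CMax.SpFourRes
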