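import Cfsg.Agent.Lib.CMax.SpFourRes.Trans
import Cfsg.Agent.Lib.CMax.SpFourRes.Forms
import Cfsg.Agent.Lib.CMax.SpFourRes.Frame
import Cfsg.Agent.Lib.CMax.SpFourRes.Invol

/-!
# No transvections in a maximal simple absolutely irreducible subgroup
-/

set_option autoImplicit false
set_option linter.all false

namespace CfsgLib.CMax.SpFourRes

open Matrix Cfsg.Lie
open Cfsg.Geo (matrixSet ActsAbsolutelyIrreducibly RealisableOver)

variable {F : Type*} [Field F] [Fintype F] [CharP F 2]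

local notation "V" => Fin 4 → F
local notation "M4" => Matrix (Fin 4) (Fin 4) F
local notation "G4" => GL (Fin 4) F
local notation:100 g:100 " ⬝ₐ " v:101 => (Units.val g : Matrix (Fin 4) (Fin 4) F) *ᵥ v

/-- The hypotheses on the socle. -/
structure Core (P : Subgroup (GL (Fin 4) F)) : Prop where
  le : P ≤ Sp4 F
  simple : IsSimpleGroup P
  nonab : ∃ x ∈ P, ∃ y ∈ P, x * y ≠ y * x
  absIrr : ActsAbsolutelyIrreducibly (matrixSet P)
  noQuad : ¬ QuadFix P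
  noSub : ∀ K : Subfield F, K ≠ ⊤ → ¬ RealisableOver K (matrixSet P)
  proper : ¬ Sp4 F ≤ P

variable {P : Subgroup (GL (Fin 4) F)}

theorem Core.base (hc : Core P) : Base P where
  le := hc.le
  simple := hc.simple
  nonab := hc.nonab
  irred W hW := hc.absIrr.1 W (by
    rintro _ ⟨g, hg, rfl⟩ _ ⟨w, hw, rfl⟩
    rw [Matrix.toLin'_apply]; exact hW g hg w hw)

theorem contra_sub (hc : Core P) {K : Type*} [Field K] (ι : F →+* K) (C : GL (Fin 4) K)
    (W : Submodule K (Fin 4 → K)) {u v : Fin 4 → K} (hu : u ∈ W) (hu0 : u ≠ 0) (hv : v ∉ W)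
    (h : ∀ g ∈ P, ∀ w ∈ W, (C⁻¹ * ext ι g * C : GL (Fin 4) K).1 *ᵥ w ∈ W) : False := by
  let W' := W.comap (Matrix.toLin' (C⁻¹).1)
  have hW : W' = ⊥ ∨ W' = ⊤ := irred_ext hc.absIrr ι W' fun g hg w hw => by
    simp only [W', Submodule.mem_comap, Matrix.toLin'_apply] at hw ⊢
    have := h g hg _ hw
    rw [Units.val_mul, Units.val_mul, ← Matrix.mulVec_mulVec, ← Matrix.mulVec_mulVec] at this
    rwa [mulVec_inv] at this
  rcases hW with e | e
  · have hm : C.1 *ᵥ u ∈ W' := by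
      simp only [W', Submodule.mem_comap, Matrix.toLin'_apply]
      rw [inv_mulVec]; exact hu
    rw [e, Submodule.mem_bot] at hm
    exact mulVec_ne hu0 hm
  · have hm : C.1 *ᵥ v ∈ W' := e ▸ Submodule.mem_top
    simp only [W', Submodule.mem_comap, Matrix.toLin'_apply] at hm
    rw [inv_mulVec] at hm
    exact hv hm

theorem contra_quad (hc : Core P) [PerfectRing F 2] (ι : F →+* F) {C : GL (Fin 4) F} (hC : C ∈ Sp4 F)
    (h : ∀ g ∈ P, ∀ v, Q0 ((C⁻¹ * ext ι g * C) ⬝ₐ v) = Q0 v) : False := by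
  refine hc.noQuad (quad_descent ι hc.le (fun l hl => no_covector hc.absIrr ι l hl) (fun v => Q0 (C⁻¹ ⬝ₐ v))
    (fun u v => ?_) (fun c v => by rw [Matrix.mulVec_smul, Q0_smul]) fun g hg v => ?_)
  · beta_reduce
    rw [Matrix.mulVec_add, Q0_add, sp_f (inv_mem hC)]
  · have := h g hg (C⁻¹ ⬝ₐ v)
    rw [Units.val_mul, Units.val_mul, ← Matrix.mulVec_mulVec, ← Matrix.mulVec_mulVec, mulVec_inv] at this
    exact this

/-- A character of a simple nonabelian group is trivial. -/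
theorem fixed_of_line {Q : Subgroup (GL (Fin 4) F)} (hs : IsSimpleGroup Q) (hna : ∃ x ∈ Q, ∃ y ∈ Q, x * y ≠ y * x)
    {v : V} (hv : v ≠ 0) (h : ∀ g ∈ Q, ∃ c : F, g ⬝ₐ v = c • v) {g : G4} (hg : g ∈ Q) : g ⬝ₐ v = v := by
  haveI := hs
  let S : Subgroup Q :=
    { carrier := {g | g.1 ⬝ₐ v = v}
      one_mem' := by simp
      mul_mem' := fun {a b} ha hb => by
        simp only [Set.mem_setOf_eq, Subgroup.coe_mul, Units.val_mul, ← Matrix.mulVec_mulVec] at *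
        rw [hb, ha]
      inv_mem' := fun {a} ha => by
        simp only [Set.mem_setOf_eq, Subgroup.coe_inv] at *
        conv_lhs => rw [← ha]
        rw [inv_mulVec] }
  have hS : ∀ a : Q, a ∈ S ↔ a.1 ⬝ₐ v = v := fun _ => Iff.rfl
  have hn : S.Normal := ⟨fun a ha b => by
    rw [hS] at ha ⊢
    obtain ⟨c, hc⟩ := h _ (b⁻¹).2
    simp only [Subgroup.coe_inv] at hc
    rw [Subgroup.coe_mul, Subgroup.coe_mul, Subgroup.coe_inv, Units.val_mul, Units.val_mul, ← Matrix.mulVec_mulVec,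
      ← Matrix.mulVec_mulVec, hc, Matrix.mulVec_smul, ha, ← hc, mulVec_inv]⟩
  rcases hn.eq_bot_or_eq_top with e | e
  · exfalso
    obtain ⟨x, hx, y, hy, hxy⟩ := hna
    refine hxy ?_
    have hm : (⟨x, hx⟩ * ⟨y, hy⟩ * (⟨y, hy⟩ * ⟨x, hx⟩)⁻¹ : Q) ∈ S := by
      rw [hS]
      obtain ⟨a, ha⟩ := h x hx
      obtain ⟨b, hb⟩ := h y hy
      have e1 : (x * y) ⬝ₐ v = (y * x) ⬝ₐ v := by
        rw [Units.val_mul, Units.val_mul, ← Matrix.mulVec_mulVec, ← Matrix.mulVec_mulVec, ha, hb, Matrix.mulVec_smul,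
          Matrix.mulVec_smul, ha, hb, smul_smul, smul_smul, mul_comm]
      have e2 := inv_mulVec (y * x) v
      show (x * y * (y * x)⁻¹) ⬝ₐ v = v
      obtain ⟨c, hc⟩ := h _ (Q.inv_mem (Q.mul_mem hy hx))
      rw [Units.val_mul _ ((y * x)⁻¹), ← Matrix.mulVec_mulVec, hc, Matrix.mulVec_smul, e1, ← Matrix.mulVec_smul,
        ← hc, mulVec_inv]
    rw [e, Subgroup.mem_bot, mul_inv_eq_one] at hm
    exact congrArg Subtype.val hm
  · have := (hS ⟨g, hg⟩).1 (e ▸ Subgroup.mem_top _)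
    exact this

theorem no_tv (hc : Core P) [PerfectRing F 2] (hF : ∃ μ : F, μ ≠ 0 ∧ μ ≠ 1) : A P = ∅ := by
  by_contra hne
  rcases trans_cases hc.base (Set.nonempty_iff_ne_empty.2 hne) hF with h | h | ⟨K, hK, B, hB, h⟩
  · exact hc.proper (sp_le_of_tv hc.le fun v hv => (h v hv).2)
  · exact hc.noQuad h
  · refine hc.noSub K hK ⟨B⁻¹, ?_⟩
    rintro _ ⟨g, hg, rfl⟩ i j
    rw [inv_inv]
    have := h g hg i j
    rwa [Units.val_mul, Units.val_mul] at this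

theorem star4_map {K : Type*} [CommRing K] (ι : F →+* K) (M : M4) : star4 (M.map ι) = (star4 M).map ι := by
  ext p r; simp [star4]

/-- The image under the exceptional endomorphism. -/
def tw (P : Subgroup (GL (Fin 4) F)) : Subgroup (GL (Fin 4) F) :=
  (P.subgroupOf (Sp4 F)).map ((Sp4 F).subtype.comp st)

theorem mem_tw {h : G4} : h ∈ tw P ↔ ∃ g : ↥(Sp4 F), g.1 ∈ P ∧ (st g).1 = h := Iff.rfl

theorem tw_le : tw P ≤ Sp4 F := by
  rintro _ ⟨g, -, rfl⟩; exact (st g).2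

/-- Transport of conjugation by the endomorphism. -/
theorem st_conj [PerfectRing F 2] (g : ↥(Sp4 F)) {B : G4} (hB : B ∈ Sp4 F) (u : ↥(Sp4 F))
    (hu : u.1 = B⁻¹ * (st g).1 * B) :
    (st u).1 = (st ⟨B, hB⟩).1⁻¹ * ext (frobenius F 2) g.1 * (st ⟨B, hB⟩).1 := by
  rw [show u = ⟨B, hB⟩⁻¹ * st g * ⟨B, hB⟩ from Subtype.ext (by rw [hu]; rfl), map_mul, map_mul, map_inv,
    Subgroup.coe_mul, Subgroup.coe_mul, Subgroup.coe_inv, st_st]

theorem mulVec_single' (g : G4) (i : Fin 4) (k : Fin 4) : (g ⬝ₐ Pi.single i 1) k = g.1 k i := by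
  rw [Matrix.mulVec_single_one]; rfl

theorem tw_point (hc : Core P) [PerfectRing F 2] {a : V} (ha : a ≠ 0) (h : ∀ g ∈ tw P, g ⬝ₐ a = a) : False := by
  obtain ⟨B, hB, hBa⟩ := exists_point_frame ha
  let W : Submodule F V :=
    { carrier := {v | v 2 = 0 ∧ v 3 = 0}
      zero_mem' := ⟨rfl, rfl⟩
      add_mem' := fun {u v} hu hv => ⟨by simp [hu.1, hv.1], by simp [hu.2, hv.2]⟩
      smul_mem' := fun c v hv => ⟨by simp [hv.1], by simp [hv.2]⟩ }
  refine contra_sub hc (frobenius F 2) (st ⟨B, hB⟩).1 W (u := Pi.single 0 1) (v := Pi.single 2 1)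
    ⟨by simp, by simp⟩ (by simp) (fun hh => by simpa using hh.1) fun g hg w hw => ?_
  let u : ↥(Sp4 F) := ⟨B⁻¹ * (st ⟨g, hc.le hg⟩).1 * B, mul_mem (mul_mem (inv_mem hB) (st _).2) hB⟩
  rw [← st_conj _ hB u rfl]
  have hu : u.1 ⬝ₐ Pi.single 0 1 = Pi.single 0 1 := by
    show (B⁻¹ * (st ⟨g, hc.le hg⟩).1 * B) ⬝ₐ _ = _
    rw [Units.val_mul, Units.val_mul, ← Matrix.mulVec_mulVec, ← Matrix.mulVec_mulVec, hBa,
      h _ (mem_tw.2 ⟨⟨g, hc.le hg⟩, hg, rfl⟩), ← hBa, inv_mulVec]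
  obtain ⟨s1, s2, s3, s4⟩ := star_point u.2 hu
  constructor <;> simp [st_val, Matrix.mulVec, dotProduct, Fin.sum_univ_four, s1, s2, s3, s4, hw.1, hw.2]

theorem tw_inv {g : ↥(Sp4 F)} (hg : g.1 ∈ P) : ∀ w : V, (st g).1 ⬝ₐ ((st g⁻¹).1 ⬝ₐ w) = w := fun w => by
  rw [map_inv, Subgroup.coe_inv, mulVec_inv]

theorem tw_irred (hc : Core P) [PerfectRing F 2] (hs : IsSimpleGroup (tw P))
    (hna : ∃ x ∈ tw P, ∃ y ∈ tw P, x * y ≠ y * x) (W : Submodule F V)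
    (hW : ∀ g ∈ tw P, ∀ w ∈ W, g ⬝ₐ w ∈ W) : W = ⊥ ∨ W = ⊤ := by
  classical
  by_contra hne
  rw [not_or] at hne
  obtain ⟨a, ha, ha0⟩ := (Submodule.ne_bot_iff W).1 hne.1
  -- no invariant line
  have noline : ∀ a : V, a ≠ 0 → ¬ ∀ g ∈ tw P, ∃ c : F, g ⬝ₐ a = c • a := fun a ha h =>
    tw_point hc ha fun g hg => fixed_of_line hs hna ha h hg
  -- the subspace perpendicular to an invariant one
  have hperp : ∀ g ∈ tw P, ∀ v, (∀ w ∈ W, altForm4 v w = 0) → ∀ w ∈ W, altForm4 (g ⬝ₐ v) w = 0 := fun g hg v hv w hw => by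
    rw [← mulVec_inv g w, sp_f (tw_le hg)]
    exact hv _ (hW _ (inv_mem hg) w hw)
  by_cases hiso : ∀ u ∈ W, ∀ v ∈ W, altForm4 u v = 0
  · -- totally isotropic
    obtain ⟨d, had⟩ := exists_partner ha0
    by_cases h1 : ∀ w ∈ W, ∃ c : F, w = c • a
    · exact noline a ha0 fun g hg => h1 _ (hW g hg a ha)
    push Not at h1
    obtain ⟨w, hw, hw1⟩ := h1
    obtain ⟨b, hb⟩ : ∃ b, b = w + altForm4 w d • a := ⟨_, rfl⟩
    have hbW : b ∈ W := hb ▸ W.add_mem hw (W.smul_mem _ ha)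
    have hb0 : b ≠ 0 := fun e => hw1 (altForm4 w d) (v_eq_of_add (hb ▸ e))
    have hbd : altForm4 b d = 0 := by rw [hb, f_add_l, f_smul_l, had, mul_one]; exact CharTwo.add_self_eq_zero _
    obtain ⟨B, hB, B0, B1, B3⟩ := exists_of_pair had (hiso a ha b hbW) hbd hb0
    have hWB : ∀ v ∈ W, ∀ i : Fin 4, i = 2 ∨ i = 3 → (B⁻¹ ⬝ₐ v) i = 0 := by
      intro v hv i hi
      have e : ∀ j, altForm4 (B⁻¹ ⬝ₐ v) (Pi.single j 1) = altForm4 v (B ⬝ₐ Pi.single j 1) := fun j => by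
        rw [← sp_f hB (B⁻¹ ⬝ₐ v), mulVec_inv]
      have e0 := e 0
      have e1 := e 1
      rw [f_single, B0, hiso v hv a ha] at e0
      rw [f_single, B1, hiso v hv b hbW] at e1
      rcases hi with rfl | rfl
      exacts [e1, e0]
    let W1 : Submodule F V :=
      { carrier := {v | v 1 = 0 ∧ v 2 = 0 ∧ v 3 = 0}
        zero_mem' := ⟨rfl, rfl, rfl⟩
        add_mem' := fun {u v} hu hv => ⟨by simp [hu.1, hv.1], by simp [hu.2.1, hv.2.1], by simp [hu.2.2, hv.2.2]⟩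
        smul_mem' := fun c v hv => ⟨by simp [hv.1], by simp [hv.2.1], by simp [hv.2.2]⟩ }
    refine contra_sub hc (frobenius F 2) (st ⟨B, hB⟩).1 W1 (u := Pi.single 0 1) (v := Pi.single 1 1)
      ⟨by simp, by simp, by simp⟩ (by simp) (fun hh => by simpa using hh.1) fun g hg w hw => ?_
    let u : ↥(Sp4 F) := ⟨B⁻¹ * (st ⟨g, hc.le hg⟩).1 * B, mul_mem (mul_mem (inv_mem hB) (st _).2) hB⟩
    rw [← st_conj _ hB u rfl]
    have hz : ∀ (j : Fin 4), j = 0 ∨ j = 1 → ∀ i : Fin 4, i = 2 ∨ i = 3 → u.1.1 i j = 0 := by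
      intro j hj i hi
      rw [← mulVec_single' u.1 j i]
      show ((B⁻¹ * (st ⟨g, hc.le hg⟩).1 * B) ⬝ₐ _) i = 0
      rw [Units.val_mul, Units.val_mul, ← Matrix.mulVec_mulVec, ← Matrix.mulVec_mulVec]
      refine hWB _ (hW _ (mem_tw.2 ⟨⟨g, hc.le hg⟩, hg, rfl⟩) _ ?_) i hi
      rcases hj with rfl | rfl
      exacts [B0.symm ▸ ha, B1.symm ▸ hbW]
    obtain ⟨s1, s2, s3⟩ := star_line (hz 0 (Or.inl rfl) 2 (Or.inl rfl)) (hz 0 (Or.inl rfl) 3 (Or.inr rfl))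
      (hz 1 (Or.inr rfl) 2 (Or.inl rfl)) (hz 1 (Or.inr rfl) 3 (Or.inr rfl))
    refine ⟨?_, ?_, ?_⟩ <;>
      simp [st_val, Matrix.mulVec, dotProduct, Fin.sum_univ_four, s1, s2, s3, hw.1, hw.2.1, hw.2.2]
  -- a hyperbolic pair in the subspace
  push Not at hiso
  obtain ⟨a, haW, d, hdW', hne'⟩ := hiso
  obtain ⟨d₀, hd₀⟩ : ∃ d₀, d₀ = (altForm4 a d)⁻¹ • d := ⟨_, rfl⟩
  have hdW : d₀ ∈ W := hd₀ ▸ W.smul_mem _ hdW'
  have had : altForm4 a d₀ = 1 := by rw [hd₀, f_smul_r, inv_mul_cancel₀ hne']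
  have hnz : altForm4 a d₀ ≠ 0 := by rw [had]; exact one_ne_zero
  have hpr : ∀ x, pr a d₀ x ∈ W := fun x => W.smul_mem _ (W.add_mem (W.smul_mem _ haW) (W.smul_mem _ hdW))
  by_cases hbig : ∃ x ∈ W, rest a d₀ x ≠ 0
  · obtain ⟨x, hxW, hx⟩ := hbig
    have hbW : rest a d₀ x ∈ W := W.add_mem hxW (hpr x)
    have hab : altForm4 a (rest a d₀ x) = 0 := by rw [f_comm]; exact f_rest_left hnz x
    obtain ⟨B, hB, B0, B1, B3⟩ := exists_of_pair had hab (f_rest_right hnz x) hx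
    -- everything of the form with vanishing third coordinate lies in the subspace
    have hsub : ∀ v : V, v 2 = 0 → B ⬝ₐ v ∈ W := fun v hv => by
      rw [show v = v 0 • Pi.single 0 1 + v 1 • Pi.single 1 1 + v 3 • Pi.single 3 (1 : F) by
        funext i; fin_cases i <;> simp [Pi.single_apply, hv], Matrix.mulVec_add, Matrix.mulVec_add,
        Matrix.mulVec_smul, Matrix.mulVec_smul, Matrix.mulVec_smul, B0, B1, B3]
      exact W.add_mem (W.add_mem (W.smul_mem _ haW) (W.smul_mem _ hbW)) (W.smul_mem _ hdW)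
    have hconv : ∀ v : V, B ⬝ₐ v ∈ W → v 2 = 0 := fun v hv => by
      by_contra h2
      refine hne.2 (Submodule.eq_top_iff'.2 fun y => ?_)
      rw [← mulVec_inv B y]
      generalize B⁻¹ ⬝ₐ y = t
      rw [show t = (t 2 / v 2) • v + (t - (t 2 / v 2) • v) by abel, Matrix.mulVec_add, Matrix.mulVec_smul]
      exact W.add_mem (W.smul_mem _ hv) (hsub _ (by simp [div_mul_cancel₀ _ h2]))
    refine noline (B ⬝ₐ Pi.single 1 1) (mulVec_ne (by simp)) fun g hg => ?_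
    have hv : ∀ w ∈ W, altForm4 (g ⬝ₐ (B ⬝ₐ Pi.single 1 1)) w = 0 := hperp g hg _ fun w hw => by
      rw [← mulVec_inv B w] at hw ⊢
      rw [sp_f hB, f_comm, f_single]
      exact hconv _ hw
    obtain ⟨t, ht⟩ : ∃ t, g ⬝ₐ (B ⬝ₐ Pi.single 1 1) = B ⬝ₐ t := ⟨_, (mulVec_inv B _).symm⟩
    refine ⟨t 1, ?_⟩
    have hj : ∀ j : Fin 4, j ≠ 2 → t (3 - j) = 0 := fun j hj => by
      have := hv _ (hsub (Pi.single j 1) (by simp [hj.symm]))
      rwa [ht, sp_f hB, f_single] at this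
    rw [ht, ← Matrix.mulVec_smul]
    congr 1
    funext i
    have k0 := hj 3 (by decide)
    have k2 := hj 1 (by decide)
    have k3 := hj 0 (by decide)
    simp only [show (3 : Fin 4) - 3 = 0 by decide, show (3 : Fin 4) - 1 = 2 by decide,
      show (3 : Fin 4) - 0 = 3 by decide] at k0 k2 k3
    fin_cases i <;> simp [k0, k2, k3]
  · push Not at hbig
    obtain ⟨y, hy⟩ : ∃ y, rest a d₀ y ≠ 0 := by
      by_contra hc'
      push Not at hc'
      exact hne.2 (Submodule.eq_top_iff'.2 fun y => by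
        rw [← pr_add_rest a d₀ y, hc' y, add_zero]; exact hpr y)
    have hab : altForm4 a (rest a d₀ y) = 0 := by rw [f_comm]; exact f_rest_left hnz y
    obtain ⟨B, hB, B0, B1, B3⟩ := exists_of_pair had hab (f_rest_right hnz y) hy
    have hWB : ∀ v ∈ W, ∀ i : Fin 4, i = 1 ∨ i = 2 → (B⁻¹ ⬝ₐ v) i = 0 := by
      intro v hv i hi
      have e : v = pr a d₀ v := by conv_lhs => rw [← pr_add_rest a d₀ v, hbig v hv, add_zero]
      rw [e, pr, Matrix.mulVec_smul, Matrix.mulVec_add, Matrix.mulVec_smul, Matrix.mulVec_smul, ← B0, ← B3,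
        inv_mulVec, inv_mulVec]
      rcases hi with rfl | rfl <;> simp
    refine contra_quad hc (frobenius F 2) (st ⟨B, hB⟩).2 fun g hg v => ?_
    let u : ↥(Sp4 F) := ⟨B⁻¹ * (st ⟨g, hc.le hg⟩).1 * B, mul_mem (mul_mem (inv_mem hB) (st _).2) hB⟩
    rw [← st_conj _ hB u rfl, st_val]
    have hmem := mem_tw.2 ⟨⟨g, hc.le hg⟩, hg, rfl⟩
    have hz : ∀ (j : Fin 4), j = 0 ∨ j = 3 → ∀ i : Fin 4, i = 1 ∨ i = 2 → u.1.1 i j = 0 := by
      intro j hj i hi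
      rw [← mulVec_single' u.1 j i]
      show ((B⁻¹ * (st ⟨g, hc.le hg⟩).1 * B) ⬝ₐ _) i = 0
      rw [Units.val_mul, Units.val_mul, ← Matrix.mulVec_mulVec, ← Matrix.mulVec_mulVec]
      refine hWB _ (hW _ hmem _ ?_) i hi
      rcases hj with rfl | rfl
      exacts [B0.symm ▸ haW, B3.symm ▸ hdW]
    have hz' : ∀ (i : Fin 4), i = 1 ∨ i = 2 → ∀ j : Fin 4, j = 0 ∨ j = 3 → u.1.1 j i = 0 := by
      intro i hi j hj
      have hB' : ∀ k : Fin 4, k = 0 ∨ k = 3 → B ⬝ₐ Pi.single k 1 ∈ W := fun k hk => by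
        rcases hk with rfl | rfl
        exacts [B0.symm ▸ haW, B3.symm ▸ hdW]
      have hpW : ∀ w ∈ W, altForm4 (B ⬝ₐ Pi.single i 1) w = 0 := fun w hw => by
        rw [← mulVec_inv B w, sp_f hB, f_comm, f_single]
        rcases hi with rfl | rfl
        exacts [hWB w hw 2 (Or.inr rfl), hWB w hw 1 (Or.inl rfl)]
      have hk : (3 - j : Fin 4) = 0 ∨ (3 - j : Fin 4) = 3 := by
        rcases hj with rfl | rfl
        exacts [Or.inr rfl, Or.inl rfl]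
      have := hperp _ hmem _ hpW _ (hB' _ hk)
      rw [← mulVec_single' u.1 i j, show u.1 = B⁻¹ * (st ⟨g, hc.le hg⟩).1 * B from rfl, Units.val_mul, Units.val_mul,
        ← Matrix.mulVec_mulVec, ← Matrix.mulVec_mulVec]
      rw [← mulVec_inv B ((st ⟨g, hc.le hg⟩).1 ⬝ₐ _), sp_f hB, f_single] at this
      simpa using this
    exact star_planes u.2 (hz 0 (Or.inl rfl) 1 (Or.inl rfl)) (hz 0 (Or.inl rfl) 2 (Or.inr rfl))
      (hz 3 (Or.inr rfl) 1 (Or.inl rfl)) (hz 3 (Or.inr rfl) 2 (Or.inr rfl))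
      (hz' 1 (Or.inl rfl) 0 (Or.inl rfl)) (hz' 1 (Or.inl rfl) 3 (Or.inr rfl))
      (hz' 2 (Or.inr rfl) 0 (Or.inl rfl)) (hz' 2 (Or.inr rfl) 3 (Or.inr rfl)) v

end CfsgLib.CMax.SpFourRes
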