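import Cfsg.Agent.Lib.CMax.SpFourRes.Setup
import Cfsg.Agent.Lib.Invol.EqualOrderConj.SmallCase
import Cfsg.Agent.Lib.Invol.TwoClasses
import Mathlib.GroupTheory.FixedPointFree

/-!
# Subgroups of `SL(2)` generated by transvections in characteristic two

If three transvection vectors do not lie on one conic, the stabiliser of some line moves a centre to two further
multiples whose scalars sum to one.
-/

set_option autoImplicit false
set_option linter.all false

namespace CfsgLib.CMax.SpFourRes.Plane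

open Matrix

variable {F : Type*} [Field F] [CharP F 2]

local notation "S2" => Matrix.SpecialLinearGroup (Fin 2) F
local notation "V2" => Fin 2 → F
local notation "M2" => Matrix (Fin 2) (Fin 2) F

/-- The determinant form. -/
def d2 (u v : V2) : F := u 0 * v 1 + u 1 * v 0

theorem two0 : (2 : F) = 0 := CharTwo.two_eq_zero

theorem d2_self (u : V2) : d2 u u = 0 := by simp only [d2]; linear_combination (u 0 * u 1) * (two0 (F := F))

theorem d2_comm (u v : V2) : d2 u v = d2 v u := by simp only [d2]; ring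

theorem d2_sl (g : S2) (u v : V2) : d2 ((g : M2) *ᵥ u) ((g : M2) *ᵥ v) = d2 u v := by
  have h : g.1 0 0 * g.1 1 1 - g.1 0 1 * g.1 1 0 = 1 := by rw [← Matrix.det_fin_two]; exact g.2
  simp only [d2, Matrix.mulVec, dotProduct, Fin.sum_univ_two]
  linear_combination (u 0 * v 1 + u 1 * v 0) * h +
    (g.1 0 0 * g.1 1 0 * u 0 * v 0 + g.1 0 1 * g.1 1 1 * u 1 * v 1 +
      g.1 0 1 * g.1 1 0 * (u 0 * v 1 + u 1 * v 0)) * (two0 (F := F))

/-- The transvection of a vector. -/
def tau (v : V2) : S2 :=
  ⟨!![1 + v 0 * v 1, v 0 * v 0; v 1 * v 1, 1 + v 0 * v 1], by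
    rw [Matrix.det_fin_two_of]; linear_combination (v 0 * v 1) * (two0 (F := F))⟩

theorem tau_apply (v y : V2) : (tau v : M2) *ᵥ y = y + d2 y v • v := by
  funext i
  fin_cases i <;> simp [tau, d2, Matrix.mulVec, dotProduct, Fin.sum_univ_two] <;> ring

theorem sl_ext {g h : S2} (e : ∀ y : V2, (g : M2) *ᵥ y = (h : M2) *ᵥ y) : g = h :=
  Subtype.ext (Matrix.ext_iff_mulVec.2 e)

theorem mul_apply (g h : S2) (y : V2) : ((g * h : S2) : M2) *ᵥ y = (g : M2) *ᵥ ((h : M2) *ᵥ y) := by
  rw [Matrix.SpecialLinearGroup.coe_mul, Matrix.mulVec_mulVec]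

theorem one_apply (y : V2) : ((1 : S2) : M2) *ᵥ y = y := by
  rw [Matrix.SpecialLinearGroup.coe_one, Matrix.one_mulVec]

theorem d2_add_l (u u' v : V2) : d2 (u + u') v = d2 u v + d2 u' v := by
  simp only [d2, Pi.add_apply]; ring

theorem d2_smul_l (c : F) (u v : V2) : d2 (c • u) v = c * d2 u v := by
  simp only [d2, Pi.smul_apply, smul_eq_mul]; ring

theorem d2_smul_r (c : F) (u v : V2) : d2 u (c • v) = c * d2 u v := by
  simp only [d2, Pi.smul_apply, smul_eq_mul]; ring

theorem v2_self (u : V2) : u + u = 0 := funext fun i => CharTwo.add_self_eq_zero (u i)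

theorem tau_mul_smul (v : V2) (s t : F) : tau (s • v) * tau (t • v) = tau ((s + t) • v) := sl_ext fun y => by
  simp only [mul_apply, tau_apply, d2_add_l, d2_smul_r, d2_smul_l, d2_self, mul_zero, add_zero, smul_smul,
    add_assoc, ← add_smul]
  congr 2
  linear_combination -(d2 y v) * s * t * (two0 (F := F))

theorem tau_zero : tau (0 : V2) = 1 := sl_ext fun y => by rw [tau_apply, one_apply, smul_zero, add_zero]

theorem tau_sq (v : V2) : tau v * tau v = 1 := by
  have := tau_mul_smul v 1 1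
  rwa [one_smul, CharTwo.add_self_eq_zero, zero_smul, tau_zero] at this

theorem tau_conj (g : S2) (v : V2) : g * tau v * g⁻¹ = tau ((g : M2) *ᵥ v) := sl_ext fun y => by
  have e : (g : M2) *ᵥ ((g⁻¹ : S2) : M2) *ᵥ y = y := by rw [← mul_apply, mul_inv_cancel, one_apply]
  rw [mul_apply, mul_apply, tau_apply, Matrix.mulVec_add, Matrix.mulVec_smul, e, tau_apply]
  congr 2
  rw [← d2_sl g, e]

theorem tau_inj [PerfectRing F 2] {u v : V2} (h : tau u = tau v) : u = v := by
  have h0 := congrFun (congrFun (congrArg Subtype.val h) 0) 1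
  have h1 := congrFun (congrFun (congrArg Subtype.val h) 1) 0
  simp [tau] at h0 h1
  funext i
  fin_cases i
  · exact sq_inj (by rw [pow_two, pow_two]; exact h0)
  · exact sq_inj (by rw [pow_two, pow_two]; exact h1)

variable [PerfectRing F 2]

theorem orderOf_tau {v : V2} (hv : v ≠ 0) : orderOf (tau v) = 2 :=
  CfsgLib.Invol.invol_iff.2 ⟨tau_sq v, fun h => hv (tau_inj (by rw [h, tau_zero]))⟩

theorem eq_tau {y : S2} (hy : y * y = 1) : ∃ v, y = tau v := by
  obtain ⟨p, q, r, s, hm⟩ : ∃ p q r s, y.1 = !![p, q; r, s] := ⟨_, _, _, _, Matrix.eta_fin_two y.1⟩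
  have hd : p * s - q * r = 1 := by rw [← Matrix.det_fin_two_of, ← hm]; exact y.2
  have h2 := congrArg Subtype.val hy
  rw [Matrix.SpecialLinearGroup.coe_mul, hm, Matrix.SpecialLinearGroup.coe_one, Matrix.mul_fin_two,
    Matrix.one_fin_two] at h2
  have h00 : p * p + q * r = 1 := by simpa using congrFun (congrFun h2 0) 0
  have h11 : r * q + s * s = 1 := by simpa using congrFun (congrFun h2 1) 1
  have hps : p = s := sq_inj (by linear_combination h00 - h11)
  subst hps
  refine ⟨![sr q, sr r], Subtype.ext ?_⟩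
  have e : sr q * sr r = 1 + p := sq_inj (by
    rw [mul_pow, sr_sq, sr_sq]
    linear_combination -hd + (-p - 1) * (two0 (F := F)) + 0 * h00)
  rw [hm]
  simp only [tau, Matrix.cons_val_zero, Matrix.cons_val_one, Matrix.head_cons]
  rw [e, ← pow_two, sr_sq, ← pow_two, sr_sq]
  have : 1 + (1 + p) = p := by linear_combination (two0 (F := F))
  rw [this]

theorem eq_smul_of_d2 {u v : V2} (hu : u ≠ 0) (h : d2 u v = 0) : ∃ k : F, v = k • u := by
  have h' : u 0 * v 1 = u 1 * v 0 := CharTwo.add_eq_zero.1 h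
  by_cases h0 : u 0 = 0
  · have h1 : u 1 ≠ 0 := fun e => hu (funext fun i => by fin_cases i <;> assumption)
    refine ⟨v 1 / u 1, funext fun i => ?_⟩
    fin_cases i
    · have : v 0 = 0 := by
        rw [h0, zero_mul] at h'
        exact (mul_eq_zero.1 h'.symm).resolve_left h1
      simp [h0, this]
    · simp [h1]
  · refine ⟨v 0 / u 0, funext fun i => ?_⟩
    fin_cases i
    · simp [h0]
    · simp; field_simp; linear_combination h'

theorem d2_of_commute {u v : V2} (hu : u ≠ 0) (h : Commute (tau u) (tau v)) : d2 u v = 0 := by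
  have e : tau ((tau v : M2) *ᵥ u) = tau u := by
    rw [← tau_conj, h.symm.eq, mul_assoc, mul_inv_cancel, mul_one]
  have e2 := tau_inj e
  rw [tau_apply, add_eq_left, smul_eq_zero] at e2
  rcases e2 with e2 | e2
  · exact e2
  · rw [e2]; simp [d2]

/-- The conic through two vectors. -/
def qv (b c x : V2) : F :=
  (d2 x c / d2 b c) ^ 2 + (d2 x b / d2 b c) ^ 2 + d2 b c * (d2 x c / d2 b c) * (d2 x b / d2 b c)

theorem qv_tau_left {b c : V2} (h : d2 b c ≠ 0) (y : V2) : qv b c ((tau b : M2) *ᵥ y) = qv b c y := by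
  simp only [qv, tau_apply, d2_add_l, d2_smul_l, d2_self, mul_zero, add_zero]
  field_simp
  linear_combination (d2 b c ^ 2 * d2 y b ^ 2 + d2 b c * d2 y b * d2 y c) * (two0 (F := F))

theorem qv_comm (b c x : V2) : qv c b x = qv b c x := by simp only [qv, d2_comm c b]; ring

theorem qv_tau_right {b c : V2} (h : d2 b c ≠ 0) (y : V2) : qv b c ((tau c : M2) *ᵥ y) = qv b c y := by
  rw [← qv_comm, qv_tau_left (by rwa [d2_comm]), qv_comm]

theorem qv_add {b c : V2} (h : d2 b c ≠ 0) (u v : V2) : qv b c (u + v) = qv b c u + qv b c v + d2 u v := by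
  have e : d2 u v * d2 b c = d2 u c * d2 v b + d2 u b * d2 v c := by
    simp only [d2]
    linear_combination -(b 0 * c 0 * u 1 * v 1 + b 1 * c 1 * u 0 * v 0) * (two0 (F := F))
  simp only [qv, d2_add_l]
  field_simp
  linear_combination -(d2 b c) * e + (d2 u c * d2 v c + d2 u b * d2 v b) * (two0 (F := F))

theorem qv_smul (b c : V2) (k : F) (v : V2) : qv b c (k • v) = k ^ 2 * qv b c v := by
  simp only [qv, d2_smul_l]; ring

variable [Finite F]

/-- Three transvection vectors either lie on a conic or give two multiples of the first, summing to it. -/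
theorem cases_conic (G : Subgroup S2) {b c x : V2} (hx : x ≠ 0) (hbc : d2 b c ≠ 0) (hb : tau b ∈ G)
    (hc : tau c ∈ G) (hxG : tau x ∈ G) :
    qv b c x = 1 ∨ ∃ k : F, k ≠ 0 ∧ k ≠ 1 ∧ ∃ g ∈ G, ∃ h ∈ G,
      (g : M2) *ᵥ b = k • b ∧ (h : M2) *ᵥ b = (1 + k) • b := by
  classical
  have hb0 : b ≠ 0 := fun e => hbc (by simp [e, d2])
  have hc0 : c ≠ 0 := fun e => hbc (by simp [e, d2])
  let s : G := ⟨tau b, hb⟩
  let sc : G := ⟨tau c, hc⟩
  have hs : orderOf s = 2 := by rw [← Subgroup.orderOf_coe]; exact orderOf_tau hb0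
  have hsc : orderOf sc = 2 := by rw [← Subgroup.orderOf_coe]; exact orderOf_tau hc0
  have centre : ∀ {u v : V2} (hu : tau u ∈ G) (hv : tau v ∈ G), u ≠ 0 → v ≠ 0 →
      ¬ IsConj (⟨tau u, hu⟩ : G) ⟨tau v, hv⟩ → d2 u v = 0 := by
    intro u v hu hv hu0 hv0 hn
    obtain ⟨z, hz, hz1, hz2⟩ := CfsgLib.Invol.exists_invol_commute_both
      (by rw [← Subgroup.orderOf_coe]; exact orderOf_tau hu0)
      (by rw [← Subgroup.orderOf_coe]; exact orderOf_tau hv0) hn
    obtain ⟨w, hw⟩ := eq_tau (congrArg Subtype.val (CfsgLib.Invol.invol_mul_self hz))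
    have hw0 : w ≠ 0 := fun e => CfsgLib.Invol.invol_ne_one hz (Subtype.ext (by rw [hw, e, tau_zero]; rfl))
    have e1 : Commute (tau w) (tau u) := hw ▸ congrArg Subtype.val hz1.eq
    have e2 : Commute (tau w) (tau v) := hw ▸ congrArg Subtype.val hz2.eq
    obtain ⟨i, rfl⟩ := eq_smul_of_d2 hw0 (d2_of_commute hw0 e1)
    obtain ⟨j, rfl⟩ := eq_smul_of_d2 hw0 (d2_of_commute hw0 e2)
    rw [d2_smul_l, d2_smul_r, d2_self, mul_zero, mul_zero]
  have hscs : IsConj s sc := by
    by_contra hn
    exact hbc (centre hb hc hb0 hc0 hn)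
  by_cases h4 : 4 ∣ Nat.card G
  · right
    obtain ⟨T, hT⟩ := (IsPGroup.of_card (p := 2) (n := 1) (by
      rw [Nat.card_zpowers, hs, pow_one]) : IsPGroup 2 (Subgroup.zpowers s)).exists_le_sylow
    have hsT : s ∈ (T : Subgroup G) := hT (Subgroup.mem_zpowers s)
    haveI := Fact.mk Nat.prime_two
    obtain ⟨y, hyT, hy, hys, hyne⟩ : ∃ y ∈ (T : Subgroup G), y * y = 1 ∧ Commute y s ∧ y ≠ 1 ∧ y ≠ s := by
      have habel : ∀ a ∈ (T : Subgroup G), a * a = 1 := by
        intro a ha
        by_contra h2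
        obtain ⟨k, hk⟩ := T.2.exists_card_eq.elim fun k hk => (⟨k, hk⟩ : ∃ k, Nat.card (T : Subgroup G) = 2 ^ k)
        have hdvd : orderOf (⟨a, ha⟩ : (T : Subgroup G)) ∣ 2 ^ k := hk ▸ orderOf_dvd_natCard _
        rw [Subgroup.orderOf_mk] at hdvd
        obtain ⟨j, -, hj⟩ := (Nat.dvd_prime_pow Nat.prime_two).1 hdvd
        have hj2 : 2 ≤ j := by
          by_contra hlt
          exact h2 (by
            rw [← pow_two, ← orderOf_dvd_iff_pow_eq_one, hj]
            exact pow_dvd_pow 2 (show j ≤ 1 by omega) |>.trans (by norm_num))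
        have hsq : (a ^ 2 ^ (j - 1)) * (a ^ 2 ^ (j - 1)) = 1 := by
          rw [← pow_add, ← two_mul, ← pow_succ', show j - 1 + 1 = j by omega, ← hj, pow_orderOf_eq_one]
        obtain ⟨v, hv⟩ := eq_tau (congrArg Subtype.val hsq)
        have hv0 : v ≠ 0 := fun e => by
          have : a ^ 2 ^ (j - 1) = 1 := Subtype.ext (hv.trans (by rw [e, tau_zero]; rfl))
          rw [← orderOf_dvd_iff_pow_eq_one, hj, Nat.pow_dvd_pow_iff_le_right (by norm_num)] at this
          omega
        have hfix : ((a : S2) : M2) *ᵥ v = v := tau_inj (by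
          rw [← tau_conj, ← hv]
          exact congrArg Subtype.val (show a * a ^ 2 ^ (j - 1) * a⁻¹ = a ^ 2 ^ (j - 1) by
            rw [← pow_succ', pow_succ, mul_inv_cancel_right]))
        refine h2 (Subtype.ext (sl_ext fun y => ?_))
        rw [show ((a * a : G) : S2) = (a : S2) * (a : S2) from rfl, mul_apply]
        have hd : d2 (((a : S2) : M2) *ᵥ y + y) v = 0 := by
          conv_lhs => rw [d2_add_l, ← hfix, d2_sl, hfix, CharTwo.add_self_eq_zero]
        obtain ⟨l, hl⟩ := eq_smul_of_d2 hv0 (by rw [d2_comm]; exact hd)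
        have he : ((a : S2) : M2) *ᵥ y = y + l • v := by
          rw [← hl, add_left_comm, v2_self, add_zero]
        rw [he, Matrix.mulVec_add, he, Matrix.mulVec_smul, hfix, add_assoc, v2_self, add_zero]
        exact (one_apply y).symm
      have hcomm : ∀ a ∈ (T : Subgroup G), Commute a s := fun a ha => by
        have e := habel (a * s) (mul_mem ha hsT)
        have ea := habel a ha
        have es := habel s hsT
        show a * s = s * a
        calc a * s = a * (a * s * (a * s)) * s := by rw [e, mul_one]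
          _ = (a * a) * s * a * (s * s) := by group
          _ = s * a := by rw [ea, es, one_mul, mul_one]
      by_contra hcon
      push Not at hcon
      have hsub : (T : Subgroup G) ≤ Subgroup.zpowers s := fun a ha => by
        by_cases h1 : a = 1
        · rw [h1]; exact one_mem _
        · rw [hcon a ha (habel a ha) (hcomm a ha) h1]; exact Subgroup.mem_zpowers s
      have hTc : Nat.card (T : Subgroup G) ∣ 2 :=
        (Subgroup.card_dvd_of_le hsub).trans (by rw [Nat.card_zpowers, hs])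
      have h4T : (2 : ℕ) ^ 2 ∣ Nat.card (T : Subgroup G) := T.pow_dvd_card_of_pow_dvd_card (by norm_num; exact h4)
      exact absurd (h4T.trans hTc) (by norm_num)
    obtain ⟨v, hv⟩ := eq_tau (congrArg Subtype.val hy)
    have hv0 : v ≠ 0 := fun e => hyne.1 (Subtype.ext (by rw [hv, e, tau_zero]; rfl))
    have hcv : Commute (tau b) (tau v) := hv ▸ congrArg Subtype.val hys.symm.eq
    obtain ⟨k, rfl⟩ := eq_smul_of_d2 hb0 (d2_of_commute hb0 hcv)
    have hk0 : k ≠ 0 := fun e => hv0 (by rw [e, zero_smul])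
    have hk1 : k ≠ 1 := fun e => hyne.2 (Subtype.ext (by rw [hv, e, one_smul]))
    have all : ∀ {i : F}, i ≠ 0 → ∀ hi : tau (i • b) ∈ G, ∃ g ∈ G, (g : M2) *ᵥ b = i • b := by
      intro i hi0 hi
      have hcs : IsConj s (⟨tau (i • b), hi⟩ : G) := by
        by_contra hn
        refine hn (hscs.trans ?_)
        by_contra hn'
        have := centre hc hi hc0 (smul_ne_zero hi0 hb0) hn'
        rw [d2_smul_r, d2_comm] at this
        exact (mul_ne_zero hi0 hbc) this
      obtain ⟨g, hg⟩ := isConj_iff.1 hcs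
      refine ⟨g, g.2, tau_inj ?_⟩
      rw [← tau_conj]
      exact congrArg Subtype.val hg
    have hkG : tau (k • b) ∈ G := hv ▸ y.2
    obtain ⟨g, hg, hge⟩ := all hk0 hkG
    obtain ⟨h, hh, hhe⟩ := all (i := 1 + k) (fun e => hk1 (CharTwo.add_eq_zero.1 e).symm) (by
      rw [← tau_mul_smul, one_smul]; exact G.mul_mem hb hkG)
    exact ⟨k, hk0, hk1, g, hg, h, hh, hge, hhe⟩
  · left
    have h2 : 2 ∣ Nat.card G := dvd_trans (dvd_of_eq hs.symm) (orderOf_dvd_natCard s)
    obtain ⟨N, hN, hidx, hodd⟩ := CfsgLib.EqConj.exists_index_two h2 h4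
    have hnot : ∀ {t : G}, orderOf t = 2 → t ∉ N := by
      intro t ht htN
      have : orderOf (⟨t, htN⟩ : N) ∣ Nat.card N := orderOf_dvd_natCard _
      rw [Subgroup.orderOf_mk, ht] at this
      exact (Nat.not_even_iff_odd.2 hodd) (even_iff_two_dvd.2 this)
    have hfix : ∀ n ∈ N, s * n * s⁻¹ = n → n = 1 := by
      intro n hn he
      by_contra hn1
      have hcm : ((n : S2) : M2) *ᵥ b = b := tau_inj (by
        rw [← tau_conj]
        exact congrArg Subtype.val (show n * s * n⁻¹ = s by
          rw [mul_inv_eq_iff_eq_mul.1 he |>.symm, mul_inv_cancel_right]))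
      have hsq : n * n = 1 := Subtype.ext (sl_ext fun y => by
        rw [show ((n * n : G) : S2) = (n : S2) * (n : S2) from rfl, mul_apply]
        have hd : d2 (((n : S2) : M2) *ᵥ y + y) b = 0 := by
          conv_lhs => rw [d2_add_l, ← hcm, d2_sl, hcm, CharTwo.add_self_eq_zero]
        obtain ⟨l, hl⟩ := eq_smul_of_d2 hb0 (by rw [d2_comm]; exact hd)
        have he : ((n : S2) : M2) *ᵥ y = y + l • b := by
          rw [← hl, add_left_comm, v2_self, add_zero]
        rw [he, Matrix.mulVec_add, he, Matrix.mulVec_smul, hcm, add_assoc, v2_self, add_zero]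
        exact (one_apply y).symm)
      exact hnot (CfsgLib.Invol.invol_iff.2 ⟨hsq, hn1⟩) hn
    let φ : N →* N :=
      { toFun := fun n => ⟨s * n.1 * s⁻¹, hN.conj_mem _ n.2 s⟩
        map_one' := Subtype.ext (by simp)
        map_mul' := fun m n => Subtype.ext (by simp [mul_assoc]) }
    have hff : MonoidHom.FixedPointFree φ := fun n hn => Subtype.ext (hfix n.1 n.2 (congrArg Subtype.val hn))
    have hinv : Function.Involutive φ := fun n => Subtype.ext (by
      show s * (s * n.1 * s⁻¹) * s⁻¹ = n.1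
      rw [CfsgLib.Invol.invol_inv hs]
      calc s * (s * n.1 * s) * s = (s * s) * n.1 * (s * s) := by group
        _ = n.1 := by rw [CfsgLib.Invol.invol_mul_self hs, one_mul, mul_one])
    have hmemN : ∀ {t : G}, orderOf t = 2 → s * t ∈ N := fun ht =>
      (Subgroup.mul_mem_iff_of_index_two hidx).2 (iff_of_false (hnot hs) (hnot ht))
    let sx : G := ⟨tau x, hxG⟩
    have hsx : orderOf sx = 2 := by rw [← Subgroup.orderOf_coe]; exact orderOf_tau hx
    have hcom : Commute (tau b * tau c) (tau b * tau x) :=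
      congrArg (fun n : N => ((n : G) : S2))
        (MonoidHom.FixedPointFree.commute_all_of_involutive hff hinv ⟨_, hmemN hsc⟩ ⟨_, hmemN hsx⟩).eq
    generalize hz : tau b * tau c = z at hcom
    generalize hz' : tau b * tau x = z' at hcom
    have hqz : ∀ v, qv b c ((z : M2) *ᵥ v) = qv b c v := fun v => by
      rw [← hz, mul_apply, qv_tau_left hbc, qv_tau_right hbc]
    let dd : V2 → F := fun v => qv b c ((z' : M2) *ᵥ v) + qv b c v
    have hadd : ∀ u v, dd (u + v) = dd u + dd v := fun u v => by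
      simp only [dd, Matrix.mulVec_add, qv_add hbc, d2_sl]
      linear_combination (d2 u v) * (two0 (F := F))
    have hsmul : ∀ (k : F) v, dd (k • v) = k ^ 2 * dd v := fun k v => by
      simp only [dd, Matrix.mulVec_smul, qv_smul]; ring
    obtain ⟨u, hu⟩ : ∃ u : V2, ∀ v, dd v = d2 v u ^ 2 := by
      refine ⟨![sr (dd ![0, 1]), sr (dd ![1, 0])], fun v => ?_⟩
      have hv : v = v 0 • ![1, 0] + v 1 • ![0, 1] := by funext i; fin_cases i <;> simp
      conv_lhs => rw [hv, hadd, hsmul, hsmul]
      simp only [d2, Matrix.cons_val_zero, Matrix.cons_val_one, Matrix.head_cons]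
      rw [CharTwo.add_sq, mul_pow, mul_pow, sr_sq, sr_sq]
    have hdz : ∀ v, dd ((z : M2) *ᵥ v) = dd v := fun v => by
      simp only [dd]
      rw [← mul_apply z', ← hcom.eq, mul_apply z, hqz, hqz]
    have hu0 : u = 0 := by
      have e1 : ∀ v, d2 v ((z : M2) *ᵥ u) = d2 v u := fun v => by
        have h := hdz (((z⁻¹ : S2) : M2) *ᵥ v)
        rw [← mul_apply, mul_inv_cancel, one_apply, hu, hu] at h
        rw [sq_inj h, ← d2_sl z (((z⁻¹ : S2) : M2) *ᵥ v) u, ← mul_apply, mul_inv_cancel, one_apply]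
      have e2 : (z : M2) *ᵥ u = u := by
        funext i
        fin_cases i
        · simpa [d2] using e1 ![0, 1]
        · simpa [d2] using e1 ![1, 0]
      have e3 : (tau c : M2) *ᵥ u = (tau b : M2) *ᵥ u := by
        conv_rhs => rw [← e2, ← hz, ← mul_apply, ← mul_assoc, tau_sq, one_mul]
      rw [tau_apply, tau_apply, add_right_inj] at e3
      have h1 := congrArg (fun w => d2 w b) e3
      have h2' := congrArg (fun w => d2 w c) e3
      simp only [d2_smul_l, d2_self, mul_zero, d2_comm c b] at h1 h2'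
      have k1 : d2 u c = 0 := (mul_eq_zero.1 h1).resolve_right hbc
      have k2 : d2 u b = 0 := (mul_eq_zero.1 h2'.symm).resolve_right hbc
      obtain ⟨i, hi⟩ := eq_smul_of_d2 hb0 (by rw [d2_comm]; exact k2)
      rw [hi, d2_smul_l] at k1
      rw [hi, (mul_eq_zero.1 k1).resolve_right hbc, zero_smul]
    have hqx : ∀ v, qv b c ((tau x : M2) *ᵥ v) = qv b c v := fun v => by
      have h := hu v
      rw [hu0] at h
      simp only [d2, Pi.zero_apply, mul_zero, add_zero, ne_eq, OfNat.ofNat_ne_zero, not_false_eq_true,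
        zero_pow] at h
      have h' := CharTwo.add_eq_zero.1 h
      rwa [← hz', mul_apply, qv_tau_left hbc] at h'
    obtain ⟨y, hy⟩ : ∃ y, d2 y x ≠ 0 := by
      by_contra hcon
      push Not at hcon
      refine hx (funext fun i => ?_)
      fin_cases i
      · simpa [d2] using hcon ![0, 1]
      · simpa [d2] using hcon ![1, 0]
    have h := hqx y
    rw [tau_apply, qv_add hbc, qv_smul, d2_smul_r] at h
    have h5 : d2 y x ^ 2 * (qv b c x + 1) = 0 := by linear_combination h
    exact CharTwo.add_eq_zero.1 ((mul_eq_zero.1 h5).resolve_left (pow_ne_zero 2 hy))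

end CfsgLib.CMax.SpFourRes.Plane
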