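import Cfsg.Agent.Lib.CMax.SpFourRes.Setup
import Cfsg.Agent.Lib.CMax.SpFourRes.Ext
import Cfsg.Agent.Lib.Perm.Trans.Symp

/-!
# Transvections generate, and the exceptional endomorphism

`star4` is an endomorphism of the four-dimensional symplectic group in characteristic two whose square raises the
entries to the second power.
-/

set_option autoImplicit false
set_option linter.all false

namespace CfsgLib.CMax.SpFourRes

open Matrix Cfsg.Lie
open CfsgLib.Char.SuzukiGraph (adjJ inv_eq_adjJ star4_mul adjJ_mul)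

variable {F : Type*} [Field F] [CharP F 2]

local notation "V" => Fin 4 → F
local notation "M4" => Matrix (Fin 4) (Fin 4) F
local notation "G4" => GL (Fin 4) F
local notation:100 g:100 " ⬝ₐ " v:101 => (Units.val g : Matrix (Fin 4) (Fin 4) F) *ᵥ v

theorem isSymplectic_f : Cfsg.Geo.IsSymplecticForm (altForm4 : V → V → F) where
  bilinear := ⟨f_add_l, f_smul_l, fun v x y => f_add_r v x y, fun c v x => f_smul_r c v x⟩
  skew v w := by rw [f_comm, CharTwo.neg_eq]
  alternating := f_self
  nondegenerate v hv := by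
    have h : ∃ x, altForm4 v x ≠ 0 := by
      by_contra hc; push Not at hc; exact hv (eq_zero_of_f hc)
    obtain ⟨x, hx⟩ := h
    exact ⟨⟨x, by rwa [f_comm]⟩, ⟨x, hx⟩⟩

/-- The transvections generate. -/
theorem sp_le_of_tv [PerfectRing F 2] {M : Subgroup (GL (Fin 4) F)} (hle : M ≤ Sp4 F)
    (h : ∀ v : V, v ≠ 0 → tv v ∈ M) : Sp4 F ≤ M := by
  have e : M = CfsgLib.Perm.Trans.Symp.isoSub (altForm4 : V → V → F) := by
    refine CfsgLib.Perm.Trans.Symp.eq_isoSub isSymplectic_f (fun g hg u v => hle hg u v) fun u c => ?_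
    by_cases h0 : sr c • u = 0
    · have : CfsgLib.Perm.Trans.Symp.stv isSymplectic_f u c = 1 := gl_ext fun x => by
        rw [CfsgLib.Perm.Trans.Symp.stv_mulVec, Units.val_one, Matrix.one_mulVec]
        rcases smul_eq_zero.1 h0 with hc | hu
        · rw [← sr_sq c, hc]; simp
        · rw [hu, smul_zero, add_zero]
      rw [this]; exact M.one_mem
    · have : CfsgLib.Perm.Trans.Symp.stv isSymplectic_f u c = tv (sr c • u) := gl_ext fun x => by
        rw [CfsgLib.Perm.Trans.Symp.stv_mulVec, tv_apply, f_smul_r, smul_smul]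
        congr 2
        conv_lhs => rw [← sr_sq c]
        ring
      rw [this]; exact h _ h0
  rw [e]
  exact fun g hg u v => hg u v

omit [CharP F 2] in
/-- Matrices with the inverse given by the adjoint preserve the form. -/
theorem mem_sp_of_adjJ {g : G4} (h : adjJ g.1 * g.1 = 1) : g ∈ Sp4 F := by
  intro u v
  have key : ∀ i j : Fin 4, altForm4 (fun a => g.1 a i) (fun a => g.1 a j) = if i + j = 3 then 1 else 0 := by
    intro i j
    have h' := congrFun (congrFun h (3 - i)) j
    simp only [Matrix.mul_apply, adjJ, Matrix.of_apply, Fin.sum_univ_four, Matrix.one_apply] at h'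
    rw [show (3 : Fin 4) - (3 - i) = i by simp] at h'
    simp only [show (3 : Fin 4) - 0 = 3 by decide, show (3 : Fin 4) - 1 = 2 by decide,
      show (3 : Fin 4) - 2 = 1 by decide, show (3 : Fin 4) - 3 = 0 by decide] at h'
    have hc : (3 - i = j) ↔ (i + j = 3) := by clear h'; revert i j; decide
    simp only [hc] at h'
    simp only [altForm4]
    linear_combination h'
  simp only [Units.coeHom_apply, altForm4, Matrix.mulVec, dotProduct, Fin.sum_univ_four]
  have k00 := key 0 0
  have k01 := key 0 1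
  have k02 := key 0 2
  have k03 := key 0 3
  have k10 := key 1 0
  have k11 := key 1 1
  have k12 := key 1 2
  have k13 := key 1 3
  have k20 := key 2 0
  have k21 := key 2 1
  have k22 := key 2 2
  have k23 := key 2 3
  have k30 := key 3 0
  have k31 := key 3 1
  have k32 := key 3 2
  have k33 := key 3 3
  simp [altForm4] at k00 k01 k02 k03 k10 k11 k12 k13 k20 k21 k22 k23 k30 k31 k32 k33
  linear_combination u 0 * v 0 * k00 + u 0 * v 1 * k01 + u 0 * v 2 * k02 + u 0 * v 3 * k03 + u 1 * v 0 * k10 +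
    u 1 * v 1 * k11 + u 1 * v 2 * k12 + u 1 * v 3 * k13 + u 2 * v 0 * k20 + u 2 * v 1 * k21 + u 2 * v 2 * k22 +
    u 2 * v 3 * k23 + u 3 * v 0 * k30 + u 3 * v 1 * k31 + u 3 * v 2 * k32 + u 3 * v 3 * k33

theorem star4_one : star4 (1 : M4) = 1 := by
  ext p r
  fin_cases p <;> fin_cases r <;> simp [star4, pairOf, Matrix.one_apply]

theorem star4_adjJ (A : M4) : star4 (adjJ A) = adjJ (star4 A) := by
  ext p r
  fin_cases p <;> fin_cases r <;> simp [star4, pairOf, adjJ] <;> grobner

theorem star_inv_mul {g : G4} (hg : g ∈ Sp4 F) : adjJ (star4 g.1) * star4 g.1 = 1 := by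
  rw [← star4_adjJ, ← inv_eq_adjJ hg, ← star4_mul (inv_mem hg) hg, ← Units.val_mul, inv_mul_cancel,
    Units.val_one, star4_one]

/-- The exceptional endomorphism. -/
def st : ↥(Sp4 F) →* ↥(Sp4 F) where
  toFun g := ⟨⟨star4 g.1.1, adjJ (star4 g.1.1), mul_eq_one_comm.1 (star_inv_mul g.2), star_inv_mul g.2⟩,
    mem_sp_of_adjJ (star_inv_mul g.2)⟩
  map_one' := Subtype.ext (Units.ext star4_one)
  map_mul' g h := Subtype.ext (Units.ext (star4_mul g.2 h.2))

theorem st_val (g : ↥(Sp4 F)) : (st g).1.1 = star4 g.1.1 := rfl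

theorem ext_frob_tv (a : V) : ext (frobenius F 2) (tv a) = tv (fun i => a i ^ 2) := by
  apply Units.ext
  ext p r
  show frobenius F 2 ((1 + vecMulVec a ![a 3, a 2, a 1, a 0] : M4) p r) =
    (1 + vecMulVec (fun i => a i ^ 2) ![a 3 ^ 2, a 2 ^ 2, a 1 ^ 2, a 0 ^ 2] : M4) p r
  rw [frobenius_def]
  fin_cases p <;> fin_cases r <;> simp [vecMulVec_apply, Matrix.one_apply, CharTwo.add_sq, mul_pow]

/-- The square of the endomorphism. -/
theorem st_st [PerfectRing F 2] (g : ↥(Sp4 F)) : (st (st g)).1 = ext (frobenius F 2) g.1 := by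
  let φ₁ : ↥(Sp4 F) →* G4 := (Sp4 F).subtype.comp (st.comp st)
  let φ₂ : ↥(Sp4 F) →* G4 := (ext (frobenius F 2)).comp (Sp4 F).subtype
  have h : Sp4 F ≤ (MonoidHom.eqLocus φ₁ φ₂).map (Sp4 F).subtype := by
    refine sp_le_of_tv (Subgroup.map_subtype_le _) fun v hv => ⟨⟨tv v, tv_mem_sp v⟩, ?_, rfl⟩
    show (st (st ⟨tv v, tv_mem_sp v⟩)).1 = ext (frobenius F 2) (tv v)
    rw [ext_frob_tv]
    apply Units.ext
    rw [st_val, st_val]
    show star4 (star4 (1 + vecMulVec v ![v 3, v 2, v 1, v 0] : M4)) =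
      (1 + vecMulVec (fun i => v i ^ 2) ![v 3 ^ 2, v 2 ^ 2, v 1 ^ 2, v 0 ^ 2] : M4)
    ext p r
    fin_cases p <;> fin_cases r <;> simp [star4, pairOf, vecMulVec_apply, Matrix.one_apply] <;> grobner
  obtain ⟨x, hx, e⟩ := h g.2
  rw [show x = g from Subtype.ext e] at hx
  exact hx

theorem st_injective [PerfectRing F 2] : Function.Injective (st (F := F)) := fun g h e => by
  have h1 := congrArg (fun x => (st x).1) e
  simp only [st_st] at h1
  exact Subtype.ext (ext_injective _ h1)

theorem st_bijective [Finite F] [PerfectRing F 2] : Function.Bijective (st (F := F)) :=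
  Finite.injective_iff_bijective.1 st_injective

end CfsgLib.CMax.SpFourRes
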