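import Cfsg.Agent.Lib.CMax.SpFourRes.Setup
import Cfsg.Agent.Lib.Perm.Asch.Group
import Cfsg.Agent.Lib.SU.Ctx

/-!
# Absolutely irreducible groups of degree four and their traces

The traces determine the smallest field of realisation and the invariant forms.
-/

set_option autoImplicit false
set_option linter.all false

namespace CfsgLib.CMax.SpFourRes

open scoped Matrix
open Matrix Cfsg.Geo

variable {F : Type*} [Field F] [Fintype F] {P : Subgroup (GL (Fin 4) F)}

local notation "M4" => Matrix (Fin 4) (Fin 4) F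

theorem trace_left_eq_zero {A : M4} (h : ∀ i j, (A * Matrix.single i j (1 : F)).trace = 0) : A = 0 := by
  ext a b
  have h1 := h b a
  rw [Matrix.trace_mul_single] at h1
  simpa using h1

theorem eq_of_trace_mul (hP : ActsAbsolutelyIrreducibly (matrixSet P)) {A B : M4}
    (h : ∀ g ∈ P, (A * (g : M4)).trace = (B * (g : M4)).trace) : A = B := by
  classical
  let L : M4 →ₗ[F] F := (Matrix.traceLinearMap (Fin 4) F F) ∘ₗ LinearMap.mulLeft F (A - B)
  have hspan : Submodule.span F (matrixSet P) = ⊤ := by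
    have h1 := CfsgLib.Perm.Asch.AbsIrr.adjoin_eq_top (N := P) hP
    have h2 : (Algebra.adjoin F (matrixSet P)).toSubmodule = Submodule.span F (matrixSet P) := by
      rw [Algebra.adjoin_eq_span]
      congr 1
      refine Set.Subset.antisymm (fun x hx => ?_) Submonoid.subset_closure
      induction hx using Submonoid.closure_induction with
      | mem x hx => exact hx
      | one => exact ⟨1, P.one_mem, rfl⟩
      | mul x y _ _ hx hy =>
        obtain ⟨g, hg, rfl⟩ := hx
        obtain ⟨k, hk, rfl⟩ := hy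
        exact ⟨g * k, P.mul_mem hg hk, rfl⟩
    rw [← h2, h1, Algebra.top_toSubmodule]
  have hle : Submodule.span F (matrixSet P) ≤ LinearMap.ker L := by
    rw [Submodule.span_le]
    rintro _ ⟨g, hg, rfl⟩
    show ((A - B) * (g : M4)).trace = 0
    rw [sub_mul, Matrix.trace_sub, h g hg, sub_self]
  rw [hspan] at hle
  exact sub_eq_zero.1 (trace_left_eq_zero fun i j => LinearMap.mem_ker.1 (hle (Submodule.mem_top : Matrix.single i j (1 : F) ∈ ⊤)))

theorem span_eq_top (hP : ActsAbsolutelyIrreducibly (matrixSet P)) : Submodule.span F (matrixSet P) = ⊤ := by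
  classical
  by_contra hne
  obtain ⟨φ, hφ0, hφ⟩ := Submodule.exists_le_ker_of_lt_top _ (lt_top_iff_ne_top.2 hne)
  let A : M4 := Matrix.of fun a b => φ (Matrix.single b a 1)
  have hA : ∀ X : M4, φ X = (A * X).trace := by
    intro X
    conv_lhs => rw [Matrix.matrix_eq_sum_single X]
    simp only [map_sum]
    rw [Matrix.trace]
    simp only [Matrix.diag_apply, Matrix.mul_apply, A, Matrix.of_apply]
    rw [Finset.sum_comm]
    refine Finset.sum_congr rfl fun a _ => Finset.sum_congr rfl fun b _ => ?_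
    rw [show Matrix.single b a (X b a) = X b a • Matrix.single b a (1 : F) by simp, map_smul, smul_eq_mul, mul_comm]
  have h0 : A = 0 := eq_of_trace_mul hP fun g hg => by
    rw [zero_mul, Matrix.trace_zero, ← hA]
    exact LinearMap.mem_ker.1 (hφ (Submodule.subset_span ⟨g, hg, rfl⟩))
  exact hφ0 (LinearMap.ext fun X => by rw [hA, h0, zero_mul, Matrix.trace_zero, LinearMap.zero_apply])

/-- nine elements of the group form a basis of the matrices -/
theorem exists_basis (hP : ActsAbsolutelyIrreducibly (matrixSet P)) :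
    ∃ b : Module.Basis (Fin 16) F M4, ∀ i, ∃ g ∈ P, (g : M4) = b i := by
  classical
  obtain ⟨T, hT, hspan, hli⟩ := exists_linearIndependent F (matrixSet P)
  rw [span_eq_top hP] at hspan
  let b0 : Module.Basis T F M4 := Module.Basis.mk hli (by rw [Subtype.range_coe, hspan])
  haveI : Fintype T := FiniteDimensional.fintypeBasisIndex b0
  have hc : Fintype.card T = 16 := by
    rw [← Module.finrank_eq_card_basis b0, Module.finrank_matrix]
    simp
  refine ⟨b0.reindex (Fintype.equivFinOfCardEq hc), fun i => ?_⟩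
  obtain ⟨g, hg, e⟩ := hT ((Fintype.equivFinOfCardEq hc).symm i).2
  exact ⟨g, hg, by rw [Module.Basis.reindex_apply, Module.Basis.mk_apply]; exact e⟩

theorem gram_det_ne_zero (b : Module.Basis (Fin 16) F M4) :
    (Matrix.of fun i j => (b i * b j).trace).det ≠ 0 := by
  rw [Ne, ← Matrix.exists_mulVec_eq_zero_iff]
  rintro ⟨v, hv, h⟩
  refine hv (funext fun i => ?_)
  have h0 : (∑ j, v j • b j) = 0 := by
    refine trace_left_eq_zero fun k l => ?_
    have hlin : ∀ X : M4, ((∑ j, v j • b j) * X).trace = 0 := by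
      intro X
      rw [← b.sum_repr X, Finset.mul_sum, Matrix.trace_sum]
      refine Finset.sum_eq_zero fun i _ => ?_
      have h1 := congrFun h i
      simp only [Matrix.mulVec, dotProduct, Matrix.of_apply, Pi.zero_apply] at h1
      rw [Matrix.mul_smul, Matrix.trace_smul, Finset.sum_mul, Matrix.trace_sum]
      simp only [Matrix.smul_mul, Matrix.trace_smul, smul_eq_mul]
      rw [show ∑ j, v j * (b j * b i).trace = 0 by
        rw [← h1]; exact Finset.sum_congr rfl fun j _ => by rw [Matrix.trace_mul_comm (b i), mul_comm], mul_zero]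
    exact hlin _
  exact Fintype.linearIndependent_iff.1 b.linearIndependent v h0 i

/-- the coordinates of an element with traces in a subfield lie in that subfield -/
theorem repr_mem {F₀ : Subfield F} (b : Module.Basis (Fin 16) F M4) {X : M4}
    (hb : ∀ i j, (b i * b j).trace ∈ F₀) (hX : ∀ j, (X * b j).trace ∈ F₀) (i : Fin 16) : b.repr X i ∈ F₀ := by
  classical
  obtain ⟨G, hG⟩ : ∃ G : Matrix (Fin 16) (Fin 16) F₀, G = Matrix.of fun i j => ⟨(b i * b j).trace, hb i j⟩ := ⟨_, rfl⟩
  have hGm : G.map F₀.subtype = Matrix.of fun i j => (b i * b j).trace := by ext i j; rw [hG]; rfl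
  have hdet : G.det ≠ 0 := fun e => gram_det_ne_zero b (by
    rw [← hGm, ← RingHom.mapMatrix_apply, ← RingHom.map_det, e, map_zero])
  obtain ⟨c, hc⟩ : ∃ c : Fin 16 → F₀, c ᵥ* G = fun j => ⟨(X * b j).trace, hX j⟩ :=
    ⟨(fun j => ⟨(X * b j).trace, hX j⟩) ᵥ* G⁻¹, by
      rw [Matrix.vecMul_vecMul, Matrix.nonsing_inv_mul _ (isUnit_iff_ne_zero.2 hdet), Matrix.vecMul_one]⟩
  have hrep : ∀ j, ((fun i => (c i : F)) ᵥ* (G.map F₀.subtype)) j = (X * b j).trace := fun j => by
    have := congrArg Subtype.val (congrFun hc j)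
    simpa [Matrix.vecMul, dotProduct] using this
  have hX' : ∀ j, ((fun i => b.repr X i) ᵥ* (G.map F₀.subtype)) j = (X * b j).trace := fun j => by
    conv_rhs => rw [← b.sum_repr X]
    rw [Finset.sum_mul, Matrix.trace_sum, hGm]
    simp [Matrix.vecMul, dotProduct, Matrix.smul_mul, Matrix.trace_smul]
  have heq : (fun i => b.repr X i) = fun i => (c i : F) := by
    have hu : IsUnit (G.map F₀.subtype) := by
      rw [hGm, Matrix.isUnit_iff_isUnit_det]; exact isUnit_iff_ne_zero.2 (gram_det_ne_zero b)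
    exact Matrix.vecMul_injective_of_isUnit hu (funext fun j => (hX' j).trans (hrep j).symm)
  rw [congrFun heq i]
  exact (c i).2

/-- the span of the group over a subfield containing all traces -/
theorem exists_subring (hP : ActsAbsolutelyIrreducibly (matrixSet P)) (F₀ : Subfield F)
    (h : ∀ g ∈ P, (g : M4).trace ∈ F₀) :
    ∃ A : Subring M4, (∀ g ∈ P, (g : M4) ∈ A) ∧ (∀ X ∈ A, X.trace ∈ F₀) ∧ (∀ c ∈ F₀, ∀ X ∈ A, c • X ∈ A) := by
  let A : Subring M4 :=
    { carrier := {X | ∀ g ∈ P, (X * (g : M4)).trace ∈ F₀}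
      zero_mem' := fun g _ => by rw [zero_mul, Matrix.trace_zero]; exact F₀.zero_mem
      add_mem' := fun {X Y} hX hY g hg => by rw [add_mul, Matrix.trace_add]; exact F₀.add_mem (hX g hg) (hY g hg)
      neg_mem' := fun {X} hX g hg => by rw [neg_mul, Matrix.trace_neg]; exact F₀.neg_mem (hX g hg)
      one_mem' := fun g hg => by rw [one_mul]; exact h g hg
      mul_mem' := fun {X Y} hX hY g hg => by
        obtain ⟨b, hb⟩ := exists_basis hP
        have hbb : ∀ i j, (b i * b j).trace ∈ F₀ := fun i j => by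
          obtain ⟨k, hk, ek⟩ := hb i
          obtain ⟨l, hl, el⟩ := hb j
          rw [← ek, ← el, ← Units.val_mul]
          exact h _ (P.mul_mem hk hl)
        have hYg : ∀ i, b.repr (Y * (g : M4)) i ∈ F₀ := repr_mem b hbb fun j => by
          obtain ⟨l, hl, el⟩ := hb j
          rw [← el, mul_assoc, ← Units.val_mul]
          exact hY _ (P.mul_mem hg hl)
        rw [mul_assoc, ← b.sum_repr (Y * (g : M4)), Finset.mul_sum, Matrix.trace_sum]
        refine Subfield.sum_mem F₀ fun i _ => ?_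
        rw [Matrix.mul_smul, Matrix.trace_smul, smul_eq_mul]
        obtain ⟨l, hl, el⟩ := hb i
        exact F₀.mul_mem (hYg i) (el ▸ hX l hl) }
  refine ⟨A, fun g hg k hk => ?_, fun X hX => ?_, fun c hc X hX g hg => ?_⟩
  · rw [← Units.val_mul]; exact h _ (P.mul_mem hg hk)
  · simpa using hX 1 P.one_mem
  · rw [Matrix.smul_mul, Matrix.trace_smul, smul_eq_mul]; exact F₀.mul_mem hc (hX g hg)

theorem exists_rank_one (hP : ActsAbsolutelyIrreducibly (matrixSet P)) (A : Subring M4) (hA : ∀ g ∈ P, (g : M4) ∈ A) :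
    ∃ v ψ : Fin 4 → F, v ≠ 0 ∧ ψ ≠ 0 ∧ vecMulVec v ψ ∈ A := by
  classical
  have hsing : ∃ a ∈ A, a ≠ 0 ∧ ¬ IsUnit a := by
    by_contra hcon
    push Not at hcon
    haveI : IsDomain A := by
      haveI : NoZeroDivisors A := ⟨fun {a b} hab => by
        by_contra hne
        push Not at hne
        have hu := hcon a.1 a.2 (fun e => hne.1 (Subtype.ext e))
        exact hne.2 (Subtype.ext (hu.mul_right_eq_zero.1 (congrArg Subtype.val hab)))⟩
      haveI : Nontrivial A := ⟨⟨0, 1, fun e => zero_ne_one (α := M4) (congrArg Subtype.val e)⟩⟩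
      exact NoZeroDivisors.to_isDomain A
    have hc := (Finite.isDomain_to_isField A).mul_comm
    have hcomm : ∀ g ∈ P, ∀ X : M4, X * (g : M4) = (g : M4) * X := by
      intro g hg X
      have hX : X ∈ Submodule.span F (matrixSet P) := span_eq_top hP ▸ Submodule.mem_top
      induction hX using Submodule.span_induction with
      | mem x hx =>
        obtain ⟨k, hk, rfl⟩ := hx
        exact congrArg Subtype.val (hc ⟨_, hA k hk⟩ ⟨_, hA g hg⟩)
      | zero => simp
      | add x y _ _ hx hy => rw [add_mul, mul_add, hx, hy]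
      | smul c x _ hx => rw [Matrix.smul_mul, Matrix.mul_smul, hx]
    obtain ⟨c, hc'⟩ := hP.2 (Matrix.single 0 1 1) (by rintro _ ⟨g, hg, rfl⟩; exact hcomm g hg _)
    have e1 := congrFun (congrFun hc' 0) 1
    simp at e1
  obtain ⟨a₁, ha₁, ha₁0, ha₁u⟩ := hsing
  have hrk : ∀ b : M4, b ≠ 0 → Module.finrank F (LinearMap.range (Matrix.toLin' b)) ≤ 1 →
      ∃ v ψ : Fin 4 → F, v ≠ 0 ∧ ψ ≠ 0 ∧ b = vecMulVec v ψ := by
    intro b hb0 hb
    obtain ⟨w, hw⟩ := finrank_le_one_iff.1 hb
    have hcol : ∀ j, ∃ c : F, b *ᵥ Pi.single j 1 = c • (w : Fin 4 → F) := fun j => by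
      obtain ⟨c, hc⟩ := hw ⟨b *ᵥ Pi.single j 1, ⟨_, Matrix.toLin'_apply b _⟩⟩
      exact ⟨c, (congrArg Subtype.val hc).symm⟩
    choose c hc using hcol
    have hbv : b = vecMulVec (w : Fin 4 → F) c := by
      ext i j
      have := congrFun (hc j) i
      rw [Matrix.mulVec_single_one] at this
      simpa [vecMulVec_apply, mul_comm] using this
    refine ⟨w, c, fun e => hb0 ?_, fun e => hb0 ?_, hbv⟩ <;> rw [hbv, e] <;> ext i j <;> simp [vecMulVec_apply]
  let rk : M4 → ℕ := fun x => Module.finrank F (LinearMap.range (Matrix.toLin' x))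
  have hrk0 : ∀ x : M4, x ≠ 0 → rk x ≠ 0 := fun x hx h => hx (by
    have h' := Submodule.finrank_eq_zero.1 h
    rw [LinearMap.range_eq_bot] at h'
    exact (LinearEquiv.map_eq_zero_iff Matrix.toLin').1 h')
  have hmulle : ∀ x y : M4, rk (x * y) ≤ rk x := fun x y => by
    show Module.finrank F (LinearMap.range (Matrix.toLin' (x * y))) ≤ Module.finrank F (LinearMap.range (Matrix.toLin' x))
    rw [Matrix.toLin'_mul]
    exact Submodule.finrank_mono (LinearMap.range_comp_le_range _ _)
  have hex : ∃ r, ∃ a ∈ A, a ≠ 0 ∧ rk a = r := ⟨_, a₁, ha₁, ha₁0, rfl⟩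
  obtain ⟨a, ha, ha0, hra⟩ := Nat.find_spec hex
  have hmin : ∀ x ∈ A, x ≠ 0 → Nat.find hex ≤ rk x := fun x hx hx0 =>
    Nat.find_le ⟨x, hx, hx0, rfl⟩
  obtain ⟨g, hg, hga⟩ : ∃ g ∈ P, a * (g : M4) * a ≠ 0 := by
    by_contra hcon
    push Not at hcon
    obtain ⟨i, j, hij⟩ : ∃ i j, a i j ≠ 0 := by
      by_contra h; push Not at h; exact ha0 (Matrix.ext h)
    have hall : ∀ X : M4, a * X * a = 0 := fun X => by
      have hX : X ∈ Submodule.span F (matrixSet P) := span_eq_top hP ▸ Submodule.mem_top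
      induction hX using Submodule.span_induction with
      | mem x hx => obtain ⟨k, hk, rfl⟩ := hx; exact hcon k hk
      | zero => simp
      | add x y _ _ hx hy => rw [mul_add, add_mul, hx, hy, add_zero]
      | smul c x _ hx => rw [Matrix.mul_smul, Matrix.smul_mul, hx, smul_zero]
    have h := congrFun (congrFun (hall (Matrix.single j i 1)) i) j
    simp [Matrix.mul_apply, Matrix.single_apply, ite_and, Finset.sum_ite_eq, hij] at h
  have hxA : a * (g : M4) ∈ A := A.mul_mem ha (hA g hg)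
  obtain ⟨x, hx⟩ : ∃ x, x = a * (g : M4) := ⟨_, rfl⟩
  rw [← hx] at hxA hga
  have heq : LinearMap.range (Matrix.toLin' (x * a)) = LinearMap.range (Matrix.toLin' a) := by
    refine Submodule.eq_of_le_of_finrank_le ?_ ?_
    · rw [hx, mul_assoc, Matrix.toLin'_mul]
      exact LinearMap.range_comp_le_range _ _
    · exact hra.le.trans (hmin _ (A.mul_mem hxA ha) hga)
  have hpow : ∀ n : ℕ, x ^ n * a ≠ 0 := by
    intro n
    have : LinearMap.range (Matrix.toLin' (x ^ n * a)) = LinearMap.range (Matrix.toLin' a) := by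
      induction n with
      | zero => rw [pow_zero, one_mul]
      | succ n ih =>
        rw [pow_succ', mul_assoc, Matrix.toLin'_mul, LinearMap.range_comp, ih, ← LinearMap.range_comp,
          ← Matrix.toLin'_mul, heq]
    intro h
    refine hrk0 a ha0 ?_
    simp only [rk]
    rw [← this, h, map_zero, LinearMap.range_zero, finrank_bot]
  obtain ⟨e, heA, he, he0, hle⟩ : ∃ e ∈ A, e * e = e ∧ e ≠ 0 ∧ rk e ≤ Nat.find hex := by
    obtain ⟨p, q, hpq, he⟩ := Finite.exists_ne_map_eq_of_infinite (fun n : ℕ => x ^ n)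
    wlog hlt : p < q generalizing p q
    · exact this q p hpq.symm he.symm (lt_of_le_of_ne (not_lt.1 hlt) hpq.symm)
    have hper : ∀ k, p ≤ k → ∀ l : ℕ, x ^ (k + l * (q - p)) = x ^ k := by
      intro k hk l
      induction l with
      | zero => simp
      | succ l ih =>
        rw [show k + (l + 1) * (q - p) = (k - p) + q + l * (q - p) by rw [add_mul, one_mul]; omega,
          pow_add, pow_add (x) (k - p) q, ← he, ← pow_add, show k - p + p = k by omega, ← pow_add, ih]
    obtain ⟨n, hn⟩ : ∃ n, n = (p + 1) * (q - p) := ⟨_, rfl⟩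
    have hn0 : p + 1 ≤ n := hn ▸ Nat.le_mul_of_pos_right _ (by omega)
    refine ⟨x ^ n, A.pow_mem hxA n, ?_, fun h => hpow n (by rw [h, zero_mul]), ?_⟩
    · rw [← pow_add]
      nth_rw 2 [hn]
      exact hper n (by omega) _
    · rw [show n = n - 1 + 1 by omega, pow_succ', hx, mul_assoc, ← hra]
      exact hmulle _ _
  by_cases hr : rk e ≤ 1
  · obtain ⟨v, ψ, hv, hψ, e'⟩ := hrk e he0 hr
    exact ⟨v, ψ, hv, hψ, e' ▸ heA⟩
  exfalso
  -- the corner ring is a field, so the rank is one
  let C : Type _ := {y : M4 // y ∈ A ∧ e * y = y ∧ y * e = y}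
  have hC : ∀ y₁ y₂ : C, y₁.1 * y₂.1 = 0 → y₁.1 = 0 ∨ y₂.1 = 0 := by
    intro y₁ y₂ h
    by_contra hne
    push Not at hne
    have hR : LinearMap.range (Matrix.toLin' y₂.1) = LinearMap.range (Matrix.toLin' e) := by
      refine Submodule.eq_of_le_of_finrank_le ?_ (hle.trans (hmin _ y₂.2.1 hne.2))
      conv_lhs => rw [← y₂.2.2.1, Matrix.toLin'_mul]
      exact LinearMap.range_comp_le_range _ _
    have h1 : LinearMap.range (Matrix.toLin' (y₁.1 * y₂.1)) = LinearMap.range (Matrix.toLin' (y₁.1 * e)) := by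
      rw [Matrix.toLin'_mul, Matrix.toLin'_mul, LinearMap.range_comp, hR, ← LinearMap.range_comp]
    rw [h, map_zero, LinearMap.range_zero, y₁.2.2.2, eq_comm, LinearMap.range_eq_bot] at h1
    exact hne.1 ((LinearEquiv.map_eq_zero_iff Matrix.toLin').1 h1)
  have hcomm : ∀ y₁ y₂ : C, y₁.1 * y₂.1 = y₂.1 * y₁.1 := by
    let R : NonUnitalSubring M4 :=
      { carrier := {y | y ∈ A ∧ e * y = y ∧ y * e = y}
        zero_mem' := ⟨A.zero_mem, mul_zero e, zero_mul e⟩
        add_mem' := fun {u v} hu hv => ⟨A.add_mem hu.1 hv.1, by rw [mul_add, hu.2.1, hv.2.1],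
          by rw [add_mul, hu.2.2, hv.2.2]⟩
        neg_mem' := fun {u} hu => ⟨A.neg_mem hu.1, by rw [mul_neg, hu.2.1], by rw [neg_mul, hu.2.2]⟩
        mul_mem' := fun {u v} hu hv => ⟨A.mul_mem hu.1 hv.1, by rw [← mul_assoc, hu.2.1],
          by rw [mul_assoc, hv.2.2]⟩ }
    letI : Ring R :=
      { (inferInstance : NonUnitalRing R) with
        one := ⟨e, heA, he, he⟩
        one_mul := fun y => Subtype.ext y.2.2.1
        mul_one := fun y => Subtype.ext y.2.2.2 }
    haveI : Finite R := Subtype.finite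
    haveI : NoZeroDivisors R := ⟨fun {u v} huv =>
      (hC u v (congrArg Subtype.val huv)).imp (fun h => Subtype.ext h) fun h => Subtype.ext h⟩
    haveI : Nontrivial R := ⟨⟨⟨e, heA, he, he⟩, 0, fun h => he0 (congrArg Subtype.val h)⟩⟩
    haveI : IsDomain R := NoZeroDivisors.to_isDomain R
    exact fun y₁ y₂ => congrArg Subtype.val ((Finite.isDomain_to_isField R).mul_comm ⟨_, y₁.2⟩ ⟨_, y₂.2⟩)
  have hall : ∀ X Y : M4, e * X * e * (e * Y * e) = e * Y * e * (e * X * e) := by
    have hmem : ∀ k ∈ P, e * (k : M4) * e ∈ A ∧ e * (e * (k : M4) * e) = e * (k : M4) * e ∧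
        e * (k : M4) * e * e = e * (k : M4) * e := fun k hk =>
      ⟨A.mul_mem (A.mul_mem heA (hA k hk)) heA, by rw [← mul_assoc, ← mul_assoc, he], by rw [mul_assoc, he]⟩
    intro X Y
    have hX : X ∈ Submodule.span F (matrixSet P) := span_eq_top hP ▸ Submodule.mem_top
    have hY : Y ∈ Submodule.span F (matrixSet P) := span_eq_top hP ▸ Submodule.mem_top
    induction hX using Submodule.span_induction with
    | mem x hx =>
      induction hY using Submodule.span_induction with
      | mem y hy =>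
        obtain ⟨k, hk, rfl⟩ := hx
        obtain ⟨l, hl, rfl⟩ := hy
        exact hcomm ⟨_, hmem k hk⟩ ⟨_, hmem l hl⟩
      | zero => simp
      | add y z _ _ h1 h2 => simp only [mul_add, add_mul] at h1 h2 ⊢; rw [h1, h2]
      | smul c y _ h1 => simp only [Matrix.mul_smul, Matrix.smul_mul] at h1 ⊢; rw [h1]
    | zero => simp
    | add y z _ _ h1 h2 => simp only [mul_add, add_mul] at h1 h2 ⊢; rw [h1, h2]
    | smul c y _ h1 => simp only [Matrix.mul_smul, Matrix.smul_mul] at h1 ⊢; rw [h1]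
  -- two independent vectors in the range of the idempotent
  have hfix : ∀ v : Fin 4 → F, v ∈ LinearMap.range (Matrix.toLin' e) → e *ᵥ v = v := by
    rintro _ ⟨w, rfl⟩
    rw [Matrix.toLin'_apply, Matrix.mulVec_mulVec, he]
  obtain ⟨w, hw⟩ := exists_linearIndependent_of_le_finrank (R := F) (M := LinearMap.range (Matrix.toLin' e))
    (show 2 ≤ Module.finrank F (LinearMap.range (Matrix.toLin' e)) by show 2 ≤ rk e; omega)
  have hw' : LinearIndependent F fun i => (w i : Fin 4 → F) := hw.map' _ (Submodule.ker_subtype _)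
  obtain ⟨ext, hext⟩ : ∃ f : Fin 2 → ((Fin 4 → F) →ₗ[F] F), ∀ i j, f i (w j : Fin 4 → F) = if i = j then 1 else 0 := by
    refine ⟨fun i => (LinearMap.exists_extend ((Module.Basis.span hw').coord i)).choose, fun i j => ?_⟩
    have h := (LinearMap.exists_extend ((Module.Basis.span hw').coord i)).choose_spec
    have h' := congrFun (congrArg DFunLike.coe h) (Module.Basis.span hw' j)
    rw [LinearMap.comp_apply, Submodule.subtype_apply, Module.Basis.coord_apply, Module.Basis.repr_self] at h'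
    rw [show ((w j : Fin 4 → F)) = ((Module.Basis.span hw' j : _) : Fin 4 → F) by rw [Module.Basis.span_apply]]
    rw [h', Finsupp.single_apply]
    simp [eq_comm]
  obtain ⟨X, hX⟩ : ∃ X : M4, ∀ v, X *ᵥ v = ext 0 v • (w 1 : Fin 4 → F) :=
    ⟨LinearMap.toMatrix' ((ext 0).smulRight (w 1 : Fin 4 → F)), fun v => by
      rw [← Matrix.toLin'_apply, Matrix.toLin'_toMatrix']; rfl⟩
  obtain ⟨Y, hY⟩ : ∃ Y : M4, ∀ v, Y *ᵥ v = ext 1 v • (w 0 : Fin 4 → F) :=
    ⟨LinearMap.toMatrix' ((ext 1).smulRight (w 0 : Fin 4 → F)), fun v => by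
      rw [← Matrix.toLin'_apply, Matrix.toLin'_toMatrix']; rfl⟩
  have h := congrArg (fun M : M4 => M *ᵥ (w 0 : Fin 4 → F)) (hall Y X)
  simp only [← Matrix.mulVec_mulVec, hX, hY, Matrix.mulVec_smul, hfix _ (w 0).2, hfix _ (w 1).2, hext,
    if_pos, if_neg (show (1 : Fin 2) ≠ 0 by decide), if_neg (show (0 : Fin 2) ≠ 1 by decide), one_smul, zero_smul,
    Matrix.mulVec_zero, map_zero, smul_zero] at h
  exact hw'.ne_zero 0 h

theorem vec_mul_mul (v ψ : Fin 4 → F) (X : M4) :
    vecMulVec v ψ * X * vecMulVec v ψ = (ψ ⬝ᵥ (X *ᵥ v)) • vecMulVec v ψ := by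
  rw [vecMulVec_mul, vecMulVec_mul_vecMulVec, ← Matrix.dotProduct_mulVec]
  ext i j
  simp [vecMulVec_apply, mul_comm, mul_left_comm, mul_assoc]

/-- a group with all traces in a subfield is realised over it -/
theorem realisable_of_traces (hP : ActsAbsolutelyIrreducibly (matrixSet P)) (F₀ : Subfield F)
    (h : ∀ g ∈ P, (g : M4).trace ∈ F₀) : RealisableOver F₀ (matrixSet P) := by
  classical
  obtain ⟨A, hA, htr, hsm⟩ := exists_subring hP F₀ h
  obtain ⟨v, ψ, hv, hψ, ha⟩ := exists_rank_one hP A hA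
  -- the bracket takes values in the subfield
  have hval : ∀ X ∈ A, ψ ⬝ᵥ (X *ᵥ v) ∈ F₀ := fun X hX => by
    have h1 := htr _ (A.mul_mem ha hX)
    rw [vecMulVec_mul, Matrix.trace_vecMulVec] at h1
    rw [Matrix.dotProduct_mulVec, dotProduct_comm]
    exact h1
  obtain ⟨b, hb⟩ := exists_basis hP
  have hbA : ∀ i, b i ∈ A := fun i => by obtain ⟨g, hg, e⟩ := hb i; exact e ▸ hA g hg
  have hcols : Submodule.span F (Set.range fun i => b i *ᵥ v) = ⊤ := by
    rw [Submodule.eq_top_iff']
    intro x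
    obtain ⟨i0, hi0⟩ := Function.ne_iff.1 hv
    have hx : x = (Matrix.of fun i j => if j = i0 then x i / v i0 else 0) *ᵥ v := by
      funext i
      simp [Matrix.mulVec, dotProduct, div_mul_cancel₀ _ (show v i0 ≠ 0 from hi0)]
    rw [hx, ← b.sum_repr (Matrix.of fun i j => if j = i0 then x i / v i0 else 0), Matrix.sum_mulVec]
    exact Submodule.sum_mem _ fun i _ => by
      rw [Matrix.smul_mulVec]; exact Submodule.smul_mem _ _ (Submodule.subset_span ⟨i, rfl⟩)
  have hrows : Submodule.span F (Set.range fun i => ψ ᵥ* b i) = ⊤ := by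
    rw [Submodule.eq_top_iff']
    intro x
    obtain ⟨i0, hi0⟩ := Function.ne_iff.1 hψ
    have hx : x = ψ ᵥ* (Matrix.of fun i j => if i = i0 then x j / ψ i0 else 0) := by
      funext j
      simp [Matrix.vecMul, dotProduct, mul_div_cancel₀ _ (show ψ i0 ≠ 0 from hi0)]
    rw [hx, ← b.sum_repr (Matrix.of fun i j => if i = i0 then x j / ψ i0 else 0)]
    have : ψ ᵥ* (∑ i, b.repr (Matrix.of fun i j => if i = i0 then x j / ψ i0 else 0) i • b i) =
        ∑ i, b.repr (Matrix.of fun i j => if i = i0 then x j / ψ i0 else 0) i • (ψ ᵥ* b i) := by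
      conv_lhs => rw [b.sum_repr]
      conv_rhs => simp only [← Matrix.vecMul_smul, ← Matrix.vecMul_sum, b.sum_repr]
    rw [this]
    exact Submodule.sum_mem _ fun i _ => Submodule.smul_mem _ _ (Submodule.subset_span ⟨i, rfl⟩)
  have pick : ∀ f : Fin 16 → (Fin 4 → F), Submodule.span F (Set.range f) = ⊤ →
      ∃ s : Fin 4 → Fin 16, LinearIndependent F (f ∘ s) := by
    intro f hf
    obtain ⟨T, hT, hsp, hli⟩ := exists_linearIndependent F (Set.range f)
    rw [hf] at hsp
    let b0 : Module.Basis T F (Fin 4 → F) := Module.Basis.mk hli (by rw [Subtype.range_coe, hsp])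
    haveI : Fintype T := FiniteDimensional.fintypeBasisIndex b0
    have hc : Fintype.card T = 4 := by rw [← Module.finrank_eq_card_basis b0, Module.finrank_fin_fun]
    choose k hk using fun t : T => hT t.2
    refine ⟨fun i => k ((Fintype.equivFinOfCardEq hc).symm i), ?_⟩
    have : f ∘ (fun i => k ((Fintype.equivFinOfCardEq hc).symm i)) =
        ((↑) : T → Fin 4 → F) ∘ (Fintype.equivFinOfCardEq hc).symm := funext fun i => hk _
    rw [this]
    exact hli.comp _ (Equiv.injective _)
  obtain ⟨s, hs⟩ := pick _ hcols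
  obtain ⟨r, hr⟩ := pick _ hrows
  obtain ⟨B, hB⟩ := (Matrix.linearIndependent_cols_iff_isUnit (A := Matrix.of fun i j => (b (s j) *ᵥ v) i)).1 hs
  obtain ⟨C, hC⟩ := (Matrix.linearIndependent_rows_iff_isUnit (A := Matrix.of fun i j => (ψ ᵥ* b (r i)) j)).1 hr
  have hCXB : ∀ X ∈ A, ∀ i j, ((C : M4) * X * (B : M4)) i j ∈ F₀ := by
    intro X hX i j
    have e : ((C : M4) * X * (B : M4)) i j = ψ ⬝ᵥ ((b (r i) * X * b (s j)) *ᵥ v) := by
      rw [mul_assoc (C : M4), ← Matrix.mulVec_mulVec, Matrix.dotProduct_mulVec, ← Matrix.vecMul_vecMul,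
        ← Matrix.dotProduct_mulVec, hB, hC]
      rfl
    rw [e]
    exact hval _ (A.mul_mem (A.mul_mem (hbA _) hX) (hbA _))
  have hM1 : ∀ i j, ((C : M4) * (B : M4)) i j ∈ F₀ := fun i j => by
    simpa using hCXB 1 A.one_mem i j
  obtain ⟨N, hN⟩ : ∃ N : Matrix (Fin 4) (Fin 4) F₀, N.map F₀.subtype = (C : M4) * (B : M4) :=
    ⟨Matrix.of fun i j => ⟨_, hM1 i j⟩, rfl⟩
  have hNu : IsUnit N.det := by
    refine isUnit_iff_ne_zero.2 fun e => ?_
    have := RingHom.map_det F₀.subtype N
    rw [e, map_zero, RingHom.mapMatrix_apply, hN, ← Units.val_mul] at this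
    exact (Matrix.isUnit_det_of_invertible _).ne_zero this.symm
  refine ⟨B⁻¹, ?_⟩
  rintro _ ⟨g, hg, rfl⟩ i j
  rw [inv_inv]
  have e : ((B⁻¹ : GL (Fin 4) F) : M4) * (g : M4) * (B : M4) =
      N⁻¹.map F₀.subtype * ((C : M4) * (g : M4) * (B : M4)) := by
    have hinv : N⁻¹.map F₀.subtype * ((C : M4) * (B : M4)) = 1 := by
      rw [← hN, ← Matrix.map_mul, Matrix.nonsing_inv_mul _ hNu, Matrix.map_one _ (map_zero _) (map_one _)]
    calc ((B⁻¹ : GL (Fin 4) F) : M4) * (g : M4) * (B : M4)
        = N⁻¹.map F₀.subtype * ((C : M4) * (B : M4)) * (((B⁻¹ : GL (Fin 4) F) : M4) * (g : M4) * (B : M4)) := by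
          rw [hinv, one_mul]
      _ = _ := by simp only [mul_assoc, Units.mul_inv_cancel_left]
  rw [e, Matrix.mul_apply]
  exact Subfield.sum_mem F₀ fun k _ => F₀.mul_mem (by rw [Matrix.map_apply]; exact (N⁻¹ i k).2) (hCXB _ (hA g hg) k j)

end CfsgLib.CMax.SpFourRes
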