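import Cfsg.Agent.Lib.CMax.SpFourRes.Iso

/-!
# Simple irreducible groups containing a transvection
-/

set_option autoImplicit false
set_option linter.all false

namespace CfsgLib.CMax.SpFourRes

open Matrix Cfsg.Lie

variable {F : Type*} [Field F] [CharP F 2] [Fintype F]

/-- The trichotomy for a simple irreducible group with a transvection. -/
theorem trans_cases {P : Subgroup (GL (Fin 4) F)} (hb : Base P) (hA : (A P).Nonempty)
    (hF : ∃ μ : F, μ ≠ 0 ∧ μ ≠ 1) :
    (∀ v : Fin 4 → F, v ≠ 0 → v ∈ A P) ∨ QuadFix P ∨ RatSp P := by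
  classical
  by_cases hI : ∀ a ∈ A P, ∀ s : F, s • a ∈ A P → s = 1
  · by_cases hfr : HasFrame P
    · exact Or.inr ((cases_of_frame hb hI hfr).imp id fun h => ⟨K2 F, K2_ne_top hF, h⟩)
    · exact Or.inr (Or.inr ⟨K2 F, K2_ne_top hF, rat_of_noFrame hb hI hA hfr⟩)
  · push Not at hI
    obtain ⟨a, ha, s, hs, hs1⟩ := hI
    exact (big_cases hb ha ⟨s, fun e => hs.1 (by rw [e, zero_smul]), hs1, hs⟩).imp id Or.inr

end CfsgLib.CMax.SpFourRes
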