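import Cfsg.Agent.Lib.CMax.SpFourRes.Main
import Cfsg.Agent.Lib.Perm.Elusive.TensorSymp
import Cfsg.Agent.Lib.Classical.SpOrder

/-!
# From coordinates indexed by a sum to four coordinates
-/

set_option autoImplicit false
set_option linter.all false

namespace CfsgLib.CMax.SpFourRes

open Matrix Cfsg.Lie
open Cfsg.Geo

variable {F : Type*} [Field F]

local notation "I2" => Fin 2 ⊕ Fin 2

/-- The renumbering. -/
def idx : Fin 2 ⊕ Fin 2 ≃ Fin 4 where
  toFun := Sum.elim ![0, 1] ![3, 2]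
  invFun := ![Sum.inl 0, Sum.inl 1, Sum.inr 1, Sum.inr 0]
  left_inv := by decide
  right_inv := by decide

/-- The renumbered group. -/
noncomputable def gl4 : GL (Fin 2 ⊕ Fin 2) F ≃* GL (Fin 4) F :=
  Units.mapEquiv (Matrix.reindexAlgEquiv F F idx).toMulEquiv

theorem gl4_val (g : GL (Fin 2 ⊕ Fin 2) F) :
    (Units.val (gl4 g) : Matrix (Fin 4) (Fin 4) F) = Matrix.reindex idx idx g.1 := rfl

theorem reindex_mulVec (M : Matrix (Fin 2 ⊕ Fin 2) (Fin 2 ⊕ Fin 2) F) (v : Fin 2 ⊕ Fin 2 → F) :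
    Matrix.reindex idx idx M *ᵥ (v ∘ idx.symm) = (M *ᵥ v) ∘ idx.symm := by
  funext i
  simp only [Matrix.mulVec, dotProduct, Matrix.reindex_apply, Matrix.submatrix_apply, Function.comp]
  exact Equiv.sum_comp idx.symm (fun j => M (idx.symm i) j * v j)

variable [CharP F 2]

theorem form_eq (u v : Fin 2 ⊕ Fin 2 → F) :
    Cfsg.sympForm 2 F u v = altForm4 (u ∘ idx.symm) (v ∘ idx.symm) := by
  simp [Cfsg.sympForm, Matrix.J, altForm4, idx, Matrix.mulVec, dotProduct, Fintype.sum_sum_type,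
    Fin.sum_univ_two, Matrix.fromBlocks, CharTwo.neg_eq]
  ring

theorem comp_idx (u : Fin 4 → F) : (u ∘ idx) ∘ idx.symm = u := by
  funext i; simp

theorem gl4_mem_iff (g : GL (Fin 2 ⊕ Fin 2) F) : gl4 g ∈ Sp4 F ↔ g ∈ Cfsg.spGL 2 F := by
  constructor
  · intro h u v
    show Cfsg.sympForm 2 F (g.1 *ᵥ u) (g.1 *ᵥ v) = Cfsg.sympForm 2 F u v
    rw [form_eq, form_eq, ← reindex_mulVec, ← reindex_mulVec]
    exact h _ _
  · intro h u v
    show altForm4 ((gl4 g).1 *ᵥ u) ((gl4 g).1 *ᵥ v) = altForm4 u v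
    rw [gl4_val, ← comp_idx u, ← comp_idx v, reindex_mulVec, reindex_mulVec, ← form_eq, ← form_eq]
    exact h _ _

theorem card_sp4_le [Fintype F] : Nat.card (Sp4 F) ≤ Fintype.card F ^ 10 := by
  have e : Nat.card (Sp4 F) = Nat.card (Cfsg.spGL 2 F) :=
    (Nat.card_congr (gl4.toEquiv.subtypeEquiv fun g => (gl4_mem_iff g).symm)).symm
  rw [e, CfsgLib.Perm.Elusive.card_spGL, CfsgLib.Classical.card_symplectic, Finset.prod_range_succ,
    Finset.prod_range_one]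
  calc Fintype.card F ^ 2 ^ 2 * ((Fintype.card F ^ (2 * (0 + 1)) - 1) * (Fintype.card F ^ (2 * (1 + 1)) - 1))
      ≤ Fintype.card F ^ 2 ^ 2 * (Fintype.card F ^ (2 * (0 + 1)) * Fintype.card F ^ (2 * (1 + 1))) :=
        Nat.mul_le_mul_left _ (Nat.mul_le_mul (Nat.sub_le _ _) (Nat.sub_le _ _))
    _ = _ := by ring

theorem scalars_inf_sp {g : GL (Fin 2 ⊕ Fin 2) F} (hs : g ∈ scalars (Fin 2 ⊕ Fin 2) F)
    (hg : g ∈ Cfsg.spGL 2 F) : g = 1 := by
  obtain ⟨c, hc⟩ := (mem_scalars_iff g).1 hs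
  have h : Cfsg.sympForm 2 F (g.1 *ᵥ Pi.single (Sum.inl 0) 1) (g.1 *ᵥ Pi.single (Sum.inr 0) 1) =
      Cfsg.sympForm 2 F (Pi.single (Sum.inl 0) 1) (Pi.single (Sum.inr 0) 1) := hg _ _
  rw [hc] at h
  simp [form_eq, altForm4, idx, Matrix.smul_mulVec] at h
  have h1 : ((c : F) - 1) ^ 2 = 0 := by
    linear_combination h + (1 - (c : F)) * (CharTwo.two_eq_zero : (2 : F) = 0)
  apply Units.ext
  rw [hc, sub_eq_zero.1 ((pow_eq_zero_iff two_ne_zero).1 h1), one_smul, Units.val_one]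

theorem absIrr_map {P : Subgroup (GL (Fin 2 ⊕ Fin 2) F)} (h : ActsAbsolutelyIrreducibly (matrixSet P)) :
    ActsAbsolutelyIrreducibly (matrixSet (P.map gl4.toMonoidHom)) := by
  refine ⟨fun W hW => ?_, fun M hM => ?_⟩
  · let f : (Fin 2 ⊕ Fin 2 → F) ≃ₗ[F] (Fin 4 → F) := LinearEquiv.funCongrLeft F F idx.symm
    have hf : ∀ v, f v = v ∘ idx.symm := fun v => rfl
    have hW' : W.comap f.toLinearMap = ⊥ ∨ W.comap f.toLinearMap = ⊤ := h.1 _ fun s hs => by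
      obtain ⟨g, hg, rfl⟩ := hs
      rintro _ ⟨v, hv, rfl⟩
      show f (Matrix.toLin' g.1 v) ∈ W
      rw [Matrix.toLin'_apply, hf, ← reindex_mulVec]
      exact hW _ ⟨gl4 g, ⟨g, hg, rfl⟩, rfl⟩ ⟨f v, hv, Matrix.toLin'_apply _ _⟩
    have e : W = (W.comap f.toLinearMap).map f.toLinearMap :=
      (Submodule.map_comap_eq_of_surjective f.surjective W).symm
    rcases hW' with h0 | h0
    · left; rw [e, h0, Submodule.map_bot]
    · right; rw [e, h0, Submodule.map_top, LinearEquiv.range]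
  · obtain ⟨c, hc⟩ := h.2 ((Matrix.reindexAlgEquiv F F idx).symm M) (by
      rintro _ ⟨g, hg, rfl⟩
      apply (Matrix.reindexAlgEquiv F F idx).injective
      rw [map_mul, map_mul, AlgEquiv.apply_symm_apply]
      exact hM _ ⟨gl4 g, ⟨g, hg, rfl⟩, rfl⟩)
    refine ⟨c, ?_⟩
    have := congrArg (Matrix.reindexAlgEquiv F F idx) hc
    rwa [AlgEquiv.apply_symm_apply, map_smul, map_one] at this

theorem realisable_of_map {P : Subgroup (GL (Fin 2 ⊕ Fin 2) F)} {K : Subfield F}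
    (h : RealisableOver K (matrixSet (P.map gl4.toMonoidHom))) : RealisableOver K (matrixSet P) := by
  obtain ⟨B, hB⟩ := h
  refine ⟨gl4.symm B, ?_⟩
  rintro _ ⟨g, hg, rfl⟩ i j
  have := hB _ ⟨gl4 g, ⟨g, hg, rfl⟩, rfl⟩ (idx i) (idx j)
  have e : ((gl4.symm B).1 * g.1 * ((gl4.symm B)⁻¹).1) i j = (B.1 * (gl4 g).1 * (B⁻¹).1) (idx i) (idx j) := by
    rw [← Units.val_mul, ← Units.val_mul, ← Units.val_mul, ← Units.val_mul]
    conv_rhs => rw [show B * gl4 g * B⁻¹ = gl4 (gl4.symm B * g * (gl4.symm B)⁻¹) by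
      rw [map_mul, map_mul, map_inv, MulEquiv.apply_symm_apply]]
    rw [gl4_val]
    simp
  exact e ▸ this

theorem quad_of_map {P : Subgroup (GL (Fin 2 ⊕ Fin 2) F)} (h : QuadFix (P.map gl4.toMonoidHom)) :
    ∃ Q : (Fin 2 ⊕ Fin 2 → F) → F, IsNondegenerateQuadraticForm Q ∧ FixesQuadForm (matrixSet P) Q := by
  obtain ⟨Q, hadd, hsmul, hfix⟩ := h
  refine ⟨fun v => Q (v ∘ idx.symm), ?_, ?_⟩
  · have hp : QuadraticMap.polar (fun v : Fin 2 ⊕ Fin 2 → F => Q (v ∘ idx.symm)) = Cfsg.sympForm 2 F := by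
      funext u v
      rw [form_eq, QuadraticMap.polar]
      show Q (u ∘ idx.symm + v ∘ idx.symm) - _ - _ = _
      rw [hadd]; ring
    refine ⟨fun c v => hsmul c _, ?_, ?_⟩
    · rw [hp]
      exact ⟨fun x y v => by simp only [form_eq]; exact f_add_l _ _ _,
        fun c x v => by simp only [form_eq]; exact f_smul_l c _ _,
        fun v x y => by simp only [form_eq]; exact f_add_r _ _ _,
        fun c v x => by simp only [form_eq]; exact f_smul_r c _ _⟩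
    · rw [hp]
      intro v hv
      have hv' : v ∘ idx.symm ≠ 0 := fun e => hv (funext fun i => by simpa using congrFun e (idx i))
      obtain ⟨⟨x, hx⟩, ⟨y, hy⟩⟩ := (isSymplectic_f (F := F)).nondegenerate _ hv'
      exact ⟨⟨x ∘ idx, by rwa [form_eq, comp_idx]⟩, ⟨y ∘ idx, by rwa [form_eq, comp_idx]⟩⟩
  · rintro _ ⟨g, hg, rfl⟩ v
    show Q ((g.1 *ᵥ v) ∘ idx.symm) = _
    rw [← reindex_mulVec]
    exact hfix _ ⟨g, hg, rfl⟩ _

end CfsgLib.CMax.SpFourRes
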