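import Cfsg.Agent.Lib.CMax.SpFourRes.Big
import Cfsg.Agent.Lib.CMax.SpFourRes.Plane

/-!
# Three transvection centres, all centres being isolated

Either the third lies over the conic of the first two, or the normalised radical vector of the three is a centre.
-/

set_option autoImplicit false
set_option linter.all false

namespace CfsgLib.CMax.SpFourRes

open Matrix Cfsg.Lie

variable {F : Type*} [Field F] [CharP F 2]

local notation "V" => Fin 4 → F
local notation "G4" => GL (Fin 4) F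
local notation "S2" => Matrix.SpecialLinearGroup (Fin 2) F
local notation "V2" => Fin 2 → F
local notation:100 g:100 " ⬝ₐ " v:101 => (Units.val g : Matrix (Fin 4) (Fin 4) F) *ᵥ v
local notation:100 g:100 " ⬝₂ " v:101 => ((g : S2) : Matrix (Fin 2) (Fin 2) F) *ᵥ v

/-- The quadratic form of the plane of `b`, `c` with both of value one, applied to the projection. -/
def qv4 (b c x : V) : F :=
  (altForm4 x c / altForm4 b c) ^ 2 + (altForm4 x b / altForm4 b c) ^ 2 +
    altForm4 b c * (altForm4 x c / altForm4 b c) * (altForm4 x b / altForm4 b c)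

/-- The form on projections. -/
def pl (b c u v : V) : F := (altForm4 u c * altForm4 v b + altForm4 u b * altForm4 v c) / altForm4 b c

theorem f_pr (b c u v : V) : altForm4 (pr b c u) (pr b c v) = pl b c u v := by
  simp only [pr, pl, f_smul_l, f_smul_r, f_add_l, f_add_r, f_self, f_comm c b, mul_zero, zero_add, add_zero]
  by_cases h : altForm4 b c = 0
  · simp [h]
  · field_simp; ring

theorem f_eq_pl {b c : V} (h : altForm4 b c ≠ 0) (u v : V) :
    altForm4 u v = pl b c u v + altForm4 (rest b c u) (rest b c v) := by rw [f_pr_pr h u v, f_pr]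

theorem qv4_add {b c : V} (h : altForm4 b c ≠ 0) (u v : V) :
    qv4 b c (u + v) = qv4 b c u + qv4 b c v + pl b c u v := by
  simp only [qv4, pl, f_add_l]
  field_simp
  linear_combination (altForm4 u c * altForm4 v c + altForm4 u b * altForm4 v b) * (CharTwo.two_eq_zero : (2 : F) = 0)

theorem qv4_smul (b c : V) (k : F) (v : V) : qv4 b c (k • v) = k ^ 2 * qv4 b c v := by
  simp only [qv4, f_smul_l]; ring

theorem qv4_left {b c : V} (h : altForm4 b c ≠ 0) : qv4 b c b = 1 := by
  simp only [qv4, f_self]; field_simp; ring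

theorem qv4_right {b c : V} (h : altForm4 b c ≠ 0) : qv4 b c c = 1 := by
  simp only [qv4, f_self, f_comm c b]; field_simp; ring

theorem pr_eq_zero_iff {b c : V} (h : altForm4 b c ≠ 0) {x : V} :
    pr b c x = 0 ↔ altForm4 x b = 0 ∧ altForm4 x c = 0 :=
  ⟨fun e => ⟨by rw [← f_pr_left h, e, f_zero_l], by rw [← f_pr_right h, e, f_zero_l]⟩,
    fun e => by simp [pr, e.1, e.2]⟩

theorem qv4_perp {b c u : V} (hb : altForm4 u b = 0) (hc : altForm4 u c = 0) : qv4 b c u = 0 := by
  simp [qv4, hb, hc]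

variable [Finite F] {P : Subgroup (GL (Fin 4) F)}

/-- The transvection at the radical of three centres. -/
theorem triple (hb : Base P) (hI : ∀ a ∈ A P, ∀ s : F, s • a ∈ A P → s = 1) {b c x : V} (hbA : b ∈ A P)
    (hcA : c ∈ A P) (hxA : x ∈ A P) (hbc : altForm4 b c ≠ 0) :
    qv4 b c x = 1 ∨ (1 + sr (qv4 b c x))⁻¹ • rest b c x ∈ A P := by
  classical
  by_cases hq : qv4 b c x = 1
  · exact Or.inl hq
  right
  by_cases h0 : altForm4 x b = 0 ∧ altForm4 x c = 0
  · have hr : rest b c x = x := by rw [rest, (pr_eq_zero_iff hbc).2 h0, add_zero]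
    rw [qv4_perp h0.1 h0.2, sr_of_sq (zero_pow two_ne_zero), add_zero, inv_one, one_smul, hr]
    exact hxA
  obtain ⟨co, hco⟩ : ∃ co : V → V2, ∀ v, co v = ![altForm4 v c / altForm4 b c, altForm4 v b] :=
    ⟨_, fun _ => rfl⟩
  have hd : ∀ u, Plane.d2 (co u) (co b) = altForm4 u b ∧ Plane.d2 (co u) (co c) = altForm4 u c := fun u => by
    simp only [hco, Plane.d2, Matrix.cons_val_zero, Matrix.cons_val_one, Matrix.head_cons, f_self, f_comm c b,
      zero_div, mul_zero, zero_mul, add_zero, zero_add]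
    constructor <;> field_simp
  have hdbc : Plane.d2 (co b) (co c) = altForm4 b c := (hd b).2
  have hqv : Plane.qv (co b) (co c) (co x) = qv4 b c x := by rw [Plane.qv, (hd x).1, (hd x).2, hdbc]; rfl
  obtain ⟨lin, hlin⟩ : ∃ lin : V2 → V, ∀ p, lin p = p 0 • b + (p 1 / altForm4 b c) • c := ⟨_, fun _ => rfl⟩
  have hlin_co : ∀ v, lin (co v) = pr b c v := fun v => by
    rw [hlin, hco, pr, smul_add, smul_smul, smul_smul]
    simp only [Matrix.cons_val_zero, Matrix.cons_val_one, Matrix.head_cons, div_eq_inv_mul]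
  have hflin : ∀ p q, altForm4 (lin p) (lin q) = Plane.d2 p q := fun p q => by
    simp only [hlin, f_add_l, f_add_r, f_smul_l, f_smul_r, f_self, f_comm c b, Plane.d2]
    field_simp; ring
  obtain ⟨ρ, hρ⟩ : ∃ ρ, ρ = 1 + sr (qv4 b c x) := ⟨_, rfl⟩
  have hρ0 : ρ ≠ 0 := fun e => hq (by
    rw [hρ, CharTwo.add_eq_zero] at e
    rw [← sr_sq (qv4 b c x), ← e, one_pow])
  obtain ⟨r, hr⟩ : ∃ r, r = ρ⁻¹ • rest b c x := ⟨_, rfl⟩
  rw [← hρ, ← hr]
  have hrlin : ∀ p, altForm4 r (lin p) = 0 := fun p => by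
    rw [hr, hlin, f_add_r, f_smul_r, f_smul_r, f_smul_l, f_smul_l, f_rest_left hbc, f_rest_right hbc]; ring
  let nq : V2 → F := fun p => sr (Plane.qv (co b) (co c) p)
  have hnq : ∀ p (φ : F) (p0 : V2), Plane.d2 p p0 = φ → nq (p + φ • p0) = nq p + φ * nq p0 + φ := fun p φ p0 h =>
    sr_of_sq (by
      rw [Plane.qv_add (by rw [hdbc]; exact hbc), Plane.qv_smul, Plane.d2_smul_r, h, CharTwo.add_sq,
        CharTwo.add_sq, mul_pow, sr_sq, sr_sq, pow_two φ])
  let Good : G4 → S2 → Prop := fun g h =>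
    ∀ p t, g ⬝ₐ (lin p + t • r) = lin (h ⬝₂ p) + (t + nq (h ⬝₂ p) + nq p) • r
  have hgen : ∀ (w : V) (p0 : V2), w = lin p0 + (1 + nq p0) • r → Good (tv w) (Plane.tau p0) := by
    intro w p0 hw p t
    rw [tv_apply, hw, Plane.tau_apply, hnq p _ p0 rfl]
    have e : altForm4 (lin p + t • r) (lin p0 + (1 + nq p0) • r) = Plane.d2 p p0 := by
      simp only [f_add_l, f_add_r, f_smul_l, f_smul_r, hflin, f_comm (lin p) r, hrlin, f_self]; ring
    rw [e]
    have el : lin (p + Plane.d2 p p0 • p0) = lin p + Plane.d2 p p0 • lin p0 := by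
      simp only [hlin, Pi.add_apply, Pi.smul_apply, smul_eq_mul, add_div, mul_div_assoc]; module
    rw [el]
    have e2 : t + (nq p + Plane.d2 p p0 * nq p0 + Plane.d2 p p0) + nq p =
        t + Plane.d2 p p0 * (1 + nq p0) := by
      linear_combination (nq p) * (CharTwo.two_eq_zero : (2 : F) = 0)
    rw [e2]
    module
  let G : Subgroup S2 := Subgroup.closure {Plane.tau (co b), Plane.tau (co c), Plane.tau (co x)}
  have hqb : nq (co b) = 1 := sr_of_sq (by
    rw [one_pow, Plane.qv, (hd b).1, (hd b).2, f_self]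
    field_simp; ring)
  have hqc : nq (co c) = 1 := sr_of_sq (by
    rw [one_pow, Plane.qv, (hd c).1, (hd c).2, hdbc, f_self, f_comm c b]
    field_simp; ring)
  have hG : ∀ h ∈ G, ∃ g ∈ P, Good g h := by
    intro h hh
    have key : ∀ h ∈ ({Plane.tau (co b), Plane.tau (co c), Plane.tau (co x)} : Set S2), ∃ g ∈ P, Good g h := by
      rintro _ (rfl | rfl | rfl)
      · refine ⟨tv b, hbA.2, hgen b _ ?_⟩
        rw [hqb, CharTwo.add_self_eq_zero, zero_smul, add_zero, hlin_co]
        rw [pr, f_self, zero_smul, add_zero, smul_smul, inv_mul_cancel₀ hbc, one_smul]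
      · refine ⟨tv c, hcA.2, hgen c _ ?_⟩
        rw [hqc, CharTwo.add_self_eq_zero, zero_smul, add_zero, hlin_co]
        rw [pr, f_self, zero_smul, zero_add, f_comm c b, smul_smul, inv_mul_cancel₀ hbc, one_smul]
      · refine ⟨tv x, hxA.2, hgen x _ ?_⟩
        have e : nq (co x) = sr (qv4 b c x) := congrArg sr hqv
        rw [hlin_co, e, ← hρ, hr, smul_smul, mul_inv_cancel₀ hρ0, one_smul, pr_add_rest]
    induction hh using Subgroup.closure_induction_left with
    | one => exact ⟨1, P.one_mem, fun p t => by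
        rw [Units.val_one, Matrix.one_mulVec, Plane.one_apply, add_assoc, CharTwo.add_self_eq_zero, add_zero]⟩
    | mul_left h1 h1m h2 _ ih =>
      obtain ⟨g1, hg1, e1⟩ := key h1 h1m
      obtain ⟨g2, hg2, e2⟩ := ih
      refine ⟨g1 * g2, P.mul_mem hg1 hg2, fun p t => ?_⟩
      rw [Units.val_mul, ← Matrix.mulVec_mulVec, e2, e1, Plane.mul_apply]
      congr 2
      linear_combination (nq (h2 ⬝₂ p)) * (CharTwo.two_eq_zero : (2 : F) = 0)
    | inv_mul_cancel h1 h1m h2 _ ih =>
      obtain ⟨g1, hg1, e1⟩ := key h1 h1m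
      obtain ⟨g2, hg2, e2⟩ := ih
      refine ⟨g1⁻¹ * g2, P.mul_mem (P.inv_mem hg1) hg2, fun p t => ?_⟩
      have e := e1 ((h1⁻¹ * h2) ⬝₂ p) (t + nq ((h1⁻¹ * h2) ⬝₂ p) + nq p)
      rw [← Plane.mul_apply, mul_inv_cancel_left] at e
      have et : t + nq ((h1⁻¹ * h2) ⬝₂ p) + nq p + nq (h2 ⬝₂ p) + nq ((h1⁻¹ * h2) ⬝₂ p) =
          t + nq (h2 ⬝₂ p) + nq p := by
        linear_combination (nq ((h1⁻¹ * h2) ⬝₂ p)) * (CharTwo.two_eq_zero : (2 : F) = 0)
      rw [et, ← e2] at e
      rw [Units.val_mul, ← Matrix.mulVec_mulVec, ← e, inv_mulVec]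
  have hx0 : co x ≠ 0 := fun e => h0 ⟨by rw [← (hd x).1, e]; simp [Plane.d2],
    by rw [← (hd x).2, e]; simp [Plane.d2]⟩
  rcases Plane.cases_conic G hx0 (by rw [hdbc]; exact hbc) (Subgroup.subset_closure (by simp))
      (Subgroup.subset_closure (by simp)) (Subgroup.subset_closure (by simp)) with e | ⟨k, hk0, hk1, g, hg, h, hh, hge, hhe⟩
  · exact absurd (hqv ▸ e) hq
  have img : ∀ {i : F} {j : S2}, j ∈ G → j ⬝₂ co b = i • co b → i • b + (1 + i) • r ∈ A P := by
    intro i j hj hje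
    obtain ⟨g', hg', e⟩ := hG j hj
    have e' := e (co b) 0
    rw [zero_smul, add_zero, hje] at e'
    have hb1 : lin (co b) = b := by
      rw [hlin_co, pr, f_self, zero_smul, add_zero, smul_smul, inv_mul_cancel₀ hbc, one_smul]
    have hbi : lin (i • co b) = i • b := by
      conv_rhs => rw [← hb1]
      simp only [hlin, Pi.smul_apply, smul_eq_mul, smul_add, smul_smul, mul_div_assoc]
    have hnqi : nq (i • co b) = i := sr_of_sq (by
      rw [Plane.qv_smul, ← sr_sq (Plane.qv _ _ (co b))]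
      show i ^ 2 = i ^ 2 * nq (co b) ^ 2
      rw [hqb, one_pow, mul_one])
    rw [hb1, hbi, hnqi, hqb, zero_add, add_comm i 1] at e'
    exact e' ▸ hb.A_map hg' hbA
  have h2 := img hg hge
  have h3 := img hh hhe
  have e13 : (1 : F) + (1 + k) = k := by linear_combination (CharTwo.two_eq_zero : (2 : F) = 0)
  rw [e13] at h3
  by_cases hr0 : r = 0
  · rw [hr0, smul_zero, add_zero] at h2
    exact absurd (hI b hbA k h2) hk1
  refine ⟨hr0, ?_⟩
  have hbr : altForm4 b r = 0 := by rw [f_comm, hr, f_smul_l, f_rest_left hbc, mul_zero]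
  have e : tv b * tv (k • b + (1 + k) • r) * tv ((1 + k) • b + k • r) = tv r := gl_ext fun y => by
    simp only [Units.val_mul, ← Matrix.mulVec_mulVec, tv_apply, f_add_l, f_add_r, f_smul_l, f_smul_r, f_self, hbr,
      f_comm r b, mul_zero, add_zero, zero_add, smul_add, smul_smul, add_assoc]
    match_scalars
    · rfl
    · linear_combination (altForm4 y b * (1 + k + k ^ 2) + altForm4 y r * k * (1 + k)) *
        (CharTwo.two_eq_zero : (2 : F) = 0)
    · linear_combination (altForm4 y b * k * (1 + k) + altForm4 y r * (k + k ^ 2)) *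
        (CharTwo.two_eq_zero : (2 : F) = 0)
  exact e ▸ P.mul_mem (P.mul_mem hbA.2 h2.2) h3.2

end CfsgLib.CMax.SpFourRes
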