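import Cfsg.Agent.Lib.CMax.SpFourRes.NoTv
import Cfsg.Agent.Lib.CIT.Basic

/-!
# No element mapped to a transvection by the exceptional endomorphism; the socle is a CIT group
-/

set_option autoImplicit false
set_option linter.all false

namespace CfsgLib.CMax.SpFourRes

open Matrix Cfsg.Lie
open Cfsg.Geo (matrixSet ActsAbsolutelyIrreducibly RealisableOver)

variable {F : Type*} [Field F] [Fintype F] [CharP F 2]

local notation "V" => Fin 4 → F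
local notation "M4" => Matrix (Fin 4) (Fin 4) F
local notation "G4" => GL (Fin 4) F
local notation:100 g:100 " ⬝ₐ " v:101 => (Units.val g : Matrix (Fin 4) (Fin 4) F) *ᵥ v

variable {P : Subgroup (GL (Fin 4) F)}

theorem Core.tw_base (hc : Core P) [PerfectRing F 2] : Base (tw P) := by
  let f : P →* G4 := ((Sp4 F).subtype.comp st).comp (Subgroup.inclusion hc.le)
  have hinj : Function.Injective f :=
    (Subtype.val_injective.comp st_injective).comp (Subgroup.inclusion_injective hc.le)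
  have hr : f.range = tw P := by
    ext h
    refine ⟨fun ⟨g, e⟩ => mem_tw.2 ⟨⟨g, hc.le g.2⟩, g.2, e⟩, fun h' => ?_⟩
    obtain ⟨g, hg, e⟩ := mem_tw.1 h'
    exact ⟨⟨g, hg⟩, e⟩
  haveI := hc.simple
  have hs : IsSimpleGroup (tw P) := hr ▸ (MonoidHom.ofInjective hinj).symm.isSimpleGroup
  have hna : ∃ x ∈ tw P, ∃ y ∈ tw P, x * y ≠ y * x := by
    obtain ⟨x, hx, y, hy, hxy⟩ := hc.nonab
    refine ⟨f ⟨x, hx⟩, hr ▸ ⟨_, rfl⟩, f ⟨y, hy⟩, hr ▸ ⟨_, rfl⟩, fun e => hxy ?_⟩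
    rw [← map_mul, ← map_mul] at e
    exact congrArg Subtype.val (hinj e)
  exact ⟨tw_le, hs, hna, tw_irred hc hs hna⟩

/-- Extension of a quadratic form to a larger field. -/
theorem exists_lift_quad {K : Type*} [Field K] [CharP K 2] (κ : F →+* K) (Q : V → F)
    (hadd : ∀ u v, Q (u + v) = Q u + Q v + altForm4 u v) (hsmul : ∀ (c : F) v, Q (c • v) = c ^ 2 * Q v) :
    ∃ QK : (Fin 4 → K) → K, (∀ u v, QK (u + v) = QK u + QK v + altForm4 u v) ∧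
      (∀ (c : K) v, QK (c • v) = c ^ 2 * QK v) ∧ ∀ w : V, QK (fun i => κ (w i)) = κ (Q w) := by
  refine ⟨fun v => κ (Q (Pi.single 0 1)) * v 0 ^ 2 + κ (Q (Pi.single 1 1)) * v 1 ^ 2 +
    κ (Q (Pi.single 2 1)) * v 2 ^ 2 + κ (Q (Pi.single 3 1)) * v 3 ^ 2 + v 0 * v 3 + v 1 * v 2,
    fun u v => ?_, fun c v => ?_, fun w => ?_⟩
  · simp only [Pi.add_apply, altForm4, CharTwo.add_sq]; ring
  · simp only [Pi.smul_apply, smul_eq_mul]; ring
  · conv_rhs => rw [show w = w 0 • Pi.single 0 1 + w 1 • Pi.single 1 1 + w 2 • Pi.single 2 1 + w 3 • Pi.single 3 (1 : F) by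
      funext i; fin_cases i <;> simp [Pi.single_apply]]
    rw [hadd, hadd, hadd]
    simp [hsmul, f_add_l, f_smul_l, f_smul_r, altForm4, map_add, map_mul, map_pow]
    ring

theorem lift_quad_fix {K : Type*} [Field K] [CharP K 2] (κ : F →+* K) {Q : V → F} {QK : (Fin 4 → K) → K}
    (hQK : ∀ u v, QK (u + v) = QK u + QK v + altForm4 u v) (hQKs : ∀ (c : K) v, QK (c • v) = c ^ 2 * QK v)
    (hQv : ∀ w : V, QK (fun i => κ (w i)) = κ (Q w)) {g : G4} (hg : g ∈ Sp4 F) (hfix : ∀ v, Q (g ⬝ₐ v) = Q v)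
    (v : Fin 4 → K) : QK ((Units.val g : M4).map κ *ᵥ v) = QK v := by
  have hcol : ∀ i, QK ((Units.val g : M4).map κ *ᵥ Pi.single i 1) = QK (Pi.single i 1) := fun i => by
    have e1 : (fun k => κ ((Pi.single i 1 : V) k)) = Pi.single i 1 := by
      funext k
      by_cases hk : k = i
      · subst hk; simp
      · simp [hk]
    rw [← e1, hQv, ← congrArg κ (hfix (Pi.single i 1)), ← hQv]
    congr 1
    funext k
    exact (RingHom.map_mulVec κ (Units.val g : M4) (Pi.single i 1) k).symm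
  have hsp : ∀ u w, altForm4 ((Units.val g : M4).map κ *ᵥ u) ((Units.val g : M4).map κ *ᵥ w) = altForm4 u w :=
    fun u w => ext_mem_sp κ hg u w
  conv_rhs => rw [pi_eq_sum_univ' v]
  conv_lhs => rw [pi_eq_sum_univ' v]
  simp only [Fin.sum_univ_four, Matrix.mulVec_add, Matrix.mulVec_smul, hQK, hQKs, hcol, f_add_l, f_smul_l,
    f_smul_r, hsp]

/-- A matrix preserves the pair of planes. -/
def Pr {K : Type*} [Zero K] (M : Matrix (Fin 4) (Fin 4) K) : Prop :=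
  M 1 0 = 0 ∧ M 2 0 = 0 ∧ M 1 3 = 0 ∧ M 2 3 = 0 ∧ M 0 1 = 0 ∧ M 3 1 = 0 ∧ M 0 2 = 0 ∧ M 3 2 = 0

/-- A matrix exchanges the pair of planes. -/
def Sw {K : Type*} [Zero K] (M : Matrix (Fin 4) (Fin 4) K) : Prop :=
  M 0 0 = 0 ∧ M 3 0 = 0 ∧ M 0 3 = 0 ∧ M 3 3 = 0 ∧ M 1 1 = 0 ∧ M 2 1 = 0 ∧ M 1 2 = 0 ∧ M 2 2 = 0

theorem planes_cases {K : Type*} [Field K] [CharP K 2] {g : GL (Fin 4) K} (hsp : g ∈ Sp4 K)
    (hcols : ∀ r, (g.1 1 r = 0 ∧ g.1 2 r = 0) ∨ (g.1 0 r = 0 ∧ g.1 3 r = 0)) : Pr g.1 ∨ Sw g.1 := by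
  have h0 := hcols 0
  have h1 := hcols 1
  have h2 := hcols 2
  have h3 := hcols 3
  have c03 := CfsgLib.Char.SuzukiGraph.col_rel hsp 0 3
  have c12 := CfsgLib.Char.SuzukiGraph.col_rel hsp 1 2
  have c01 := CfsgLib.Char.SuzukiGraph.col_rel hsp 0 1
  have c13 := CfsgLib.Char.SuzukiGraph.col_rel hsp 1 3
  have c02 := CfsgLib.Char.SuzukiGraph.col_rel hsp 0 2
  have c23 := CfsgLib.Char.SuzukiGraph.col_rel hsp 2 3
  rw [if_pos (by decide)] at c03 c12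
  rw [if_neg (by decide)] at c01 c13 c02 c23
  have s03 : (g.1 1 0 = 0 ∧ g.1 2 0 = 0 ∧ g.1 1 3 = 0 ∧ g.1 2 3 = 0) ∨ (g.1 0 0 = 0 ∧ g.1 3 0 = 0 ∧ g.1 0 3 = 0 ∧ g.1 3 3 = 0) := by
    rcases h0 with ⟨a, b⟩ | ⟨a, b⟩ <;> rcases h3 with ⟨c, d⟩ | ⟨c, d⟩
    · exact Or.inl ⟨a, b, c, d⟩
    · rw [a, b, c, d] at c03; simp at c03
    · rw [a, b, c, d] at c03; simp at c03
    · exact Or.inr ⟨a, b, c, d⟩
  have s12 : (g.1 0 1 = 0 ∧ g.1 3 1 = 0 ∧ g.1 0 2 = 0 ∧ g.1 3 2 = 0) ∨ (g.1 1 1 = 0 ∧ g.1 2 1 = 0 ∧ g.1 1 2 = 0 ∧ g.1 2 2 = 0) := by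
    rcases h1 with ⟨a, b⟩ | ⟨a, b⟩ <;> rcases h2 with ⟨c, d⟩ | ⟨c, d⟩
    · exact Or.inr ⟨a, b, c, d⟩
    · rw [a, b, c, d] at c12; simp at c12
    · rw [a, b, c, d] at c12; simp at c12
    · exact Or.inl ⟨a, b, c, d⟩
  rcases s03 with ⟨a, b, c, d⟩ | ⟨a, b, c, d⟩ <;> rcases s12 with ⟨a', b', c', d'⟩ | ⟨a', b', c', d'⟩
  · exact Or.inl ⟨a, b, c, d, a', b', c', d'⟩
  · rw [a, b] at c01 c02
    rw [c, d] at c13 c23
    rw [a, b, c, d] at c03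
    rw [a', b', c', d'] at c12
    simp only [zero_mul, mul_zero, add_zero, zero_add] at c01 c02 c13 c23 c03 c12
    exact absurd (show g.1 0 1 = 0 ∧ g.1 3 1 = 0 from ⟨by grobner, by grobner⟩) fun hh => by
      rw [hh.1, hh.2] at c12; simp at c12
  · rw [a, b] at c01 c02
    rw [c, d] at c13 c23
    rw [a, b, c, d] at c03
    rw [a', b', c', d'] at c12
    simp only [zero_mul, mul_zero, add_zero, zero_add] at c01 c02 c13 c23 c03 c12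
    exact absurd (show g.1 1 1 = 0 ∧ g.1 2 1 = 0 from ⟨by grobner, by grobner⟩) fun hh => by
      rw [hh.1, hh.2] at c12; simp at c12
  · exact Or.inr ⟨a, b, c, d, a', b', c', d'⟩

theorem planes_mul {K : Type*} [Field K] (M N : Matrix (Fin 4) (Fin 4) K) :
    (Pr M → Pr N → Pr (M * N)) ∧ (Sw M → Pr N → Sw (M * N)) ∧ (Sw M → Sw N → Pr (M * N)) := by
  refine ⟨?_, ?_, ?_⟩ <;>
  · rintro ⟨a1, a2, a3, a4, a5, a6, a7, a8⟩ ⟨b1, b2, b3, b4, b5, b6, b7, b8⟩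
    refine ⟨?_, ?_, ?_, ?_, ?_, ?_, ?_, ?_⟩ <;>
      simp [Matrix.mul_apply, Fin.sum_univ_four, a1, a2, a3, a4, a5, a6, a7, a8, b1, b2, b3, b4, b5, b6, b7, b8]

theorem planes_adjJ {K : Type*} [Field K] (M : Matrix (Fin 4) (Fin 4) K) :
    (Pr M → Pr (CfsgLib.Char.SuzukiGraph.adjJ M)) ∧ (Sw M → Sw (CfsgLib.Char.SuzukiGraph.adjJ M)) := by
  constructor <;>
  · rintro ⟨a1, a2, a3, a4, a5, a6, a7, a8⟩
    refine ⟨?_, ?_, ?_, ?_, ?_, ?_, ?_, ?_⟩ <;> simp [CfsgLib.Char.SuzukiGraph.adjJ, *]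

theorem no_quad_tw (hc : Core P) [PerfectRing F 2] : ¬ QuadFix (tw P) := by
  rintro ⟨Q, hadd, hsmul, hfix⟩
  let κ := algebraMap F (AlgebraicClosure F)
  haveI : CharP (AlgebraicClosure F) 2 := charP_of_injective_ringHom κ.injective 2
  haveI : PerfectRing (AlgebraicClosure F) 2 := PerfectField.toPerfectRing 2
  obtain ⟨QK, hQK, hQKs, hQv⟩ := exists_lift_quad κ Q hadd hsmul
  have hQfix : ∀ g ∈ tw P, ∀ v, QK ((Units.val g : M4).map κ *ᵥ v) = QK v := fun g hg v =>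
    lift_quad_fix κ hQK hQKs hQv (tw_le hg) (hfix g hg) v
  obtain ⟨B, hB, hB0⟩ := exists_hyperbolic QK hQK hQKs
  let ψ : AlgebraicClosure F →+* AlgebraicClosure F := frobenius _ 2
  let ι : F →+* AlgebraicClosure F := ψ.comp κ
  -- the twisted representation
  let Ψ : P →* ↥(Sp4 (AlgebraicClosure F)) :=
    { toFun := fun g => ⟨(st ⟨B, hB⟩).1⁻¹ * ext ι g.1 * (st ⟨B, hB⟩).1,
        mul_mem (mul_mem (inv_mem (st _).2) (ext_mem_sp _ (hc.le g.2))) (st _).2⟩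
      map_one' := Subtype.ext (by simp)
      map_mul' := fun g h => Subtype.ext (by simp [mul_assoc]) }
  have hcols : ∀ g : P, ∀ r, ((Ψ g).1.1 1 r = 0 ∧ (Ψ g).1.1 2 r = 0) ∨ ((Ψ g).1.1 0 r = 0 ∧ (Ψ g).1.1 3 r = 0) := by
    intro g r
    let u : ↥(Sp4 (AlgebraicClosure F)) :=
      ⟨B⁻¹ * ext κ (st ⟨g.1, hc.le g.2⟩).1 * B, mul_mem (mul_mem (inv_mem hB) (ext_mem_sp κ (st _).2)) hB⟩
    have hu : (st u).1 = (Ψ g).1 := by
      have e1 : st ⟨ext κ (st ⟨g.1, hc.le g.2⟩).1, ext_mem_sp κ (st _).2⟩ =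
          ⟨ext ι g.1, ext_mem_sp _ (hc.le g.2)⟩ := Subtype.ext (Units.ext (by
        rw [st_val]
        show star4 ((st ⟨g.1, hc.le g.2⟩).1.1.map κ) = g.1.1.map ι
        rw [star4_map]
        show ((st (st ⟨g.1, hc.le g.2⟩)).1.1).map κ = _
        rw [st_st]
        ext i j
        exact map_pow κ _ _))
      rw [show u = ⟨B, hB⟩⁻¹ * ⟨ext κ (st ⟨g.1, hc.le g.2⟩).1, ext_mem_sp κ (st _).2⟩ * ⟨B, hB⟩ from Subtype.ext rfl,
        map_mul, map_mul, map_inv, e1]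
      rfl
    rw [← hu, st_val]
    refine star_singular u.2 (fun v => ?_) r
    show Q0 ((B⁻¹ * ext κ (st ⟨g.1, hc.le g.2⟩).1 * B).1 *ᵥ v) = _
    rw [Units.val_mul, Units.val_mul, ← Matrix.mulVec_mulVec, ← Matrix.mulVec_mulVec, ← hB0, mulVec_inv]
    exact (hQfix _ (mem_tw.2 ⟨⟨g.1, hc.le g.2⟩, g.2, rfl⟩) _).trans (hB0 v)
  have hor : ∀ g : P, Pr (Ψ g).1.1 ∨ Sw (Ψ g).1.1 := fun g => planes_cases (Ψ g).2 (hcols g)
  have hmul : ∀ g h : P, (Pr (Ψ g).1.1 → Pr (Ψ h).1.1 → Pr (Ψ (g * h)).1.1) ∧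
      (Sw (Ψ g).1.1 → Pr (Ψ h).1.1 → Sw (Ψ (g * h)).1.1) ∧ (Sw (Ψ g).1.1 → Sw (Ψ h).1.1 → Pr (Ψ (g * h)).1.1) := by
    intro g h
    rw [map_mul, Subgroup.coe_mul, Units.val_mul]
    exact planes_mul _ _
  have hinv : ∀ g : P, (Pr (Ψ g).1.1 → Pr (Ψ g⁻¹).1.1) ∧ (Sw (Ψ g).1.1 → Sw (Ψ g⁻¹).1.1) := by
    intro g
    rw [map_inv, Subgroup.coe_inv, CfsgLib.Char.SuzukiGraph.inv_eq_adjJ (Ψ g).2]
    exact planes_adjJ _
  let S : Subgroup P :=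
    { carrier := {g | Pr (Ψ g).1.1}
      one_mem' := by simp [Pr]
      mul_mem' := fun {g h} hg hh => (hmul g h).1 hg hh
      inv_mem' := fun {g} hg => (hinv g).1 hg }
  have hn : S.Normal := ⟨fun s hs g => by
    rcases hor g with hg | hg
    · exact (hmul _ _).1 ((hmul _ _).1 hg hs) ((hinv g).1 hg)
    · exact (hmul _ _).2.2 ((hmul _ _).2.1 hg hs) ((hinv g).2 hg)⟩
  haveI := hc.simple
  rcases hn.eq_bot_or_eq_top with e' | e'
  · obtain ⟨x, hx, y, hy, hxy⟩ := hc.nonab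
    have hsq : ∀ g : P, g * g = 1 := fun g => by
      have : g * g ∈ S := by
        rcases hor g with hg | hg
        exacts [(hmul _ _).1 hg hg, (hmul _ _).2.2 hg hg]
      rwa [e', Subgroup.mem_bot] at this
    refine hxy (congrArg Subtype.val (show (⟨x, hx⟩ * ⟨y, hy⟩ : P) = ⟨y, hy⟩ * ⟨x, hx⟩ from ?_))
    calc (⟨x, hx⟩ * ⟨y, hy⟩ : P) = ((⟨x, hx⟩ * ⟨y, hy⟩ : P))⁻¹ := (inv_eq_of_mul_eq_one_right (hsq _)).symm
      _ = (⟨y, hy⟩ : P)⁻¹ * (⟨x, hx⟩ : P)⁻¹ := _root_.mul_inv_rev _ _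
      _ = _ := by rw [inv_eq_of_mul_eq_one_right (hsq _), inv_eq_of_mul_eq_one_right (hsq _)]
  · let W : Submodule (AlgebraicClosure F) (Fin 4 → AlgebraicClosure F) :=
      { carrier := {v | v 1 = 0 ∧ v 2 = 0}
        zero_mem' := ⟨rfl, rfl⟩
        add_mem' := fun {u v} hu hv => ⟨by simp [hu.1, hv.1], by simp [hu.2, hv.2]⟩
        smul_mem' := fun c v hv => ⟨by simp [hv.1], by simp [hv.2]⟩ }
    refine contra_sub hc ι (st ⟨B, hB⟩).1 W (u := Pi.single 0 1) (v := Pi.single 1 1)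
      ⟨by simp, by simp⟩ (by simp) (fun hh => by simpa using hh.1) fun g hg w hw => ?_
    obtain ⟨a1, a2, a3, a4, -⟩ : Pr (Ψ ⟨g, hg⟩).1.1 := (show (⟨g, hg⟩ : P) ∈ S from e' ▸ Subgroup.mem_top _)
    show (Ψ ⟨g, hg⟩).1.1 *ᵥ w ∈ W
    constructor <;> simp [Matrix.mulVec, dotProduct, Fin.sum_univ_four, a1, a2, a3, a4, hw.1, hw.2]

theorem no_st_tv (hc : Core P) [PerfectRing F 2] (hF : ∃ μ : F, μ ≠ 0 ∧ μ ≠ 1) {z : G4} (hz : z ∈ P) {a : V}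
    (ha : a ≠ 0) : (st ⟨z, hc.le hz⟩).1 ≠ tv a := by
  classical
  intro e
  have hA : (A (tw P)).Nonempty := ⟨a, ha, mem_tw.2 ⟨⟨z, hc.le hz⟩, hz, e⟩⟩
  rcases trans_cases hc.tw_base hA hF with h | h | ⟨K, hK, B, hB, h⟩
  · refine hc.proper fun g hg => ?_
    obtain ⟨u, hu, hu'⟩ := mem_tw.1 (sp_le_of_tv tw_le (fun v hv => (h v hv).2) (st ⟨g, hg⟩).2)
    have := st_injective (Subtype.ext hu' : st u = st ⟨g, hg⟩)
    rwa [this] at hu
  · exact no_quad_tw hc h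
  · -- rational
    let σ : F →+* F := (frobeniusEquiv F 2).symm.toRingHom
    refine hc.noSub K hK ⟨(ext σ (st ⟨B, hB⟩).1)⁻¹, ?_⟩
    rintro _ ⟨g, hg, rfl⟩ i j
    rw [inv_inv, ← Units.val_mul, ← Units.val_mul]
    refine subfield_sqrt K ?_
    let u : ↥(Sp4 F) := ⟨B⁻¹ * (st ⟨g, hc.le hg⟩).1 * B, mul_mem (mul_mem (inv_mem hB) (st _).2) hB⟩
    have hu : ∀ a b, (st u).1.1 a b ∈ K := fun a b => by
      rw [st_val]
      have hK' : ∀ c d, u.1.1 c d ∈ K := fun c d => h _ (mem_tw.2 ⟨⟨g, hc.le hg⟩, hg, rfl⟩) c d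
      exact K.sub_mem (K.mul_mem (hK' _ _) (hK' _ _)) (K.mul_mem (hK' _ _) (hK' _ _))
    have hσ : ∀ x : F, frobenius F 2 (σ x) = x := fun x => frobeniusEquiv_symm_pow_p F 2 x
    have hσ' : ext (frobenius F 2) (ext σ (st ⟨B, hB⟩).1) = (st ⟨B, hB⟩).1 := Units.ext (by
      ext a b; exact hσ _)
    have key : ext (frobenius F 2) ((ext σ (st ⟨B, hB⟩).1)⁻¹ * g * ext σ (st ⟨B, hB⟩).1) = (st u).1 := by
      rw [map_mul, map_mul, map_inv, hσ', st_conj _ hB u rfl]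
    have := hu i j
    rw [← key] at this
    exact this

/-- The socle is a CIT group. -/
theorem Core.isCIT (hc : Core P) [PerfectRing F 2] (hF : ∃ μ : F, μ ≠ 0 ∧ μ ≠ 1) : CfsgLib.CIT.IsCIT P := by
  intro t y ht hy hcm
  have ht' : t.1 * t.1 = 1 := by
    rw [← sq, ← ht]; exact congrArg Subtype.val (pow_orderOf_eq_one t)
  have ht1 : t.1 ≠ 1 := fun e => by
    rw [show t = 1 from Subtype.ext e, orderOf_one] at ht; omega
  rcases invol_cases (hc.le t.2) ht' ht1 with ⟨a, ha, e⟩ | ⟨a, ha, e⟩ | h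
  · have hmem : a ∈ A P := ⟨ha, e ▸ t.2⟩
    rw [no_tv hc hF] at hmem
    exact absurd hmem (Set.notMem_empty a)
  · exact absurd e (no_st_tv hc hF t.2 ha)
  · exact Subtype.ext (h y.1 (hc.le y.2) (by rwa [Subgroup.orderOf_coe]) (congrArg Subtype.val hcm))

end CfsgLib.CMax.SpFourRes
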